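import Cfsg.Agent.Lib.Trans3.FischerType.TripleCoord
import Cfsg.Agent.Lib.PLocal.LargeExtraCriterion
import Cfsg.Agent.Lib.InvChar.HallJankoSetup

/-!
The pack at the involution of large Fischer type, and the local subgroup over a point.
-/

set_option autoImplicit false
set_option linter.unusedSectionVars false

namespace CfsgLib.Trans3.FischerType

open Subgroup CfsgLib.PLocal.LargeExtra CfsgLib.Trans3.FiLarge
open scoped MatrixGroups

variable {G : Type*} [Group G] [Finite G] {z : G} {Q : Subgroup (Subgroup.centralizer ({z} : Set G))}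

theorem pack_of_type [Q.Normal] (hF : Cfsg.IsOfLargeFischerTypeAt z Q) :
    Pack (Q.map (centralizer ({z} : Set G)).subtype) z ∧ Nat.card Q = 2 ^ 13 := by
  obtain ⟨⟨hz, hfit, hext, hcard, -⟩, -⟩ := hF
  refine ⟨pack_of_fstar hz (map_subtype_le _) (by rw [hfit]) ?_, hcard⟩
  exact InvChar.HJType.extraspecial_of_equiv (equivMapOfInjective Q _ (subtype_injective _)) hext

/-- The local subgroup at a point of the right kind. -/
theorem elementary_eight_local [Q.Normal] (hF : Cfsg.IsOfLargeFischerTypeAt z Q) (c : Coord z Q) {v : V6}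
    (hv : StabAt c.b v) (hconj : ∀ s ∈ Q, c.pr s = v → IsConj z (s : G)) :
    ∃ V : Subgroup G, Cfsg.IsElementaryAbelian 2 V ∧ Nat.card V = 8 ∧ z ∈ V ∧ ∃ R : Subgroup G,
      R = (Cfsg.pCore 2 ↥(Subgroup.normalizer (V : Set G))).map (Subgroup.normalizer (V : Set G)).subtype ∧
      Cfsg.IsSpecial 2 ↥R ∧ Nat.card R = 2 ^ 15 ∧ (Subgroup.center ↥R).map R.subtype = V ∧
      ∃ _ : (R.subgroupOf (Subgroup.normalizer (V : Set G))).Normal,
        Nonempty (↥(Subgroup.normalizer (V : Set G)) ⧸ R.subgroupOf (Subgroup.normalizer (V : Set G)) ≃*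
          SL(3, ZMod 2) × ↥(alternatingGroup (Fin 6))) := by
  obtain ⟨hP, hcard⟩ := pack_of_type hF
  obtain ⟨s₀, hs, hpr⟩ := c.pr_surj v
  obtain ⟨g, hg⟩ := isConj_iff.1 (hconj s₀ hs hpr)
  obtain ⟨x, d⟩ := pointFacts_of_coord c hP hcard hv s₀ hs hpr hg
  obtain ⟨S, R, t⟩ := d.exists_data
  exact ⟨_, t.conclusion⟩

end CfsgLib.Trans3.FischerType
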