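import Cfsg.Agent.Lib.Trans3.FischerType.TriplePoint
import Cfsg.Agent.Lib.Trans3.FiLarge.Coord
import Cfsg.Agent.Lib.PLocal.LargeExtraSing

/-!
From coordinates on `Q / ⟨z⟩` and the stabiliser of a vector in `Kb` to the facts at a point.
-/

set_option autoImplicit false
set_option linter.unusedSectionVars false

namespace CfsgLib.Trans3.FischerType

open Subgroup Matrix CfsgLib.PLocal.LargeExtra CfsgLib.Chev.U43U6 CfsgLib.Trans3.FiLarge

/-- The stabiliser in a cover of a vector has shape `2⁴:A₆`, the normal subgroup being transvection-like. -/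
structure StabAt (b : Fin 3) (v : V6) : Prop where
  iso : herm6 v v = 0
  ne : v ≠ 0
  core : ∃ N0 : Subgroup (GS F4), (∀ n ∈ N0, n ∈ FiLarge.K b ∧ mat n *ᵥ v = v) ∧ Nat.card N0 = 16 ∧
    (∀ g ∈ FiLarge.K b, mat g *ᵥ v = v → ∀ n ∈ N0, g * n * g⁻¹ ∈ N0) ∧
    (∀ X : Subgroup (GS F4), (∀ g, g ∈ X ↔ g ∈ FiLarge.K b ∧ mat g *ᵥ v = v) →
      ∃ π : ↥X →* ↥(alternatingGroup (Fin 6)), Function.Surjective π ∧ ∀ g, π g = 1 ↔ (g : GS F4) ∈ N0) ∧
    (∀ n ∈ N0, ∀ w, herm6 w v = 0 → ∃ a : F4, mat n *ᵥ w = w + a • v) ∧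
    (∀ n ∈ N0, n ≠ 1 → ∃ w, herm6 w v = 0 ∧ mat n *ᵥ w ≠ w) ∧
    ∀ S : Subgroup (GS F4), S ≤ N0 → (∀ g ∈ FiLarge.K b, mat g *ᵥ v = v → ∀ n ∈ S, g * n * g⁻¹ ∈ S) →
      S = ⊥ ∨ S = N0

theorem f4_om_sq : om ^ 2 = om + 1 := by decide

theorem f4_cases : ∀ a : F4, a = 0 ∨ a = 1 ∨ a = om ∨ a = om + 1 := by decide

theorem f4_add_cancel : ∀ p q : F4, p + q + p = q := by decide

theorem f4_smul_right (u v : V6) (a : F4) : herm6 u (a • v) = a ^ 2 * herm6 u v := by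
  simp only [herm6, Cfsg.hermForm, Pi.smul_apply, smul_eq_mul, mul_pow, Finset.mul_sum]
  exact Finset.sum_congr rfl fun i _ => by ring

theorem f4_smul_left (u v : V6) (a : F4) : herm6 (a • u) v = a * herm6 u v := by
  simp only [herm6, Cfsg.hermForm, Pi.smul_apply, smul_eq_mul, Finset.mul_sum]
  exact Finset.sum_congr rfl fun i _ => by ring

theorem mat_mul_gs (a b : GS F4) : mat (a * b) = mat a * mat b := rfl

theorem mat_one_gs : mat (1 : GS F4) = 1 := rfl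

theorem exists_scalar (b : Fin 3) : ∃ g ∈ FiLarge.K b, mat g = om • (1 : Matrix (Fin 6) (Fin 6) F4) := by
  obtain ⟨g, hg⟩ : ∃ g : Scal (F := F4), g ≠ 1 := by
    have : Nontrivial (Scal (F := F4)) := Finite.one_lt_card_iff_nontrivial.1
      (by rw [card_Scal isOmega_om card_F4]; norm_num)
    exact exists_ne 1
  obtain ⟨a, ha⟩ := g.2
  have hK := Scal_le_Kb isOmega_om card_F4 b g.2
  rcases f4_cases a with rfl | rfl | rfl | rfl
  · exact absurd (congrFun (congrFun ha 0) 0) fun e => by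
      have hdet : (mat (g : GS F4)).det = 1 := (g : GS F4).1.2
      rw [ha, zero_smul] at hdet
      exact zero_ne_one ((Matrix.det_eq_zero_of_row_eq_zero 0 fun _ => rfl).symm.trans hdet)
  · exact absurd (Subtype.ext (Subtype.ext (Subtype.ext (ha.trans (one_smul _ _))))) hg
  · exact ⟨_, hK, ha⟩
  · refine ⟨_, mul_mem hK hK, ?_⟩
    rw [mat_mul_gs, ha, Matrix.smul_mul, Matrix.one_mul, smul_smul]
    congr 1

variable {G : Type*} [Group G] [Finite G]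

/-- The index of the centraliser of a non-central element. -/
theorem index_two_of_not_commute {P : Subgroup G} {c : G} (hP : Pack P c) {A : Subgroup G} (hA : A ≤ P)
    {g a : G} (hg : g ∈ P) (ha : a ∈ A) (hag : a * g ≠ g * a) :
    (A ⊓ centralizer ({g} : Set G)).relIndex A = 2 := by
  refine le_antisymm (conj_cases_index hP hg hA).2 ?_
  have h0 : (A ⊓ centralizer ({g} : Set G)).relIndex A ≠ 0 := Subgroup.index_ne_zero_of_finite
  have h1 : (A ⊓ centralizer ({g} : Set G)).relIndex A ≠ 1 := fun e =>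
    hag (mem_centralizer_singleton_iff.1 (Subgroup.relIndex_eq_one.1 e ha).2)
  omega

variable {z : G} {Q : Subgroup (Subgroup.centralizer ({z} : Set G))}

/-- Coordinates at a conjugate of `z`, with a given element acting as a scalar, give the facts at a point. -/
theorem pointFacts_of_scalar (c : Coord z Q) (hP : Pack (Q.map (centralizer ({z} : Set G)).subtype) z)
    (hcard : Nat.card Q = 2 ^ 13) {v : V6} (hv : StabAt c.b v)
    (s₀ : Subgroup.centralizer ({z} : Set G)) (hs : s₀ ∈ Q) (hpr : c.pr s₀ = v) {g : G}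
    (hg : g * z * g⁻¹ = (s₀ : G)) (x₀ : c.M) (hx₀m : mat (c.act x₀) = om • (1 : Matrix (Fin 6) (Fin 6) F4)) :
    PointFacts (Q.map (centralizer ({z} : Set G)).subtype)
      ((Q.map (centralizer ({z} : Set G)).subtype).map (MulAut.conj g).toMonoidHom)
      (c.M.map (centralizer ({z} : Set G)).subtype) z (s₀ : G)
      ((x₀ : Subgroup.centralizer ({z} : Set G)) : G) := by
  haveI : Fact (Nat.Prime 2) := ⟨Nat.prime_two⟩
  obtain ⟨hiso, hne, N0, hN0, hN0c, hN0n, hquot, htrans, hfaith, hirr⟩ := hv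
  obtain ⟨Q', hQ'⟩ : ∃ Q', Q' = Q.map (centralizer ({z} : Set G)).subtype := ⟨_, rfl⟩
  obtain ⟨M', hM'⟩ : ∃ M', M' = c.M.map (centralizer ({z} : Set G)).subtype := ⟨_, rfl⟩
  rw [← hQ'] at hP
  rw [← hQ', ← hM']
  obtain ⟨s, hsd⟩ : ∃ s, s = (s₀ : G) := ⟨_, rfl⟩
  rw [← hsd] at hg ⊢
  have hcardQ' : Nat.card Q' = 2 ^ 13 := by
    rw [hQ', card_map_of_injective (Subgroup.subtype_injective _), hcard]
  have hmemQ : ∀ {a : G}, a ∈ Q' → ∃ a₀ ∈ Q, (a₀ : G) = a := fun ha => by rw [hQ'] at ha; exact ha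
  have hinQ : ∀ {a₀ : Subgroup.centralizer ({z} : Set G)}, a₀ ∈ Q → (a₀ : G) ∈ Q' := fun ha =>
    hQ' ▸ ⟨_, ha, rfl⟩
  have hmemM : ∀ {a : G}, a ∈ M' → ∃ a₀ ∈ c.M, (a₀ : G) = a := fun ha => by rw [hM'] at ha; exact ha
  have hsQ : s ∈ Q' := hsd ▸ hinQ hs
  have hsne : s ≠ z := fun e => hne (hpr ▸ (c.pr_eq_zero s₀ hs).2 (Or.inr (hsd.symm.trans e)))
  have hs1 : s ≠ 1 := fun e => hne (hpr ▸ (c.pr_eq_zero s₀ hs).2 (Or.inl (hsd.symm.trans e)))
  have hs2 : s * s = 1 := by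
    have := congrArg Subtype.val ((c.sq_iff s₀ hs).2 (hpr ▸ hiso))
    rw [hsd]; simpa using this
  have hpair : Pair Q' (Q'.map (MulAut.conj g).toMonoidHom) z s := hg ▸ pair_of_conj hP (hg ▸ hsne) (hg ▸ hsQ)
  -- the scalar
  obtain ⟨sc, hx₀⟩ : ∃ sc, c.act x₀ = sc := ⟨_, rfl⟩
  have hscm := hx₀ ▸ hx₀m
  obtain ⟨y₀, hy₀⟩ : ∃ y₀, y₀ = (x₀ : Subgroup.centralizer ({z} : Set G)) * s₀ *
    (x₀ : Subgroup.centralizer ({z} : Set G))⁻¹ := ⟨_, rfl⟩
  have hnormQ : ∀ (h : Subgroup.centralizer ({z} : Set G)) {a : Subgroup.centralizer ({z} : Set G)},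
      a ∈ Q → h * a * h⁻¹ ∈ Q := fun h a ha => by
    have h1 := (mem_normalizer_iff.1 (hP.norm h.2) a).1 (hinQ ha)
    obtain ⟨b, hb, e⟩ := hmemQ h1
    have : b = h * a * h⁻¹ := Subtype.ext (by push_cast; exact e)
    exact this ▸ hb
  have hy₀Q : y₀ ∈ Q := hy₀ ▸ hnormQ _ hs
  have hpry : c.pr y₀ = om • v := by
    rw [hy₀, c.conj_pr x₀ s₀ hs, hx₀, hscm, Matrix.smul_mulVec, Matrix.one_mulVec, hpr]
  obtain ⟨x, hxd⟩ : ∃ x, x = ((x₀ : Subgroup.centralizer ({z} : Set G)) : G) := ⟨_, rfl⟩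
  have hy : x * s * x⁻¹ = (y₀ : G) := by rw [hy₀, hxd, hsd]; push_cast; rfl
  have hxz : x * z = z * x := hxd ▸ mem_centralizer_singleton_iff.1 (x₀ : Subgroup.centralizer ({z} : Set G)).2
  -- coordinates of the four-group and of the group of order eight
  have hprz : ∀ a₀ ∈ Q, ∀ b₀ ∈ Q, c.pr a₀ = c.pr b₀ → (a₀ : G) = b₀ ∨ (a₀ : G) = z * b₀ := by
    intro a₀ ha b₀ hb e
    have hb' : c.pr b₀⁻¹ = c.pr b₀ := by
      have h := c.pr_mul b₀ hb b₀⁻¹ (inv_mem hb)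
      rw [mul_inv_cancel, (c.pr_eq_zero 1 (one_mem _)).2 (Or.inl rfl)] at h
      funext i
      have hi := congrFun h i
      simp only [Pi.zero_apply, Pi.add_apply] at hi
      revert hi
      generalize c.pr b₀ i = p
      generalize c.pr b₀⁻¹ i = q
      revert p q
      decide
    have h0 : c.pr (a₀ * b₀⁻¹) = 0 := by
      rw [c.pr_mul a₀ ha _ (inv_mem hb), hb', e]
      funext i
      simp only [Pi.zero_apply, Pi.add_apply]
      generalize c.pr b₀ i = p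
      revert p
      decide
    rcases (c.pr_eq_zero _ (mul_mem ha (inv_mem hb))).1 h0 with h | h <;> push_cast at h
    · exact Or.inl (mul_inv_eq_one.1 h)
    · exact Or.inr (mul_inv_eq_iff_eq_mul.1 h)
  obtain ⟨V, hV⟩ : ∃ V, V = closure (Set.range ![z, s, x * s * x⁻¹]) := ⟨_, rfl⟩
  have hzV : z ∈ V := hV ▸ subset_closure ⟨0, rfl⟩
  have hsV : s ∈ V := hV ▸ subset_closure ⟨1, rfl⟩
  have hyV : (y₀ : G) ∈ V := hy ▸ hV ▸ subset_closure ⟨2, rfl⟩
  have hmemV : ∀ a₀ ∈ Q, ∀ t : F4, c.pr a₀ = t • v → (a₀ : G) ∈ V := by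
    intro a₀ ha t ht
    obtain ⟨b₀, hb, hbV, hbp⟩ : ∃ b₀ ∈ Q, (b₀ : G) ∈ V ∧ c.pr b₀ = t • v := by
      rcases f4_cases t with rfl | rfl | rfl | rfl
      · exact ⟨1, one_mem _, one_mem _, by rw [zero_smul]; exact (c.pr_eq_zero 1 (one_mem _)).2 (Or.inl rfl)⟩
      · exact ⟨s₀, hs, hsd ▸ hsV, by rw [one_smul, hpr]⟩
      · exact ⟨y₀, hy₀Q, hyV, hpry⟩
      · exact ⟨y₀ * s₀, mul_mem hy₀Q hs, by push_cast; exact mul_mem hyV (hsd ▸ hsV),
          by rw [c.pr_mul _ hy₀Q _ hs, hpry, hpr, add_smul, one_smul]⟩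
    rcases hprz a₀ ha b₀ hb (ht.trans hbp.symm) with e | e <;> rw [e]
    exacts [hbV, mul_mem hzV hbV]
  have hprU : ∀ a₀ ∈ Q, (a₀ : G) ∈ closure ({z, s} : Set G) → c.pr a₀ = 0 ∨ c.pr a₀ = v := by
    intro a₀ ha h
    rcases (mem_four hP.z_mul_z hs2 hpair.comm).1 h with e | e | e | e
    · exact Or.inl ((c.pr_eq_zero _ ha).2 (Or.inl e))
    · exact Or.inl ((c.pr_eq_zero _ ha).2 (Or.inr e))
    · exact Or.inr (by rw [show a₀ = s₀ from Subtype.ext (e.trans hsd), hpr])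
    · obtain ⟨z₀, hz₀, hz₀e⟩ := hmemQ hP.mem
      refine Or.inr ?_
      rw [show a₀ = z₀ * s₀ from Subtype.ext (by push_cast; rw [hz₀e, ← hsd]; exact e),
        c.pr_mul _ hz₀ _ hs, (c.pr_eq_zero _ hz₀).2 (Or.inr hz₀e), zero_add, hpr]
  have hyout : ∀ a₀ ∈ Q, c.pr a₀ = om • v → (a₀ : G) ∉ closure ({z, s} : Set G) := by
    intro a₀ ha he h
    obtain ⟨i, hi⟩ : ∃ i, v i ≠ 0 := by
      by_contra hn; push Not at hn; exact hne (funext hn)
    rcases hprU a₀ ha h with e | e <;> rw [he] at e <;> have e' := congrFun e i <;>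
      simp only [Pi.smul_apply, Pi.zero_apply, smul_eq_mul] at e' <;> revert e' hi <;>
      generalize v i = p <;> revert p <;> decide
  have hVQ : V ≤ Q' := by
    rw [hV, closure_le]
    rintro _ ⟨i, rfl⟩
    fin_cases i
    exacts [hP.mem, hsQ, hy ▸ hinQ hy₀Q]
  have hxnorm : x ∈ normalizer (V : Set G) := by
    refine mem_normalizer_iff_map_conj_eq.2 (eq_of_le_of_card_ge ?_ (le_of_eq
      (card_map_of_injective (MulEquiv.injective _)).symm))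
    conv_lhs => rw [hV]
    rw [MonoidHom.map_closure, closure_le]
    rintro _ ⟨_, ⟨i, rfl⟩, rfl⟩
    show x * _ * x⁻¹ ∈ V
    fin_cases i
    · show x * z * x⁻¹ ∈ V
      rw [hxz, mul_inv_cancel_right]; exact hzV
    · show x * s * x⁻¹ ∈ V
      rw [hy]; exact hyV
    · show x * (x * s * x⁻¹) * x⁻¹ ∈ V
      have h := hmemV _ (hnormQ (x₀ : Subgroup.centralizer ({z} : Set G)) hy₀Q) (om * om) (by
        rw [c.conj_pr x₀ y₀ hy₀Q, hx₀, hscm, Matrix.smul_mulVec, Matrix.one_mulVec, hpry, smul_smul])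
      rw [hy, hxd]
      exact h
  -- elements of `M` fixing `s`
  have hlin : ∀ m₀ : c.M, ((m₀ : Subgroup.centralizer ({z} : Set G)) : G) * s =
      s * ((m₀ : Subgroup.centralizer ({z} : Set G)) : G) → mat (c.act m₀) *ᵥ v = v := by
    intro m₀ h
    have e : (m₀ : Subgroup.centralizer ({z} : Set G)) * s₀ * (m₀ : Subgroup.centralizer ({z} : Set G))⁻¹ = s₀ :=
      Subtype.ext (by push_cast; rw [← hsd]; exact mul_inv_eq_iff_eq_mul.2 h)
    have := c.conj_pr m₀ s₀ hs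
    rw [e, hpr] at this
    exact this.symm
  obtain ⟨Mc, hMc⟩ : ∃ Mc, Mc = M' ⊓ centralizer (V : Set G) := ⟨_, rfl⟩
  have hlift : ∀ m : ↥Mc, ∃ m₀ : c.M, ((m₀ : Subgroup.centralizer ({z} : Set G)) : G) = m := fun m => by
    have hm : (m : G) ∈ M' := (hMc ▸ m.2 : (m : G) ∈ M' ⊓ centralizer (V : Set G)).1
    obtain ⟨a₀, ha, e⟩ := hmemM hm
    exact ⟨⟨a₀, ha⟩, e⟩
  choose lft hlft using hlift
  have hlmul : ∀ a b, lft (a * b) = lft a * lft b := fun a b => Subtype.ext (Subtype.ext (by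
    rw [hlft]; push_cast; rw [hlft, hlft]))
  let θ : ↥Mc →* GS F4 := MonoidHom.mk' (fun m => c.act (lft m)) fun a b => by rw [hlmul, map_mul]
  have hθ : ∀ m (a₀ : Subgroup.centralizer ({z} : Set G)), a₀ ∈ Q →
      c.pr ((lft m : Subgroup.centralizer ({z} : Set G)) * a₀ * (lft m : Subgroup.centralizer ({z} : Set G))⁻¹) =
        mat (θ m) *ᵥ c.pr a₀ := fun m a₀ ha => c.conj_pr (lft m) a₀ ha
  have hMcV : ∀ m : ↥Mc, (m : G) ∈ centralizer (V : Set G) := fun m =>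
    (hMc ▸ m.2 : (m : G) ∈ M' ⊓ centralizer (V : Set G)).2
  obtain ⟨X, hX⟩ : ∃ X : Subgroup (GS F4), ∀ g, g ∈ X ↔ g ∈ FiLarge.K c.b ∧ mat g *ᵥ v = v := by
    refine ⟨{ carrier := {g | g ∈ FiLarge.K c.b ∧ mat g *ᵥ v = v}, one_mem' := ?_, mul_mem' := ?_,
              inv_mem' := ?_ }, fun g => Iff.rfl⟩
    · intro a b hab hab'
      obtain ⟨ha, ha'⟩ := hab
      obtain ⟨hb, hb'⟩ := hab'
      exact ⟨mul_mem ha hb, by rw [mat_mul_gs, ← Matrix.mulVec_mulVec, hb', ha']⟩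
    · exact ⟨one_mem _, by rw [mat_one_gs, Matrix.one_mulVec]⟩
    · intro a hab
      obtain ⟨ha, ha'⟩ := hab
      refine ⟨inv_mem ha, ?_⟩
      conv_lhs => rw [← ha', Matrix.mulVec_mulVec, ← mat_mul_gs, inv_mul_cancel, mat_one_gs,
        Matrix.one_mulVec]
  have hθX : ∀ m, θ m ∈ X := fun m => (hX _).2 ⟨c.range_act ▸ ⟨lft m, rfl⟩,
    hlin _ (by rw [hlft]; exact (mem_centralizer_iff.1 (hMcV m) s hsV).symm)⟩
  have hMz : M' ≤ centralizer ({z} : Set G) := hM' ▸ map_subtype_le _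
  have hQM : Q' ≤ M' := by rw [hQ', hM']; exact Subgroup.map_mono c.le_M
  have hynot : (y₀ : G) ∉ closure ({z, s} : Set G) := hyout y₀ hy₀Q hpry
  have hynU : ∀ w, w = 1 ∨ w = z ∨ w = s ∨ w = z * s → (y₀ : G) ≠ w := fun w hw e =>
    hynot (e ▸ (mem_four hP.z_mul_z hs2 hpair.comm).2 hw)
  have hy2 : (y₀ : G) * y₀ = 1 := by
    rw [← hy, show x * s * x⁻¹ * (x * s * x⁻¹) = x * (s * s) * x⁻¹ by group, hs2]; group
  obtain ⟨q₁, hq₁, hq₁z, hq₁s, hq₁y⟩ := exists_transvection hP hsQ (hinQ hy₀Q) hy2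
    ⟨hynU 1 (Or.inl rfl), hynU z (Or.inr (Or.inl rfl))⟩
    ⟨hs1, hsne, (hynU s (Or.inr (Or.inr (Or.inl rfl)))).symm, fun e => hynU (z * s) (Or.inr (Or.inr (Or.inr rfl)))
      (by rw [e, ← mul_assoc, hP.z_mul_z, one_mul])⟩
  obtain ⟨q₂, hq₂, hq₂z, hq₂y, hq₂s⟩ := exists_transvection hP (hinQ hy₀Q) hsQ hs2 ⟨hs1, hsne⟩
    ⟨hynU 1 (Or.inl rfl), hynU z (Or.inr (Or.inl rfl)), hynU s (Or.inr (Or.inr (Or.inl rfl))),
      hynU (z * s) (Or.inr (Or.inr (Or.inr rfl)))⟩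
  have hcenV : ∀ w, w * z = z * w → w * s = s * w → w * y₀ = y₀ * w → w ∈ centralizer (V : Set G) :=
    fun w h1 h2 h3 => mem_centralizer_iff.2 fun u hu => by
      have hle : V ≤ centralizer ({w} : Set G) := by
        rw [hV, closure_le]
        rintro _ ⟨i, rfl⟩
        fin_cases i
        exacts [mem_centralizer_singleton_iff.2 h1.symm, mem_centralizer_singleton_iff.2 h2.symm,
          mem_centralizer_singleton_iff.2 (show x * s * x⁻¹ * w = w * (x * s * x⁻¹) by rw [hy]; exact h3.symm)]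
      exact mem_centralizer_singleton_iff.1 (hle hu)
  have hθsurj : ∀ k ∈ X, ∃ m, θ m = k := by
    intro k hk
    obtain ⟨hkK, hkv⟩ := (hX k).1 hk
    obtain ⟨m₀, hm₀⟩ : ∃ m₀ : c.M, c.act m₀ = k := by
      have : k ∈ c.act.range := c.range_act ▸ hkK
      exact this
    obtain ⟨m, hm⟩ : ∃ m, m = ((m₀ : Subgroup.centralizer ({z} : Set G)) : G) := ⟨_, rfl⟩
    have hmz : m * z * m⁻¹ = z := by
      rw [hm]; exact mul_inv_eq_iff_eq_mul.2 (mem_centralizer_singleton_iff.1 (m₀ : Subgroup.centralizer ({z} : Set G)).2)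
    have hms : m * s * m⁻¹ = s ∨ m * s * m⁻¹ = z * s := by
      have := hprz _ (hnormQ (m₀ : Subgroup.centralizer ({z} : Set G)) hs) s₀ hs
        (by rw [c.conj_pr m₀ s₀ hs, hm₀, hpr, hkv])
      push_cast at this
      rw [hm, hsd]; exact this
    have hmy : m * y₀ * m⁻¹ = y₀ ∨ m * y₀ * m⁻¹ = z * y₀ := by
      have := hprz _ (hnormQ (m₀ : Subgroup.centralizer ({z} : Set G)) hy₀Q) y₀ hy₀Q
        (by rw [c.conj_pr m₀ y₀ hy₀Q, hm₀, hpry, Matrix.mulVec_smul, hkv])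
      push_cast at this
      rw [hm]; exact this
    have hfix : ∀ q ∈ Q', q * z * q⁻¹ = z := fun q hq => mul_inv_eq_iff_eq_mul.2 (hP.comm_z hq)
    have cm : ∀ q u t : G, q * m * u * (q * m)⁻¹ = t ↔ q * (m * u * m⁻¹) * q⁻¹ = t := fun q u t => by
      rw [show q * m * u * (q * m)⁻¹ = q * (m * u * m⁻¹) * q⁻¹ by group]
    have czm : ∀ q u : G, q * z * q⁻¹ = z → q * (z * u) * q⁻¹ = z * (q * u * q⁻¹) := fun q u hq => by
      rw [show q * (z * u) * q⁻¹ = q * z * q⁻¹ * (q * u * q⁻¹) by group, hq]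
    obtain ⟨q, hq, hqs, hqy⟩ : ∃ q ∈ Q', q * (m * s * m⁻¹) * q⁻¹ = s ∧ q * (m * y₀ * m⁻¹) * q⁻¹ = y₀ := by
      have zz : ∀ u : G, z * (z * u) = u := fun u => by rw [← mul_assoc, hP.z_mul_z, one_mul]
      rcases hms with e | e <;> rcases hmy with e' | e' <;> rw [e, e']
      · exact ⟨1, one_mem _, by group, by group⟩
      · exact ⟨q₂, hq₂, hq₂s, by rw [czm _ _ hq₂z, hq₂y, zz]⟩
      · exact ⟨q₁, hq₁, by rw [czm _ _ hq₁z, hq₁s, zz], hq₁y⟩
      · refine ⟨q₁ * q₂, mul_mem hq₁ hq₂, ?_, ?_⟩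
        · rw [show q₁ * q₂ * (z * s) * (q₁ * q₂)⁻¹ = q₁ * (q₂ * (z * s) * q₂⁻¹) * q₁⁻¹ by group,
            czm _ _ hq₂z, hq₂s, czm _ _ hq₁z, hq₁s, zz]
        · rw [show q₁ * q₂ * (z * (y₀ : G)) * (q₁ * q₂)⁻¹ = q₁ * (q₂ * (z * y₀) * q₂⁻¹) * q₁⁻¹ by group,
            czm _ _ hq₂z, hq₂y, zz, hq₁y]
    have hmem : q * m ∈ Mc := by
      refine hMc ▸ ⟨mul_mem (hQM hq) (hM' ▸ ⟨_, m₀.2, hm.symm⟩), hcenV _ ?_ ?_ ?_⟩
      · exact mul_inv_eq_iff_eq_mul.1 ((cm _ _ _).2 (by rw [hmz, hfix q hq]))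
      · exact mul_inv_eq_iff_eq_mul.1 ((cm _ _ _).2 hqs)
      · exact mul_inv_eq_iff_eq_mul.1 ((cm _ _ _).2 hqy)
    refine ⟨⟨q * m, hmem⟩, ?_⟩
    obtain ⟨q₀, hq₀, hq₀e⟩ := hmemQ hq
    show c.act (lft _) = k
    rw [show lft ⟨q * m, hmem⟩ = ⟨q₀, c.le_M hq₀⟩ * m₀ from Subtype.ext (Subtype.ext (by
        rw [hlft]; push_cast; rw [hq₀e, ← hm])),
      map_mul, (c.ker_act ⟨q₀, c.le_M hq₀⟩).2 hq₀, one_mul, hm₀]
  have hker : ∀ m, θ m = 1 ↔ (m : G) ∈ Q' := fun m => by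
    show c.act (lft m) = 1 ↔ _
    rw [c.ker_act, ← hlft m]
    exact ⟨fun h => hinQ h, fun h => by
      obtain ⟨a, ha, e⟩ := hmemQ h
      exact (Subtype.ext e : a = _) ▸ ha⟩
  let θ' : ↥Mc →* ↥X := θ.codRestrict X hθX
  obtain ⟨π, hπ, hπk⟩ := hquot X hX
  obtain ⟨R, hR⟩ : ∃ R, R = (N0.comap θ).map Mc.subtype := ⟨_, rfl⟩
  have hmemR : ∀ {r : G}, r ∈ R ↔ ∃ h : r ∈ Mc, θ ⟨r, h⟩ ∈ N0 := fun {r} => by
    rw [hR]
    constructor
    · rintro ⟨m, hm, rfl⟩; exact ⟨m.2, hm⟩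
    · rintro ⟨h, hm⟩; exact ⟨⟨r, h⟩, hm, rfl⟩
  have hA : Nat.card ↥(Q' ⊓ centralizer (V : Set G)) = 2 ^ 11 := by
    have e1 : Q' ⊓ centralizer (V : Set G) =
        Q' ⊓ centralizer ({s} : Set G) ⊓ centralizer ({(y₀ : G)} : Set G) := by
      refine le_antisymm (fun w hw => ⟨⟨hw.1, mem_centralizer_singleton_iff.2
          (mem_centralizer_iff.1 hw.2 s hsV).symm⟩, mem_centralizer_singleton_iff.2
          (mem_centralizer_iff.1 hw.2 _ hyV).symm⟩) fun w hw => ⟨hw.1.1, hcenV w (hP.comm_z hw.1.1)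
          (mem_centralizer_singleton_iff.1 hw.1.2) (mem_centralizer_singleton_iff.1 hw.2)⟩
    have hnc : ∀ q u : G, q * u * q⁻¹ = z * u → q * u ≠ u * q := fun q u e e' => hP.z_ne (by
      have h := e.symm.trans (mul_inv_eq_iff_eq_mul.2 e')
      exact mul_eq_right.1 h)
    have k1 := index_two_of_not_commute hP (le_refl Q') hsQ hq₁ (hnc _ _ hq₁s)
    have k2 := index_two_of_not_commute hP (A := Q' ⊓ centralizer ({s} : Set G)) inf_le_left (hinQ hy₀Q)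
      ⟨hq₂, mem_centralizer_singleton_iff.2 (mul_inv_eq_iff_eq_mul.1 hq₂s)⟩ (hnc _ _ hq₂y)
    have h1 := Subgroup.relIndex_mul_relIndex ⊥ (Q' ⊓ centralizer (V : Set G)) Q' bot_le inf_le_left
    have h2 := Subgroup.relIndex_mul_relIndex (Q' ⊓ centralizer ({s} : Set G) ⊓ centralizer ({(y₀ : G)} : Set G))
      (Q' ⊓ centralizer ({s} : Set G)) Q' inf_le_left inf_le_left
    rw [k1, k2, ← e1] at h2
    rw [Subgroup.relIndex_bot_left, Subgroup.relIndex_bot_left, ← h2, hcardQ'] at h1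
    omega
  have hRcard : Nat.card R = 2 ^ 15 := by
    rw [hR, card_map_of_injective (Subgroup.subtype_injective _)]
    have e1 : (N0.comap θ).map θ = N0 := by
      rw [Subgroup.map_comap_eq]
      exact inf_eq_right.2 fun n hn => hθsurj n ((hX n).2 (hN0 n hn))
    have h1 : Nat.card θ.ker = 2 ^ 11 := by
      rw [← hA, ← card_map_of_injective (Subgroup.subtype_injective Mc) (K := θ.ker)]
      refine congrArg (fun S : Subgroup G => Nat.card S) (Subgroup.ext fun w => ⟨?_, fun hw => ⟨(⟨w, by rw [hMc]; exact ⟨hQM hw.1, hw.2⟩⟩ : ↥Mc), (hker _).2 hw.1, rfl⟩⟩)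
      rintro ⟨m, hm, rfl⟩
      exact ⟨(hker m).1 hm, hMcV m⟩
    have hle : θ.ker ≤ N0.comap θ := fun m hm => by rw [mem_comap, (MonoidHom.mem_ker).1 hm]; exact one_mem _
    have h2 := Subgroup.relIndex_mul_relIndex ⊥ θ.ker (N0.comap θ) bot_le hle
    have h3 : θ.ker.relIndex (N0.comap θ) = 16 := by
      rw [Subgroup.relIndex_ker, e1]; exact hN0c
    rw [Subgroup.relIndex_bot_left, Subgroup.relIndex_bot_left, h3, h1] at h2
    omega
  rw [← hxd]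
  refine ⟨hpair, by rw [hcardQ']; norm_num, hMz, hQM, fun a b ha hb haM hbM => ?_, fun h hh => ?_, hxz,
    hV ▸ hxnorm, hy ▸ hinQ hy₀Q, hy ▸ hynot, fun m hm hms => ?_, R, ?_, hRcard, ⟨(π.comp θ').comp
      (Subgroup.inclusion (show M' ⊓ centralizer ((closure (Set.range ![z, s, x * s * x⁻¹]) : Subgroup G) : Set G) ≤ Mc
        by rw [hMc, hV])), ?_, ?_⟩, ?_, ?_, ?_, ?_⟩
  · have h := Subgroup.mul_mem_iff_of_index_two c.index_M
      (a := ⟨a, mem_centralizer_singleton_iff.2 ha⟩) (b := ⟨b, mem_centralizer_singleton_iff.2 hb⟩)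
    have hna : (⟨a, mem_centralizer_singleton_iff.2 ha⟩ : Subgroup.centralizer ({z} : Set G)) ∉ c.M :=
      fun h' => haM (hM' ▸ ⟨_, h', rfl⟩)
    have hnb : (⟨b, mem_centralizer_singleton_iff.2 hb⟩ : Subgroup.centralizer ({z} : Set G)) ∉ c.M :=
      fun h' => hbM (hM' ▸ ⟨_, h', rfl⟩)
    exact hM' ▸ ⟨_, h.2 ⟨fun h' => absurd h' hna, fun h' => absurd h' hnb⟩, rfl⟩
  · have hn : c.M.Normal := Subgroup.normal_of_index_eq_two c.index_M
    refine mem_normalizer_iff_map_conj_eq.2 (eq_of_le_of_card_ge ?_ (le_of_eq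
      (card_map_of_injective (MulEquiv.injective _)).symm))
    rw [hM']
    rintro _ ⟨_, ⟨m, hm, rfl⟩, rfl⟩
    exact ⟨_, hn.conj_mem m hm ⟨h, hh⟩, rfl⟩
  · obtain ⟨m₀, hm₀, e⟩ := hmemM hm
    have h := hprz _ (hnormQ m₀ hy₀Q) y₀ hy₀Q (by
      rw [c.conj_pr ⟨m₀, hm₀⟩ y₀ hy₀Q, hpry, Matrix.mulVec_smul, hlin ⟨m₀, hm₀⟩ (by
        rw [e]; exact hms)])
    push_cast at h
    rw [e] at h
    rw [hy]
    exact h
  · rw [← hV, ← hMc]
    refine le_antisymm (Amalgam.le_pCoreOf (hR ▸ map_subtype_le _) (fun w hw => ?_)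
      (IsPGroup.of_card hRcard)) ?_
    · refine mem_normalizer_iff_map_conj_eq.2 (eq_of_le_of_card_ge ?_ (le_of_eq
        (card_map_of_injective (MulEquiv.injective _)).symm))
      rintro _ ⟨r, hr, rfl⟩
      obtain ⟨hrM, hrN⟩ := hmemR.1 hr
      have hk := (hX _).1 (hθX ⟨w, hw⟩)
      refine hmemR.2 ⟨mul_mem (mul_mem hw hrM) (inv_mem hw), ?_⟩
      have := hN0n _ hk.1 hk.2 _ hrN
      rwa [← map_inv, ← map_mul, ← map_mul] at this
    · rintro _ ⟨m, hm, rfl⟩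
      refine hmemR.2 ⟨m.2, ?_⟩
      have hh := alternating_six_no_two_core
        ((Amalgam.normal_pCore (p := 2)).map (π.comp θ') (hπ.comp fun k => by
          obtain ⟨m, hm⟩ := hθsurj k k.2
          exact ⟨m, Subtype.ext hm⟩))
        ((Amalgam.isPGroup_pCore (p := 2)).map _)
      exact (hπk _).1 ((Subgroup.eq_bot_iff_forall _).1 hh _ ⟨m, hm, rfl⟩)
  · intro a
    obtain ⟨k, hk⟩ := hπ a
    obtain ⟨m, hm⟩ := hθsurj k k.2
    refine ⟨⟨m, by rw [← hV, ← hMc]; exact m.2⟩, ?_⟩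
    rw [← hk]
    exact congrArg π (Subtype.ext hm)
  · intro m
    show π (θ' _) = 1 ↔ _
    rw [hπk]
    exact ⟨fun h => hmemR.2 ⟨_, h⟩, fun h => (hmemR.1 h).2⟩
  · intro r hr hcomm
    rw [← hV] at hcomm ⊢
    obtain ⟨hrM, hrN⟩ := hmemR.1 hr
    have hrQ : r ∈ Q' := by
      by_contra hrQ
      obtain ⟨w, hw, hwn⟩ := hfaith _ hrN (fun e => hrQ ((hker ⟨r, hrM⟩).1 e))
      obtain ⟨a₀, ha, rfl⟩ := c.pr_surj w
      have hortho : ∀ b₀ ∈ Q, (∃ t : F4, c.pr b₀ = t • v) → (a₀ : G) * b₀ = b₀ * a₀ := fun b₀ hb ⟨t, ht⟩ => by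
        exact congrArg Subtype.val ((c.comm_iff a₀ ha b₀ hb).2 (by
          rw [ht, f4_smul_right, hw, mul_zero]; decide))
      have hac : (a₀ : G) ∈ centralizer (V : Set G) := hcenV _ (hP.comm_z (hinQ ha))
        (hsd ▸ hortho s₀ hs ⟨1, by rw [one_smul, hpr]⟩) (hortho y₀ hy₀Q ⟨om, hpry⟩)
      have he : (lft ⟨r, hrM⟩ : Subgroup.centralizer ({z} : Set G)) * a₀ *
          (lft ⟨r, hrM⟩ : Subgroup.centralizer ({z} : Set G))⁻¹ = a₀ := Subtype.ext (by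
        push_cast; rw [hlft]; exact mul_inv_eq_iff_eq_mul.2 (hcomm _ (hinQ ha) hac))
      have h := hθ ⟨r, hrM⟩ a₀ ha
      rw [he] at h
      exact hwn h.symm
    classical
    have h := hP.double_centralizer {s, (y₀ : G)} (by
      intro t ht
      simp only [Finset.mem_insert, Finset.mem_singleton] at ht
      rcases ht with rfl | rfl
      exacts [hsQ, hinQ hy₀Q]) r hrQ fun q hq hqt => (hcomm q hq (hcenV q (hP.comm_z hq)
        (hqt s (by simp)) (hqt _ (by simp)))).symm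
    refine (closure_le _).2 ?_ h
    intro t ht
    simp only [Finset.coe_insert, Finset.coe_singleton, Set.mem_insert_iff, Set.mem_singleton_iff] at ht
    rcases ht with rfl | rfl | rfl
    exacts [hzV, hsV, hyV]
  · intro a ha hac r hr
    rw [← hV] at hac ⊢
    obtain ⟨hrM, hrN⟩ := hmemR.1 hr
    obtain ⟨a₀, ha₀, rfl⟩ := hmemQ ha
    have hort : herm6 (c.pr a₀) v = 0 := by
      have h1 := (c.comm_iff a₀ ha₀ s₀ hs).1 (Subtype.ext (by
        push_cast; rw [← hsd]; exact (mem_centralizer_iff.1 hac s hsV).symm))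
      have h2 := (c.comm_iff a₀ ha₀ y₀ hy₀Q).1 (Subtype.ext (by
        push_cast; exact (mem_centralizer_iff.1 hac _ hyV).symm))
      rw [hpr] at h1
      rw [hpry, f4_smul_right] at h2
      revert h1 h2
      generalize herm6 (c.pr a₀) v = p
      revert p
      decide
    obtain ⟨t, ht⟩ := htrans _ hrN _ hort
    obtain ⟨b₀, hb₀, hb₀e⟩ : ∃ b₀ ∈ Q, b₀ = (lft ⟨r, hrM⟩ : Subgroup.centralizer ({z} : Set G)) * a₀ *
        (lft ⟨r, hrM⟩ : Subgroup.centralizer ({z} : Set G))⁻¹ := ⟨_, hnormQ _ ha₀, rfl⟩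
    have hb : c.pr b₀ = c.pr a₀ + t • v := by rw [hb₀e, hθ _ _ ha₀, ht]
    have hinv : c.pr a₀⁻¹ = c.pr a₀ := by
      have h := c.pr_mul a₀ ha₀ a₀⁻¹ (inv_mem ha₀)
      rw [mul_inv_cancel, (c.pr_eq_zero 1 (one_mem _)).2 (Or.inl rfl)] at h
      funext i
      have hi := congrFun h i
      simp only [Pi.zero_apply, Pi.add_apply] at hi
      revert hi
      generalize c.pr a₀ i = p
      generalize c.pr a₀⁻¹ i = q
      revert p q
      decide
    have hv' := hmemV (b₀ * a₀⁻¹) (mul_mem hb₀ (inv_mem ha₀)) t (by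
      rw [c.pr_mul _ hb₀ _ (inv_mem ha₀), hinv, hb]
      funext i
      simp only [Pi.add_apply]
      generalize c.pr a₀ i = p
      generalize (t • v) i = q
      revert p q
      decide)
    have hv'' := inv_mem hv'
    rw [hb₀e] at hv''
    push_cast at hv''
    rw [hlft] at hv''
    simpa [mul_assoc] using hv''
  · intro r hr hrQ
    rw [← hV]
    obtain ⟨hrM, hrN⟩ := hmemR.1 hr
    obtain ⟨w, hw, hwn⟩ := hfaith _ hrN (fun e => hrQ ((hker ⟨r, hrM⟩).1 e))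
    obtain ⟨t, ht⟩ := htrans _ hrN w hw
    have ht0 : t ≠ 0 := fun e => hwn (by rw [ht, e, zero_smul, add_zero])
    have hw' : herm6 ((om * t⁻¹) • w) v = 0 := by rw [f4_smul_left, hw, mul_zero]
    obtain ⟨a₀, ha, hpa⟩ := c.pr_surj ((om * t⁻¹) • w)
    have hortho : ∀ b₀ ∈ Q, (∃ t : F4, c.pr b₀ = t • v) → (a₀ : G) * b₀ = b₀ * a₀ := fun b₀ hb ⟨t', ht'⟩ => by
      exact congrArg Subtype.val ((c.comm_iff a₀ ha b₀ hb).2 (by
        rw [hpa, ht', f4_smul_right, hw', mul_zero]; decide))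
    refine ⟨a₀, hinQ ha, hcenV _ (hP.comm_z (hinQ ha)) (hsd ▸ hortho s₀ hs ⟨1, by rw [one_smul, hpr]⟩)
      (hortho y₀ hy₀Q ⟨om, hpry⟩), ?_⟩
    have hinv : c.pr a₀⁻¹ = c.pr a₀ := by
      have h := c.pr_mul a₀ ha a₀⁻¹ (inv_mem ha)
      rw [mul_inv_cancel, (c.pr_eq_zero 1 (one_mem _)).2 (Or.inl rfl)] at h
      funext i
      have hi := congrFun h i
      simp only [Pi.zero_apply, Pi.add_apply] at hi
      revert hi
      generalize c.pr a₀ i = p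
      generalize c.pr a₀⁻¹ i = q
      revert p q
      decide
    have h := hyout _ (mul_mem (hnormQ (lft ⟨r, hrM⟩ : Subgroup.centralizer ({z} : Set G)) ha) (inv_mem ha)) (by
      rw [c.pr_mul _ (hnormQ _ ha) _ (inv_mem ha), hinv, hθ _ _ ha, hpa, Matrix.mulVec_smul, ht, smul_add,
        smul_smul, mul_assoc, inv_mul_cancel₀ ht0, mul_one]
      funext i
      simp only [Pi.add_apply]
      exact f4_add_cancel _ _)
    push_cast at h
    rw [hlft] at h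
    exact h
  · intro S hAS hSR hnorm
    rw [← hV] at hAS hnorm ⊢
    rw [← hMc] at hnorm
    obtain ⟨Sb, hSb⟩ : ∃ Sb, Sb = (S.subgroupOf Mc).map θ := ⟨_, rfl⟩
    have hSN : Sb ≤ N0 := by
      rw [hSb]
      rintro _ ⟨m, hm, rfl⟩
      obtain ⟨h, h'⟩ := hmemR.1 (hSR hm)
      exact h'
    have hinv : ∀ g ∈ FiLarge.K c.b, mat g *ᵥ v = v → ∀ n ∈ Sb, g * n * g⁻¹ ∈ Sb := by
      intro g hg hgv n hn
      obtain ⟨w, rfl⟩ := hθsurj g ((hX g).2 ⟨hg, hgv⟩)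
      rw [hSb] at hn ⊢
      obtain ⟨m, hm, rfl⟩ := hn
      exact ⟨w * m * w⁻¹, (mem_normalizer_iff.1 (hnorm w.2) m).1 hm, by simp⟩
    rcases hirr Sb hSN hinv with e | e
    · refine Or.inl (le_antisymm (fun w hw => ?_) hAS)
      obtain ⟨hwM, -⟩ := hmemR.1 (hSR hw)
      refine ⟨(hker ⟨w, hwM⟩).1 ?_, hMcV ⟨w, hwM⟩⟩
      have : θ ⟨w, hwM⟩ ∈ Sb := hSb ▸ ⟨⟨w, hwM⟩, hw, rfl⟩
      rw [e] at this
      exact this
    · refine Or.inr (le_antisymm hSR fun w hw => ?_)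
      obtain ⟨hwM, hwN⟩ := hmemR.1 hw
      rw [← e, hSb] at hwN
      obtain ⟨m, hm, hme⟩ := hwN
      have : ((m⁻¹ * ⟨w, hwM⟩ : ↥Mc) : G) ∈ Q' ⊓ centralizer (V : Set G) :=
        ⟨(hker _).1 (by rw [map_mul, map_inv, hme, inv_mul_cancel]), hMcV _⟩
      have h := mul_mem (show (m : G) ∈ S from hm) (hAS this)
      simpa using h

/-- Coordinates at a conjugate of `z` give the facts at a point. -/
theorem pointFacts_of_coord (c : Coord z Q) (hP : Pack (Q.map (centralizer ({z} : Set G)).subtype) z)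
    (hcard : Nat.card Q = 2 ^ 13) {v : V6} (hv : StabAt c.b v)
    (s₀ : Subgroup.centralizer ({z} : Set G)) (hs : s₀ ∈ Q) (hpr : c.pr s₀ = v) {g : G}
    (hg : g * z * g⁻¹ = (s₀ : G)) :
    ∃ x : G, PointFacts (Q.map (centralizer ({z} : Set G)).subtype)
      ((Q.map (centralizer ({z} : Set G)).subtype).map (MulAut.conj g).toMonoidHom)
      (c.M.map (centralizer ({z} : Set G)).subtype) z (s₀ : G) x := by
  obtain ⟨sc, hscK, hscm⟩ := exists_scalar c.b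
  obtain ⟨x₀, hx₀⟩ : ∃ x₀ : c.M, c.act x₀ = sc := by
    have : sc ∈ c.act.range := c.range_act ▸ hscK
    exact this
  exact ⟨_, pointFacts_of_scalar c hP hcard hv s₀ hs hpr hg x₀ (by rw [hx₀]; exact hscm)⟩

end CfsgLib.Trans3.FischerType
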