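import Cfsg.Agent.Lib.Trans3.FischerType.StabPoint
import Cfsg.Agent.Lib.Trans3.FischerType.TripleCoord
import Cfsg.Agent.Lib.PLocal.LargeExtraPairSeries

/-!
The pair `Q`, `Q^g` at a conjugate of `z` in `Q`: the orders of the intersections and the image in the cover.
-/

set_option autoImplicit false
set_option linter.unusedSectionVars false

namespace CfsgLib.Trans3.FischerType

open Subgroup Matrix CfsgLib.PLocal.LargeExtra CfsgLib.Chev.U43U6 CfsgLib.Trans3.FiLarge

variable {G : Type*} [Group G] {z : G}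

/-- `Q` in the ambient group. -/
abbrev qAmb (Q : Subgroup (Subgroup.centralizer ({z} : Set G))) : Subgroup G :=
  Q.map (Subgroup.centralizer ({z} : Set G)).subtype

/-- The conjugate of `Q`, met with the centraliser of `z`. -/
abbrev conjIn (Q : Subgroup (Subgroup.centralizer ({z} : Set G))) (g : G) :
    Subgroup (Subgroup.centralizer ({z} : Set G)) :=
  ((qAmb Q).map (MulAut.conj g).toMonoidHom).subgroupOf (Subgroup.centralizer ({z} : Set G))

variable {Q : Subgroup (Subgroup.centralizer ({z} : Set G))}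

/-- A conjugate of `z` at the standard long vector. -/
structure At (c : Coord z Q) (s : Subgroup.centralizer ({z} : Set G)) (g : G) : Prop where
  pack : Pack (qAmb Q) z
  card : Nat.card Q = 2 ^ 13
  b0 : c.b = 0
  mem : s ∈ Q
  pr_s : c.pr s = sVec om
  conj : g * z * g⁻¹ = (s : G)

variable [Finite G] {c : Coord z Q} {s : Subgroup.centralizer ({z} : Set G)} {g : G} (d : At c s g)
include d

theorem At.pair : Pair (qAmb Q) ((qAmb Q).map (MulAut.conj g).toMonoidHom) z (s : G) := by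
  refine d.conj ▸ pair_of_conj d.pack (fun e => sVec_ne ?_) (d.conj ▸ ⟨s, d.mem, rfl⟩)
  rw [← d.pr_s]
  exact (c.pr_eq_zero s d.mem).2 (Or.inr (d.conj.symm.trans e))

theorem At.conj_mem {q : Subgroup.centralizer ({z} : Set G)} (hq : q ∈ Q)
    (h : Subgroup.centralizer ({z} : Set G)) : h * q * h⁻¹ ∈ Q := by
  obtain ⟨b, hb, e⟩ := (mem_normalizer_iff.1 (d.pack.norm h.2) (q : G)).1 ⟨q, hq, rfl⟩
  exact (show b = h * q * h⁻¹ from Subtype.ext e) ▸ hb

theorem At.z_lift : ∃ z₀ ∈ Q, (z₀ : G) = z := d.pack.mem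

theorem At.pr_eq {q r : Subgroup.centralizer ({z} : Set G)} (hq : q ∈ Q) (hr : r ∈ Q)
    (e : c.pr q = c.pr r) : (q : G) = r ∨ (q : G) = z * r := by
  have h1 : c.pr 1 = 0 := (c.pr_eq_zero 1 (one_mem _)).2 (Or.inl rfl)
  have hinv : c.pr r⁻¹ = c.pr r := by
    have h := c.pr_mul r hr _ (inv_mem hr)
    rw [mul_inv_cancel, h1] at h
    funext i
    have hi := congrFun h i
    simp only [Pi.zero_apply, Pi.add_apply] at hi
    revert hi
    generalize c.pr r i = p
    generalize c.pr r⁻¹ i = q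
    revert p q
    decide
  have h0 : c.pr (q * r⁻¹) = 0 := by
    rw [c.pr_mul q hq _ (inv_mem hr), hinv, e]
    exact char_two isOmega_om _
  rcases (c.pr_eq_zero _ (mul_mem hq (inv_mem hr))).1 h0 with h | h <;> push_cast at h
  · exact Or.inl (mul_inv_eq_one.1 h)
  · exact Or.inr (mul_inv_eq_iff_eq_mul.1 h)

theorem At.pr_z_mul {q r : Subgroup.centralizer ({z} : Set G)} (hq : q ∈ Q) (hr : r ∈ Q)
    (e : (q : G) = r ∨ (q : G) = z * r) : c.pr q = c.pr r := by
  obtain ⟨z₀, hz₀, hz⟩ := d.z_lift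
  rcases e with e | e
  · rw [show q = r from Subtype.ext e]
  · rw [show q = z₀ * r from Subtype.ext (by push_cast; rw [hz]; exact e), c.pr_mul _ hz₀ _ hr,
      (c.pr_eq_zero _ hz₀).2 (Or.inr hz), zero_add]

theorem At.card_conjIn : Nat.card (conjIn Q g) = 2 ^ 12 := by
  obtain ⟨T, hT⟩ : ∃ T, T = (qAmb Q).map (MulAut.conj g).toMonoidHom := ⟨_, rfl⟩
  have P : Pair (qAmb Q) T z (s : G) := hT ▸ d.pair
  obtain ⟨q, hq, r, hr, hqz, hqx, hrx, hrz⟩ := P.exists_movers
  have hne : r * z ≠ z * r := fun e => by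
    rw [mul_inv_eq_iff_eq_mul.2 e] at hrz
    exact P.right.z_ne (mul_eq_left.1 hrz.symm)
  have hi := index_two_of_not_commute P.right (le_refl T) P.zmem hr hne
  have hT13 : Nat.card T = 2 ^ 13 := by
    rw [hT, card_map_of_injective (MulEquiv.injective _),
      card_map_of_injective (subtype_injective _), d.card]
  have h1 := Subgroup.relIndex_mul_relIndex ⊥ (T ⊓ centralizer ({z} : Set G)) T bot_le inf_le_left
  rw [hi, Subgroup.relIndex_bot_left, Subgroup.relIndex_bot_left, hT13] at h1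
  have h2 : Nat.card (conjIn Q g) = Nat.card ↥(T ⊓ centralizer ({z} : Set G)) := by
    rw [← card_map_of_injective (subtype_injective (centralizer ({z} : Set G))) (K := conjIn Q g),
      subgroupOf_map_subtype, hT]
  omega

theorem At.mem_conjIn {h : Subgroup.centralizer ({z} : Set G)} :
    h ∈ conjIn Q g ↔ (h : G) ∈ (qAmb Q).map (MulAut.conj g).toMonoidHom := Iff.rfl

theorem At.conjIn_fix {e : Subgroup.centralizer ({z} : Set G)} (he : e ∈ conjIn Q g) :
    e * s * e⁻¹ = s :=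
  Subtype.ext (by push_cast; exact mul_inv_eq_iff_eq_mul.2 (d.pair.right.comm_z he))

/-- The image in the cover of the part inside the subgroup of index two. -/
noncomputable def At.img (_d : At c s g) : Subgroup (GS F4) := ((conjIn Q g).subgroupOf c.M).map c.act

theorem At.mem_img {n : GS F4} :
    n ∈ d.img ↔ ∃ e : c.M, (e : Subgroup.centralizer ({z} : Set G)) ∈ conjIn Q g ∧ c.act e = n :=
  Iff.rfl

theorem At.stab_lift {k : GS F4} (hk : k ∈ Stab isOmega_om card_F4) :
    ∃ m : c.M, c.act m = k ∧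
      (m : Subgroup.centralizer ({z} : Set G)) * s * (m : Subgroup.centralizer ({z} : Set G))⁻¹ = s := by
  obtain ⟨hkK, hkv⟩ := hk
  obtain ⟨m, rfl⟩ : k ∈ c.act.range := by rw [c.range_act, d.b0]; exact hkK
  have hp : c.pr ((m : Subgroup.centralizer ({z} : Set G)) * s *
      (m : Subgroup.centralizer ({z} : Set G))⁻¹) = c.pr s := by
    rw [c.conj_pr m s d.mem, d.pr_s]; exact hkv
  rcases d.pr_eq (d.conj_mem d.mem _) d.mem hp with e | e
  · exact ⟨m, rfl, Subtype.ext e⟩
  · obtain ⟨q, hq, r, -, hqz, hqx, -, -⟩ := d.pair.exists_movers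
    obtain ⟨q₀, hq₀, rfl⟩ := hq
    refine ⟨⟨q₀, c.le_M hq₀⟩ * m, by rw [map_mul, (c.ker_act ⟨q₀, c.le_M hq₀⟩).2 hq₀, one_mul],
      Subtype.ext ?_⟩
    push_cast at e ⊢
    have hz2 : z * z = 1 := d.pack.z_mul_z
    calc (q₀ : G) * _ * _ * ((q₀ : G) * _)⁻¹ = (q₀ : G) * (((m : Subgroup.centralizer ({z} : Set G)) : G) *
        s * ((m : Subgroup.centralizer ({z} : Set G)) : G)⁻¹) * (q₀ : G)⁻¹ := by group
      _ = ((q₀ : G) * z * (q₀ : G)⁻¹) * ((q₀ : G) * s * (q₀ : G)⁻¹) := by rw [e]; group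
      _ = (s : G) := by
        rw [show (q₀ : G) * z * (q₀ : G)⁻¹ = z from hqz,
          show (q₀ : G) * s * (q₀ : G)⁻¹ = z * s from hqx, ← mul_assoc, hz2, one_mul]

theorem At.act_stab (m : c.M)
    (hm : (m : Subgroup.centralizer ({z} : Set G)) * s * (m : Subgroup.centralizer ({z} : Set G))⁻¹ = s) :
    c.act m ∈ Stab isOmega_om card_F4 := by
  refine ⟨?_, ?_⟩
  · have : c.act m ∈ c.act.range := ⟨m, rfl⟩
    rwa [c.range_act, d.b0] at this
  · have := c.conj_pr m s d.mem
    rw [hm, d.pr_s] at this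
    exact this.symm

theorem At.normal_conjIn {h e : Subgroup.centralizer ({z} : Set G)} (hs : h * s * h⁻¹ = s)
    (he : e ∈ conjIn Q g) : h * e * h⁻¹ ∈ conjIn Q g := by
  show ((h * e * h⁻¹ : _) : G) ∈ (qAmb Q).map (MulAut.conj g).toMonoidHom
  push_cast
  exact d.pair.conj_mem_right (mul_inv_eq_iff_eq_mul.1 (congrArg Subtype.val hs)) he

theorem At.img_normal {k : GS F4} (hk : k ∈ Stab isOmega_om card_F4) {n : GS F4} (hn : n ∈ d.img) :
    k * n * k⁻¹ ∈ d.img := by
  obtain ⟨e, he, rfl⟩ := d.mem_img.1 hn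
  obtain ⟨m, rfl, hm⟩ := d.stab_lift hk
  exact d.mem_img.2 ⟨m * e * m⁻¹, d.normal_conjIn hm he, by simp⟩

theorem At.isPGroup_conjIn : IsPGroup 2 (conjIn Q g) :=
  IsPGroup.of_card d.card_conjIn

theorem At.img_le : d.img ≤ Nsub isOmega_om card_F4 := by
  refine le_Nsub isOmega_om card_F4 ?_ ?_ fun k hk n hn => d.img_normal hk hn
  · intro n hn
    obtain ⟨e, he, rfl⟩ := d.mem_img.1 hn
    exact d.act_stab e (d.conjIn_fix he)
  · refine IsPGroup.map ?_ _
    exact d.isPGroup_conjIn.comap_of_injective _ (subtype_injective _)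

/-- `|conjIn ⊓ M| = |img| · |Q ⊓ conjIn|`. -/
theorem At.card_inf_M :
    Nat.card ↥(conjIn Q g ⊓ c.M) = Nat.card d.img * Nat.card ↥(Q ⊓ conjIn Q g) := by
  obtain ⟨K, hK⟩ : ∃ K, K = (conjIn Q g).subgroupOf c.M := ⟨_, rfl⟩
  have h1 : Nat.card ↥(conjIn Q g ⊓ c.M) = Nat.card K := by
    rw [hK, ← card_map_of_injective (subtype_injective c.M), subgroupOf_map_subtype]
  have h2 : d.img = (c.act.comp K.subtype).range := by
    rw [MonoidHom.range_comp, Subgroup.range_subtype, At.img, hK]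
  have h3 : Nat.card ↥(Q ⊓ conjIn Q g) = Nat.card (c.act.comp K.subtype).ker := by
    refine Nat.card_congr
      { toFun := fun q => ⟨⟨⟨q.1, c.le_M q.2.1⟩, hK ▸ q.2.2⟩, (c.ker_act ⟨q.1, c.le_M q.2.1⟩).2 q.2.1⟩
        invFun := fun k => ⟨((k : K) : c.M), (c.ker_act _).1 k.2, hK.le k.1.2⟩
        left_inv := fun q => rfl
        right_inv := fun k => rfl }
  have h4 := (c.act.comp K.subtype).ker.card_mul_index
  rw [Subgroup.index_ker] at h4
  rw [h1, h2, h3, ← h4, mul_comm]

theorem At.index_le : Nat.card (conjIn Q g) ≤ 2 * Nat.card ↥(conjIn Q g ⊓ c.M) := by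
  have hi : (conjIn Q g ⊓ c.M).relIndex (conjIn Q g) ≤ 2 := by
    rw [inf_relIndex_left]
    haveI := Subgroup.normal_of_index_eq_two c.index_M
    exact Nat.le_of_dvd (by norm_num) (c.index_M ▸ Subgroup.relIndex_dvd_index_of_normal c.M (conjIn Q g))
  have h1 := Subgroup.relIndex_mul_relIndex ⊥ (conjIn Q g ⊓ c.M) (conjIn Q g) bot_le inf_le_left
  rw [Subgroup.relIndex_bot_left, Subgroup.relIndex_bot_left] at h1
  rw [← h1, mul_comm 2]
  exact Nat.mul_le_mul_left _ hi

theorem At.inter_map : (Q ⊓ conjIn Q g).map (centralizer ({z} : Set G)).subtype =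
    qAmb Q ⊓ (qAmb Q).map (MulAut.conj g).toMonoidHom := by
  rw [Subgroup.map_inf _ _ _ (subtype_injective _), subgroupOf_map_subtype]
  exact le_antisymm (fun y hy => ⟨hy.1, hy.2.1⟩) fun y hy => ⟨hy.1, hy.2, map_subtype_le _ hy.1⟩

theorem At.img_eq : d.img = Nsub isOmega_om card_F4 := by
  refine (nsub_irreducible d.img_le fun k hk hkv n hn => d.img_normal ⟨hk, hkv⟩ hn).resolve_left
    fun hbot => ?_
  have h1 := d.card_inf_M
  have h2 := d.index_le
  rw [hbot, Subgroup.card_bot, one_mul] at h1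
  rw [h1, d.card_conjIn] at h2
  have hle : (Q ⊓ conjIn Q g).map (centralizer ({z} : Set G)).subtype ≤ qAmb Q :=
    Subgroup.map_mono inf_le_left
  refine not_abelian d.pack (by rw [card_map_of_injective (subtype_injective _), d.card]; norm_num)
    hle ?_ fun a ha b hb => ?_
  · have h3 := Subgroup.relIndex_mul_relIndex ⊥ _ _ bot_le hle
    rw [Subgroup.relIndex_bot_left, Subgroup.relIndex_bot_left, card_map_of_injective (subtype_injective _),
      card_map_of_injective (subtype_injective _), d.card] at h3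
    nlinarith
  · rw [d.inter_map] at ha hb
    exact congrArg Subtype.val (d.pair.elementary.1.is_comm.comm ⟨a, ha⟩ ⟨b, hb⟩)

/-- The images of the intersection. -/
def At.Dset (_d : At c s g) : Set V6 := c.pr '' ((Q ⊓ conjIn Q g : Subgroup _) : Set _)

theorem At.sd_moves {e : Subgroup.centralizer ({z} : Set G)} (he : e ∈ conjIn Q g)
    {q : Subgroup.centralizer ({z} : Set G)} (hq : q ∈ Q ⊓ conjIn Q g) :
    c.pr (e * q * e⁻¹) = c.pr q ∨ c.pr (e * q * e⁻¹) = c.pr q + sVec om := by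
  rcases d.pair.right.conj_cases (d.mem_conjIn.1 he) (d.mem_conjIn.1 hq.2) with h | h
  · exact Or.inl (congrArg c.pr (Subtype.ext (show ((e * q * e⁻¹ : _) : G) = q by push_cast; exact h)))
  · refine Or.inr ?_
    rw [show e * q * e⁻¹ = s * q from Subtype.ext (by push_cast; exact h), c.pr_mul s d.mem q hq.1, d.pr_s,
      add_comm]

theorem At.Dset_subset : d.Dset ⊆ SdSet isOmega_om card_F4 := by
  rintro _ ⟨q, hq, rfl⟩ n hn
  rw [← d.img_eq] at hn
  obtain ⟨e, he, rfl⟩ := d.mem_img.1 hn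
  have h := c.conj_pr e q hq.1
  rcases d.sd_moves he hq with h' | h'
  · exact Or.inl (h.symm.trans h')
  · exact Or.inr (h.symm.trans h')

theorem At.card_inter_eq : Nat.card ↥(Q ⊓ conjIn Q g) = 2 * Nat.card d.Dset := by
  obtain ⟨D, hD⟩ : ∃ D, D = Q ⊓ conjIn Q g := ⟨_, rfl⟩
  let π : D →* Multiplicative V6 :=
    MonoidHom.mk' (fun q => Multiplicative.ofAdd (c.pr q)) fun a b => by
      show Multiplicative.ofAdd (c.pr (_ * _)) = _
      rw [c.pr_mul a (hD.le a.2).1 b (hD.le b.2).1]; rfl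
  obtain ⟨z₀, hz₀, hz⟩ := d.z_lift
  have hzD : z₀ ∈ D := hD ▸ ⟨hz₀, show (z₀ : G) ∈ _ by rw [hz]; exact d.pair.zmem⟩
  have hker : π.ker = zpowers (⟨z₀, hzD⟩ : D) := by
    refine le_antisymm (fun q hq => ?_) (zpowers_le.2 ?_)
    · rcases (c.pr_eq_zero q.1 (hD.le q.2).1).1 (Multiplicative.ofAdd.injective hq) with h | h
      · rw [show q = 1 from Subtype.ext (Subtype.ext h)]; exact one_mem _
      · rw [show q = ⟨z₀, hzD⟩ from Subtype.ext (Subtype.ext (h.trans hz.symm))]; exact mem_zpowers _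
    · show Multiplicative.ofAdd (c.pr z₀) = 1
      rw [(c.pr_eq_zero _ hz₀).2 (Or.inr hz)]; rfl
  have h1 := π.ker.card_mul_index
  rw [Subgroup.index_ker, hker, Nat.card_zpowers, ← Subgroup.orderOf_coe, ← Subgroup.orderOf_coe,
    show (((⟨z₀, hzD⟩ : D) : Subgroup.centralizer ({z} : Set G)) : G) = z from hz, d.pack.ord] at h1
  have h2 : Nat.card π.range = Nat.card d.Dset := by
    refine Nat.card_congr (Equiv.subtypeEquiv (Multiplicative.toAdd) fun v => ?_)
    constructor
    · rintro ⟨q, rfl⟩; exact ⟨q.1, hD.le q.2, rfl⟩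
    · rintro ⟨q, hq, e⟩; exact ⟨⟨q, hD.ge hq⟩, congrArg Multiplicative.ofAdd e⟩
  rw [← hD, ← h1, h2]

theorem At.card_sdCodes : (SdCodes om).ncard ≤ 64 := by
  classical
  have : SdCodes om = ↑((sdL.map (vdec om)).toFinset) := by ext v; simp [SdCodes]
  rw [this, Set.ncard_coe_finset]
  exact (List.toFinset_card_le _).trans (by rw [List.length_map]; decide)

/-- The numbers. -/
theorem At.cards : Nat.card ↥(Q ⊓ conjIn Q g) = 2 ^ 7 ∧ Nat.card d.Dset = 64 ∧
    Nat.card ↥(conjIn Q g ⊓ c.M) = 2 ^ 11 := by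
  have h1 := d.card_inf_M
  have h2 := d.index_le
  have h3 := d.card_inter_eq
  rw [d.img_eq, card_Nsub] at h1
  rw [d.card_conjIn] at h2
  have h4 : Nat.card d.Dset ≤ 64 := by
    rw [Nat.card_coe_set_eq]
    exact (Set.ncard_le_ncard (d.Dset_subset.trans (SdSet_subset isOmega_om card_F4))
      (Set.toFinite _)).trans d.card_sdCodes
  omega

theorem At.exists_outside : ∃ x ∈ conjIn Q g, x ∉ c.M := by
  by_contra hn
  push Not at hn
  have := d.cards.2.2
  rw [inf_eq_left.2 hn, d.card_conjIn] at this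
  omega

end CfsgLib.Trans3.FischerType
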