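import Cfsg.Agent.Lib.Trans3.FischerType.PairSpine

/-!
The sum-graph data on `A` from the coordinates.
-/

set_option autoImplicit false
set_option linter.unusedSectionVars false

namespace CfsgLib.Trans3.FischerType.PairCode

open Matrix CfsgLib.Chev.U43U6 CfsgLib.Trans3.FiLarge

variable {G : Type*} [Group G] {z : G} {Q : Subgroup (Subgroup.centralizer ({z} : Set G))}

namespace ASpine

variable {c : Coord z Q} {f : WFacts c.b} {A : Subgroup G} (s : ASpine c f A) [Finite G] [Q.Normal]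

include s

theorem fibre_inv {a y : G} (ha : a ∈ A) (hy : y ∈ corb (qg Q) a) : y ∈ A ∧ actG c y = actG c a := by
  obtain ⟨q, hq, rfl⟩ := hy
  exact ⟨(s.conj_q ha hq).1, (s.conj_q ha hq).2.2.1⟩

theorem tcls_conj_nz {a n : G} (hn : n ∈ nz z A) (ha : a ∈ tcls z A) : n * a * n⁻¹ ∈ tcls z A :=
  s.localData.tcls_conj (Subgroup.mem_inf.1 hn).1 ha

/-- In each coset the members of `tcls` are one orbit of `Q` of size 16. -/
theorem fibre_eq {a : G} (ha : a ∈ tout z A (qg Q)) :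
    corb (qg Q) a = {y ∈ tout z A (qg Q) | actG c y = actG c a} ∧ (corb (qg Q) a).ncard = 16 := by
  classical
  haveI := Fintype.ofFinite G
  obtain ⟨⟨haA, ha1, hac⟩, haQ⟩ := ha
  have htl : ∀ {n y : G}, n ∈ nz z A → y ∈ tout z A (qg Q) → n * y * n⁻¹ ∈ tout z A (qg Q) := by
    intro n y hn hy
    refine ⟨s.tcls_conj_nz hn hy.1, fun h => hy.2 ?_⟩
    have := s.nz_qg (inv_mem hn) h
    simpa [mul_assoc] using this
  set F := fun w => {y ∈ tout z A (qg Q) | actG c y = w}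
  have hsub : corb (qg Q) a ⊆ F (actG c a) := by
    rintro _ ⟨q, hq, rfl⟩
    exact ⟨htl (s.qg_nz hq) ⟨⟨haA, ha1, hac⟩, haQ⟩, (s.conj_q haA hq).2.2.1⟩
  set Ws : Finset (GS F4) := ((f.W : Set (GS F4)) \ {1}).toFinite.toFinset
  have hWs : ∀ w, w ∈ Ws ↔ w ∈ f.W ∧ w ≠ 1 := fun w => by simp [Ws]
  have hfib : ∀ w ∈ Ws, ∀ w' ∈ Ws, (F w).ncard ≤ (F w').ncard := by
    intro w hw w' hw'
    rw [hWs] at hw hw'
    obtain ⟨g, hg, he⟩ := f.trans_W w hw.1 hw.2 w' hw'.1 hw'.2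
    obtain ⟨n, hn, hn1, -⟩ := s.exists_lift hg
    refine Set.ncard_le_ncard_of_injOn (fun y => n * y * n⁻¹) (fun y hy => ⟨htl hn hy.1, ?_⟩)
      (fun a _ b _ h => by simpa using h) (Set.toFinite _)
    rw [hn1 y hy.1.1.1, hy.2, he]
  have hw0 : actG c a ∈ Ws := (hWs _).2 ⟨s.act_W a haA, s.w_ne haA haQ⟩
  have hsum : (tout z A (qg Q)).ncard = 15 * (F (actG c a)).ncard := by
    rw [Set.ncard_eq_toFinset_card' (tout z A (qg Q)), Finset.card_eq_sum_card_fiberwise (f := actG c) (t := Ws)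
      (fun y hy => by
        have hy' := Set.mem_toFinset.1 hy
        exact (hWs _).2 ⟨s.act_W y hy'.1.1, s.w_ne hy'.1.1 hy'.2⟩),
      Finset.sum_const_nat (m := (F (actG c a)).ncard)]
    · congr 1
      rw [← Set.ncard_eq_toFinset_card, Set.ncard_sdiff_singleton_of_mem (one_mem f.W), ← Nat.card_coe_set_eq,
        SetLike.coe_sort_coe, f.card_W]
    · intro w hw
      rw [← le_antisymm (hfib w hw _ hw0) (hfib _ hw0 w hw), Set.ncard_eq_toFinset_card']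
      congr 1
      ext y
      simp [F]
  rw [show (tout z A (qg Q)).ncard = 240 from s.localData.tout_card] at hsum
  have hF : (F (actG c a)).ncard = 16 := by omega
  have hpos : 0 < (corb (qg Q) a).ncard := (Set.ncard_pos (Set.toFinite _)).2 ⟨a, mem_corb_self _ a⟩
  have h16 := Nat.le_of_dvd hpos (s.sixteen_dvd haA haQ)
  have hle := Set.ncard_le_ncard hsub (Set.toFinite _)
  simp only [F] at hF hle hsub
  exact ⟨Set.eq_of_subset_of_ncard_le hsub (by omega) (Set.toFinite _), by omega⟩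

theorem adj_iff {a x : G} (ha : a ∈ tout z A (qg Q)) (hx : x ∈ A ⊓ qg Q) :
    a * x ∈ tcls z A ↔ a * x ∈ corb (qg Q) a := by
  obtain ⟨hxA, hxQ⟩ := Subgroup.mem_inf.1 hx
  have h1 : actG c (a * x) = actG c a := by
    rw [s.actG_mul ha.1.1 hxA, (s.actG_eq_one hxA).2 hxQ, mul_one]
  rw [(s.fibre_eq ha).1]
  refine ⟨fun h => ⟨⟨h, fun hQ => ha.2 ?_⟩, h1⟩, fun h => h.1.1⟩
  simpa using mul_mem hQ (inv_mem hxQ)

/-- The differences of a coset orbit lie bijectively over the line. -/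
theorem diff_inj {a : G} (ha : a ∈ tout z A (qg Q)) :
    Set.InjOn (fun y => prG c (a * y)) (corb (qg Q) a) := by
  rw [← Set.ncard_image_iff (Set.toFinite _), s.corb_cover ha.1.1, (s.fibre_eq ha).2,
    f.line_card _ (s.act_W a ha.1.1) (s.w_ne ha.1.1 ha.2)]

theorem adj_line {a x : G} (ha : a ∈ tout z A (qg Q)) (hx : x ∈ A ⊓ qg Q) (h : a * x ∈ tcls z A) :
    prG c x ∈ line (actG c a) := by
  rw [← s.corb_cover ha.1.1]
  exact ⟨_, (s.adj_iff ha hx).1 h, by simp only [← mul_assoc, s.sq ha.1.1, one_mul]⟩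

theorem one_of {a x : G} (ha : a ∈ tout z A (qg Q)) (hx : x ∈ A ⊓ qg Q) :
    ¬ (a * x ∈ tcls z A ∧ a * (x * z) ∈ tcls z A) := by
  rintro ⟨h1, h2⟩
  have hxz : x * z ∈ A ⊓ qg Q := mul_mem hx s.z_B
  have := s.diff_inj ha ((s.adj_iff ha hx).1 h1) ((s.adj_iff ha hxz).1 h2) (by
    simp only [← mul_assoc, s.sq ha.1.1, one_mul]
    exact (prG_eq_iff c (Subgroup.mem_inf.1 hx).2 (Subgroup.mem_inf.1 hxz).2).2 (Or.inr rfl))
  exact s.z_ne (mul_eq_left.1 (mul_left_cancel this).symm)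

theorem line_adj {a : G} (ha : a ∈ tout z A (qg Q)) {u : V6} (hu : u ∈ line (actG c a)) :
    ∃ x ∈ A ⊓ qg Q, prG c x = u ∧ a * x ∈ tcls z A := by
  obtain ⟨v, rfl⟩ := hu
  obtain ⟨q, hq, rfl⟩ := prG_surj c v
  obtain ⟨-, h2, -, h4⟩ := s.conj_q ha.1.1 hq
  exact ⟨_, h2, h4, by
    rw [← mul_assoc, s.sq ha.1.1, one_mul]; exact s.tcls_conj_nz (s.qg_nz hq) ha.1⟩

theorem small_pre {u : G} (hu : u ∈ A ⊓ qg Q) (h : InSmall c.b (prG c u)) : u ∈ tin z A (qg Q) :=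
  s.tin_iff.2 ⟨hu, h⟩

theorem sum_small {t u : G} (ht : t ∈ tin z A (qg Q)) (hu : u ∈ tin z A (qg Q)) :
    t * u ∈ tcls z A ↔ InSmall c.b (prG c t + prG c u) := by
  rw [← prG_mul c ht.2 hu.2]
  constructor
  · exact fun h => (s.tin_iff.1 ⟨h, mul_mem ht.2 hu.2⟩).2
  · exact fun h => (s.small_pre (Subgroup.mem_inf.2 ⟨mul_mem ht.1.1 hu.1.1, mul_mem ht.2 hu.2⟩) h).1

theorem tin_z {u : G} (hu : u ∈ tin z A (qg Q)) :
    u * z ∈ tin z A (qg Q) ∧ prG c (u * z) = prG c u := by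
  obtain ⟨hB, hs⟩ := s.tin_iff.1 hu
  have e : prG c (u * z) = prG c u := by rw [prG_mul c hu.2 s.z_qg, s.prG_z, add_zero]
  exact ⟨s.small_pre (mul_mem hB s.z_B) (by rw [e]; exact hs), e⟩

theorem spread {a t u : G} (ha : a ∈ tout z A (qg Q)) (ht : t ∈ tin z A (qg Q)) (hu : u ∈ tin z A (qg Q))
    (htu : t * u ∈ tcls z A) (hat : a * t ∈ tcls z A) : a * u ∈ tcls z A ∨ a * (u * z) ∈ tcls z A := by
  obtain ⟨htB, hts⟩ := s.tin_iff.1 ht
  obtain ⟨huB, hus⟩ := s.tin_iff.1 hu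
  have h1 := f.line_point _ (s.act_W a ha.1.1) _ (s.adj_line ha htB hat) hts _ (s.mem_U huB) hus
    ((s.sum_small ht hu).1 htu)
  obtain ⟨x, hx, hxu, hax⟩ := s.line_adj ha h1
  rcases (prG_eq_iff c hu.2 (Subgroup.mem_inf.1 hx).2).1 hxu.symm with rfl | rfl
  exacts [Or.inl hax, Or.inr hax]

theorem odd {a t u : G} (ha : a ∈ tout z A (qg Q)) (ht : t ∈ tin z A (qg Q)) (hu : u ∈ tin z A (qg Q))
    (htu : t * u ∈ tcls z A) (hat : a * t ∈ tcls z A) (hau : a * u ∈ tcls z A) :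
    a * (t * u) ∉ tcls z A := by
  obtain ⟨htB, hts⟩ := s.tin_iff.1 ht
  obtain ⟨huB, hus⟩ := s.tin_iff.1 hu
  obtain ⟨q, hq, e1⟩ := (s.adj_iff ha htB).1 hat
  obtain ⟨r, hr, e2⟩ := (s.adj_iff ha huB).1 hau
  have haa : a * a = 1 := s.sq ha.1.1
  have p1 := (s.conj_q ha.1.1 hq).2.2.2
  have p2 := (s.conj_q ha.1.1 hr).2.2.2
  rw [e1, ← mul_assoc, haa, one_mul] at p1
  rw [e2, ← mul_assoc, haa, one_mul] at p2
  have hB := f.parity _ (s.act_W a ha.1.1) (prG c q) (prG c r) (p1 ▸ hts) (p2 ▸ hus)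
    (p1 ▸ p2 ▸ (s.sum_small ht hu).1 htu)
  rw [← p1] at hB
  have e3 : r * q * a * (r * q)⁻¹ = a * (u * t * z) := by
    rw [show r * q * a * (r * q)⁻¹ = r * (q * a * q⁻¹) * r⁻¹ by group, e1,
      show r * (a * t) * r⁻¹ = r * a * r⁻¹ * (r * t * r⁻¹) by group, e2, conj_moved c hr ht.2 hB]
    group
  have h3 : a * (u * t * z) ∈ tcls z A :=
    e3 ▸ s.tcls_conj_nz (s.qg_nz (mul_mem hr hq)) ha.1
  rw [s.comm ht.1.1 hu.1.1]
  exact fun h => s.one_of ha (Subgroup.mem_inf.2 ⟨mul_mem hu.1.1 ht.1.1, mul_mem hu.2 ht.2⟩) ⟨h, h3⟩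

theorem pair_ne {t u : G} (ht : t ∈ tin z A (qg Q)) (hu : u ∈ tin z A (qg Q)) (htu : t * u ∈ tcls z A) :
    prG c t ≠ 0 ∧ prG c u ≠ 0 ∧ prG c u ≠ prG c t := by
  refine ⟨(isotropic_of_orbit (Or.inl (s.tin_iff.1 ht).2)).1,
    (isotropic_of_orbit (Or.inl (s.tin_iff.1 hu).2)).1, fun e => ?_⟩
  exact (isotropic_of_orbit (Or.inl ((s.sum_small ht hu).1 htu))).1 (by rw [e, pf_self])

/-- An element of `Q` with prescribed effect on two elements. -/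
theorem exists_q {t u : G} (ht : t ∈ tin z A (qg Q)) (hu : u ∈ tin z A (qg Q)) (htu : t * u ∈ tcls z A)
    {t' u' : G} (ht' : t' = t ∨ t' = t * z) (hu' : u' = u ∨ u' = u * z) :
    ∃ q ∈ qg Q, q * t' * q⁻¹ = t ∧ q * u' * q⁻¹ = u := by
  obtain ⟨n1, n2, n3⟩ := s.pair_ne ht hu htu
  obtain ⟨e, he, he1⟩ : ∃ e : F4, (e = 0 ∨ e = 1) ∧ (e = 0 ↔ t' = t) := by
    by_cases h : t' = t
    · exact ⟨0, Or.inl rfl, by simp [h]⟩
    · exact ⟨1, Or.inr rfl, by simp [h]⟩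
  obtain ⟨e', he', he1'⟩ : ∃ e : F4, (e = 0 ∨ e = 1) ∧ (e = 0 ↔ u' = u) := by
    by_cases h : u' = u
    · exact ⟨0, Or.inl rfl, by simp [h]⟩
    · exact ⟨1, Or.inr rfl, by simp [h]⟩
  obtain ⟨v, hv, hv'⟩ := bform_pair n1 n2 n3 e e' he he'
  obtain ⟨q, hq, rfl⟩ := prG_surj c v
  have hz : q * z * q⁻¹ = z :=
    mul_inv_eq_iff_eq_mul.2 (Subgroup.mem_centralizer_singleton_iff.1 (qg_le hq))
  have key : ∀ {x x' : G} {d : F4}, x ∈ qg Q → (d = 0 ∨ d = 1) → bform (prG c x) (prG c q) = d →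
      (d = 0 ↔ x' = x) → (x' = x ∨ x' = x * z) → q * x' * q⁻¹ = x := by
    intro x x' d hx hd hb hiff hx'
    rcases hd with rfl | rfl
    · rw [hiff.1 rfl, conj_fixed c hq hx hb]
    · rw [hx'.resolve_left fun h => one_ne_zero (hiff.2 h),
        show q * (x * z) * q⁻¹ = q * x * q⁻¹ * (q * z * q⁻¹) by group, conj_moved c hq hx hb, hz, mul_assoc,
        s.zz, mul_one]
  exact ⟨q, hq, key ht.2 he hv he1 ht', key hu.2 he' hv' he1' hu'⟩

theorem trans_out {t u : G} (ht : t ∈ tin z A (qg Q)) (hu : u ∈ tin z A (qg Q)) (htu : t * u ∈ tcls z A)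
    {a b : G} (ha : a ∈ cout z A (qg Q) t u) (hb : b ∈ cout z A (qg Q) t u) :
    ∃ n ∈ nz z A, n * t * n⁻¹ = t ∧ n * u * n⁻¹ = u ∧ n * a * n⁻¹ = b := by
  obtain ⟨htB, hts⟩ := s.tin_iff.1 ht
  obtain ⟨huB, hus⟩ := s.tin_iff.1 hu
  obtain ⟨g, hg, g1, g2, g3⟩ := f.stab_trans _ (s.mem_U htB) hts _ (s.mem_U huB) hus
    ((s.sum_small ht hu).1 htu) _ (s.act_W a ha.1.1.1) (s.adj_line ha.1 htB ha.2.1)
    _ (s.act_W b hb.1.1.1) (s.adj_line hb.1 htB hb.2.1)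
  obtain ⟨m, hm, hm1, hm2⟩ := s.exists_lift hg
  obtain ⟨ht1, ht2⟩ := hm2 t ht.2
  obtain ⟨hu1, hu2⟩ := hm2 u hu.2
  obtain ⟨q, hq, q1, q2⟩ := s.exists_q ht hu htu
    ((prG_eq_iff c ht.2 ht1).1 (ht2.trans g1).symm) ((prG_eq_iff c hu.2 hu1).1 (hu2.trans g2).symm)
  have hn : q * m ∈ nz z A := mul_mem (s.qg_nz hq) hm
  have n1 : q * m * t * (q * m)⁻¹ = t := by
    rw [show q * m * t * (q * m)⁻¹ = q * (m * t * m⁻¹) * q⁻¹ by group, q1]
  have n2 : q * m * u * (q * m)⁻¹ = u := by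
    rw [show q * m * u * (q * m)⁻¹ = q * (m * u * m⁻¹) * q⁻¹ by group, q2]
  set a' := q * m * a * (q * m)⁻¹ with ha'def
  have ha' : a' ∈ tout z A (qg Q) := by
    refine ⟨s.tcls_conj_nz hn ha.1.1, fun h => ha.1.2 ?_⟩
    have := s.nz_qg (inv_mem hn) h
    simpa [ha'def, mul_assoc] using this
  have hmA : m * a * m⁻¹ ∈ A := (Subgroup.mem_normalizer_iff.1 (Subgroup.mem_inf.1 hm).1 a).1 ha.1.1.1
  have hact : actG c a' = actG c b := by
    rw [ha'def, show q * m * a * (q * m)⁻¹ = q * (m * a * m⁻¹) * q⁻¹ by group,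
      (s.conj_q hmA hq).2.2.1, hm1 a ha.1.1.1, g3]
  obtain ⟨r, hr, hrb⟩ : b ∈ corb (qg Q) a' := by
    rw [(s.fibre_eq ha').1]; exact ⟨hb.1, hact.symm⟩
  have fix : ∀ {x : G}, x ∈ tin z A (qg Q) → a' * x ∈ tcls z A → b * x ∈ tcls z A → r * x * r⁻¹ = x := by
    intro x hx h1 h2
    rcases bform_01 (prG c x) (prG c r) with h | h
    · exact conj_fixed c hr hx.2 h
    · have h3 := s.tcls_conj_nz (s.qg_nz hr) h1
      rw [show r * (a' * x) * r⁻¹ = r * a' * r⁻¹ * (r * x * r⁻¹) by group, hrb,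
        conj_moved c hr hx.2 h] at h3
      exact absurd ⟨h2, h3⟩ (s.one_of hb.1 (s.tin_iff.1 hx).1)
  have hat : a' * t ∈ tcls z A := by
    have := s.tcls_conj_nz hn ha.2.1
    rwa [show q * m * (a * t) * (q * m)⁻¹ = a' * (q * m * t * (q * m)⁻¹) by rw [ha'def]; group, n1] at this
  have hau : a' * u ∈ tcls z A := by
    have := s.tcls_conj_nz hn ha.2.2
    rwa [show q * m * (a * u) * (q * m)⁻¹ = a' * (q * m * u * (q * m)⁻¹) by rw [ha'def]; group, n2] at this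
  refine ⟨r * (q * m), mul_mem (s.qg_nz hr) hn, ?_, ?_, ?_⟩
  · rw [show r * (q * m) * t * (r * (q * m))⁻¹ = r * (q * m * t * (q * m)⁻¹) * r⁻¹ by group, n1,
      fix ht hat hb.2.1]
  · rw [show r * (q * m) * u * (r * (q * m))⁻¹ = r * (q * m * u * (q * m)⁻¹) * r⁻¹ by group, n2,
      fix hu hau hb.2.2]
  · rw [show r * (q * m) * a * (r * (q * m))⁻¹ = r * a' * r⁻¹ by rw [ha'def]; group, hrb]

theorem four {t : G} (ht : t ∈ tin z A (qg Q)) :
    {x ∈ tin z A (qg Q) | t * x ∈ tcls z A}.ncard = 4 := by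
  obtain ⟨htB, hts⟩ := s.tin_iff.1 ht
  rw [show {x ∈ tin z A (qg Q) | t * x ∈ tcls z A} = {g : G | g ∈ A ⊓ qg Q ∧
      prG c g ∈ {u | u ∈ f.U ∧ InSmall c.b u ∧ InSmall c.b (prG c t + u)}} from Set.ext fun x =>
    ⟨fun ⟨hx, hx'⟩ => ⟨(s.tin_iff.1 hx).1, s.mem_U (s.tin_iff.1 hx).1, (s.tin_iff.1 hx).2,
      (s.sum_small ht hx).1 hx'⟩,
    fun ⟨hx, _, h2, h3⟩ => ⟨s.small_pre hx h2, (s.sum_small ht (s.small_pre hx h2)).2 h3⟩⟩,
    s.card_pre _ (fun u hu => hu.1), f.nbr _ (s.mem_U htB) hts]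

theorem six {a : G} (ha : a ∈ tout z A (qg Q)) :
    {x ∈ tin z A (qg Q) | a * x ∈ tcls z A}.ncard = 6 := by
  rw [← f.line_small _ (s.act_W a ha.1.1) (s.w_ne ha.1.1 ha.2), ← Set.ncard_image_of_injOn (f := prG c)]
  · congr 1
    ext u
    constructor
    · rintro ⟨x, ⟨hx, hax⟩, rfl⟩
      exact ⟨s.adj_line ha (s.tin_iff.1 hx).1 hax, (s.tin_iff.1 hx).2⟩
    · rintro ⟨hu, hus⟩
      obtain ⟨x, hx, rfl, hax⟩ := s.line_adj ha hu
      exact ⟨x, ⟨s.small_pre hx hus, hax⟩, rfl⟩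
  · rintro x ⟨hx, hax⟩ y ⟨hy, hay⟩ he
    rcases (prG_eq_iff c hx.2 hy.2).1 he with rfl | rfl
    · rfl
    · exact absurd ⟨hax, hay⟩ (s.one_of ha (s.tin_iff.1 hx).1)

/-- The sum-graph data. -/
theorem edgeData : EdgeData z A (qg Q) where
  toLocalData := s.localData
  four := fun _ ht => s.four ht
  four_z := fun t ht u hu htu => ⟨(s.tin_z hu).1.1, by
    rw [mul_assoc, s.sum_small ht (s.tin_z hu).1, (s.tin_z hu).2]
    exact (s.sum_small ht hu).1 htu⟩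
  six := fun _ ha => s.six ha
  one_of := fun _ ha _ hx => s.one_of ha (s.tin_iff.1 hx).1
  spread := fun _ ha _ ht _ hu htu hat => s.spread ha ht hu htu hat
  odd := fun _ ha _ ht _ hu htu hat hau => s.odd ha ht hu htu hat hau
  swap := fun t ht u hu htu => by
    obtain ⟨q, hq, h1, h2⟩ := s.exists_q ht hu htu (Or.inl rfl) (Or.inr rfl : u * z = u ∨ u * z = u * z)
    refine ⟨q, s.qg_nz hq, h1, ?_⟩
    have hz : q * z * q⁻¹ = z :=
      mul_inv_eq_iff_eq_mul.2 (Subgroup.mem_centralizer_singleton_iff.1 (qg_le hq))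
    rw [show q * u * q⁻¹ = q * (u * z) * q⁻¹ * (q * z * q⁻¹)⁻¹ by group, h2, hz,
      inv_eq_of_mul_eq_one_right s.zz]
  trans_out := fun _ ht _ hu htu _ ha _ hb => s.trans_out ht hu htu ha hb

end ASpine

end CfsgLib.Trans3.FischerType.PairCode
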