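import Cfsg.Agent.Lib.Trans3.FischerType.PairFinal

/-!
`A` is its own centraliser, and the assembly of the conclusions from the pieces.
-/

set_option autoImplicit false
set_option linter.unusedSectionVars false

namespace CfsgLib.Trans3.FischerType.PairCode

open Matrix CfsgLib.Chev.U43U6 CfsgLib.Trans3.FiLarge

variable {G : Type*} [Group G] {z : G} {Q : Subgroup (Subgroup.centralizer ({z} : Set G))}

/-- Outside the subgroup of index two the action is semilinear. -/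
def OuterSemi (c : Coord z Q) : Prop :=
  ∀ h, h ∉ c.M → ∀ q ∈ Q, ∀ r ∈ Q, ∀ a : F4, c.pr r = a • c.pr q →
    c.pr (h * r * h⁻¹) = a ^ 2 • c.pr (h * q * h⁻¹)

theorem om_ne_sq : om ^ 2 ≠ om := by decide

theorem cent_le (c : Coord z Q) (f : WFacts c.b) (A : Subgroup G) (hzq : z ∈ qg Q)
    (hperp : ∀ v, (∀ u ∈ f.U, bform v u = 0) → v ∈ f.U)
    (hfix : ∀ g ∈ K c.b, (∀ u ∈ f.U, mat g *ᵥ u = u) → g ∈ f.W)
    (hsmul : ∀ u ∈ f.U, ∀ a : F4, a • u ∈ f.U) (hsemi : OuterSemi c) [Q.Normal]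
    (hcomm : ∀ a ∈ A, ∀ b ∈ A, a * b = b * a)
    (hQ : ∀ g ∈ qg Q, (g ∈ A ↔ prG c g ∈ f.U))
    (hM : ∀ a ∈ A, ∃ m : c.M, ((m : Subgroup.centralizer ({z} : Set G)) : G) = a)
    (hsurj : ∀ w ∈ f.W, ∃ a ∈ A, actG c a = w) :
    Subgroup.centralizer (A : Set G) ≤ A := by
  intro g hg
  rw [Subgroup.mem_centralizer_iff] at hg
  have hzA : z ∈ A := (hQ z hzq).2 (by rw [(prG_eq_zero c hzq).2 (Or.inr rfl)]; exact f.U.zero_mem)
  have hgH : g ∈ Subgroup.centralizer ({z} : Set G) :=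
    Subgroup.mem_centralizer_singleton_iff.2 (hg z hzA).symm
  set h : Subgroup.centralizer ({z} : Set G) := ⟨g, hgH⟩
  have hfixU : ∀ q ∈ Q, c.pr q ∈ f.U → h * q * h⁻¹ = q := fun q hq hu => by
    apply Subtype.ext
    show g * (q : G) * g⁻¹ = q
    rw [← hg (q : G) ((hQ _ (mem_qg.2 hq)).2 (by rwa [prG_coe])), mul_inv_cancel_right]
  by_cases hh : h ∈ c.M
  · set m : c.M := ⟨h, hh⟩
    have hW : c.act m ∈ f.W := hfix _ (c.range_act ▸ ⟨m, rfl⟩) fun u hu => by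
      obtain ⟨q, hq, rfl⟩ := c.pr_surj u
      rw [← c.conj_pr m q hq]
      exact congrArg c.pr (hfixU q hq hu)
    obtain ⟨a, ha, hae⟩ := hsurj _ hW
    obtain ⟨k, rfl⟩ := hM a ha
    rw [actG_coe] at hae
    have hq : ((k⁻¹ * m : c.M) : Subgroup.centralizer ({z} : Set G)) ∈ Q :=
      (c.ker_act _).1 (by rw [map_mul, map_inv, hae, inv_mul_cancel])
    set q := ((k : Subgroup.centralizer ({z} : Set G)) : G)⁻¹ * g with hqdef
    have hqg : q ∈ qg Q := mem_qg.2 hq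
    have hU : prG c q ∈ f.U := hperp _ fun u hu => by
      obtain ⟨b, hb, rfl⟩ := prG_surj c u
      have hbA := (hQ b hb).2 hu
      refine (comm_iff_bform c hqg hb).1 ?_
      rw [hqdef, mul_assoc, ← hg b hbA, ← mul_assoc, hcomm _ (inv_mem ha) b hbA, mul_assoc]
    have hqA := (hQ q hqg).2 hU
    have : g = ((k : Subgroup.centralizer ({z} : Set G)) : G) * q := by rw [hqdef, mul_inv_cancel_left]
    rw [this]
    exact mul_mem ha hqA
  · exfalso
    obtain ⟨u, hu, hus⟩ := Set.nonempty_of_ncard_ne_zero (s := {u : V6 | u ∈ f.U ∧ InSmall c.b u})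
      (by rw [f.card_small]; decide)
    obtain ⟨q, hq, rfl⟩ := c.pr_surj u
    obtain ⟨r, hr, hre⟩ := c.pr_surj (om • c.pr q)
    have h2 := hsemi h hh q hq r hr om hre
    rw [hfixU r hr (hre ▸ hsmul _ hu om), hfixU q hq hu, hre] at h2
    obtain ⟨i, hi⟩ := Function.ne_iff.1 (isotropic_of_orbit (Or.inl hus)).1
    exact om_ne_sq (mul_right_cancel₀ hi (congrFun h2.symm i))

/-- All the conclusions, from the pieces. -/
theorem concl_of_pieces [Finite G] [Q.Normal] (c : Coord z Q) (f : WFacts c.b) (A : Subgroup G)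
    (T₀ : Sylow 2 G) (hz : z ≠ 1) (hzq : z ∈ qg Q) (hcardQ : Nat.card Q = 2 ^ 13)
    (hperp : ∀ v, (∀ u ∈ f.U, bform v u = 0) → v ∈ f.U)
    (hfix : ∀ g ∈ K c.b, (∀ u ∈ f.U, mat g *ᵥ u = u) → g ∈ f.W)
    (hsmul : ∀ u ∈ f.U, ∀ a : F4, a • u ∈ f.U) (hsemi : OuterSemi c)
    (hbig : ∀ q ∈ Q, InBig c.b (c.pr q) → IsConj z (q : G))
    (hsmall : ∀ q ∈ Q, InSmall c.b (c.pr q) → ¬ IsConj z (q : G))
    (hT : (T₀ : Subgroup G) ≤ Subgroup.centralizer ({z} : Set G))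
    (hu : IsUniqueMaxElem (T₀ : Subgroup G) A) (hcard : Nat.card A = 2 ^ 11)
    (hM : ∀ a ∈ A, ∃ m : c.M, ((m : Subgroup.centralizer ({z} : Set G)) : G) = a)
    (hQ : ∀ g ∈ qg Q, (g ∈ A ↔ prG c g ∈ f.U))
    (hW : ∀ a ∈ A, actG c a ∈ f.W) (hsurj : ∀ w ∈ f.W, ∃ a ∈ A, actG c a = w) (T : Sylow 2 G) :
    Concl z (Cfsg.thompsonSubgroupOf 2 (T : Subgroup G)) := by
  have hcomm : ∀ a ∈ A, ∀ b ∈ A, a * b = b * a := fun a ha b hb =>
    congrArg Subtype.val (hu.2.1.1.1.1 ⟨a, ha⟩ ⟨b, hb⟩)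
  have s : ASpine c f A :=
    { z_ne := hz, z_qg := hzq, card_Q := hcardQ, perp := hperp, elem := hu.2.1, card_A := hcard
      cent_A := cent_le c f A hzq hperp hfix hsmul hsemi hcomm hQ hM hsurj
      mem_M := hM, mem_Q := hQ, act_W := hW, act_surj := hsurj, uniq := ⟨T₀, hT, hu⟩
      conj_big := fun g hg hb => by
        obtain ⟨q, hq, rfl⟩ := hg
        rw [Subgroup.coe_subtype, prG_coe] at hb
        exact hbig q hq hb
      conj_small := fun g hg hb => by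
        obtain ⟨q, hq, rfl⟩ := hg
        rw [Subgroup.coe_subtype, prG_coe] at hb
        exact hsmall q hq hb }
  exact concl_thompson hu (concl_of_edgeData s.edgeData) T

end CfsgLib.Trans3.FischerType.PairCode
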