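import Cfsg.Agent.Lib.Chev.U43InU6.Main

/-!
Words in the two matrices of the subgroup number `0` of `SU₆(2)` that covers `PSU₄(3)`: products of
matrix codes, the elements and their action on vectors.
-/

set_option autoImplicit false
set_option linter.unusedSectionVars false
set_option maxRecDepth 100000

namespace CfsgLib.Trans3.FischerType

open CfsgLib.Chev.U43U6
open CfsgLib.KnownA.PermCert (pimg permOf valid valid_lt permOf_val mem_genGroup)
open CfsgLib.KnownA.U4ThreeSchur (GP gensG codeA codeB valid_gens)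
open Matrix

/-- The product of two matrix codes. -/
def mulM (a b : List ℕ) : List ℕ := b.map (mulV a)

/-- The code of the identity matrix. -/
def idM : List ℕ := [1, 4, 16, 64, 256, 1024]

/-- The product of a word in a list of matrix codes. -/
def wordM (gs : List (List ℕ)) : List ℕ → List ℕ
  | [] => idM
  | i :: w => mulM (gs.getD i []) (wordM gs w)

theorem wordM_length (gs : List (List ℕ)) : ∀ w, (wordM gs w).length = 6
  | [] => rfl
  | _ :: w => by simp [wordM, mulM, wordM_length gs w]

theorem kMat_isSU : ((List.range 2).all fun t => isSU ((kMat 0).getD t [])) = true := by decide +kernel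

theorem xor_lt {a b : ℕ} (ha : a < 4096) (hb : b < 4096) : Nat.xor a b < 4096 :=
  Nat.xor_lt_two_pow (n := 12) ha hb

theorem mulV_lt (m : List ℕ) (c : ℕ) : mulV m c < 4096 := by
  simp only [mulV]
  exact xor_lt (xor_lt (xor_lt (xor_lt (xor_lt (sclV_lt _ _) (sclV_lt _ _)) (sclV_lt _ _)) (sclV_lt _ _))
    (sclV_lt _ _)) (sclV_lt _ _)

variable {F : Type*} [Field F] [Fintype F] {ω : F} (hω : IsOmega ω) (hF : Fintype.card F = 4)

/-- The image of a vector. -/
abbrev app (g : GS F) (v : Fin 6 → F) : Fin 6 → F := mat g *ᵥ v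

theorem app_mul (g h : GS F) (v : Fin 6 → F) : app (g * h) v = app g (app h v) := by
  exact (Matrix.mulVec_mulVec _ _ _).symm

theorem app_one (v : Fin 6 → F) : app 1 v = v := Matrix.one_mulVec v

theorem app_inv (g : GS F) (v : Fin 6 → F) : app g⁻¹ (app g v) = v := by
  rw [← app_mul, inv_mul_cancel, app_one]

theorem app_injective (g : GS F) : Function.Injective (app g) :=
  Function.LeftInverse.injective (app_inv g)

theorem mat_injective : Function.Injective (mat (F := F)) := fun _ _ h => Subtype.ext (Subtype.ext h)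

/-- Elements agreeing on all vectors are equal. -/
theorem ext_app {g h : GS F} (e : ∀ v, app g v = app h v) : g = h :=
  mat_injective (Matrix.ext_of_mulVec_single fun i => e (Pi.single i 1))

/-- An element with a given code. -/
def Real (ω : F) (g : GS F) (m : List ℕ) : Prop := mat g = mdec ω m

include hω in
theorem Real.app_dec {g : GS F} {m : List ℕ} (h : Real ω g m) (c : ℕ) :
    app g (vdec ω c) = vdec ω (mulV m c) := by
  rw [vdec_mulV hω, app, h]

include hω in
theorem mdec_mulM (a : List ℕ) {b : List ℕ} (hb : b.length = 6) :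
    mdec ω (mulM a b) = mdec ω a * mdec ω b := by
  ext r c
  have hc : (c : ℕ) < b.length := hb.symm ▸ c.2
  have e : colM (mulM a b) c = mulV a (colM b c) := by
    simp [colM, mulM, List.getD_eq_getElem?_getD, List.getElem?_map, List.getElem?_eq_getElem hc]
  have h := congrFun (vdec_mulV hω a (colM b c)) r
  show dec ω (crd (colM (mulM a b) c) r) = _
  rw [e]
  exact h

include hω in
theorem mdec_idM : mdec ω idM = 1 := by
  have h : ∀ r c : Fin 6, crd (colM idM c) r = if r = c then 1 else 0 := by decide +kernel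
  ext r c
  show dec ω (crd (colM idM c) r) = _
  rw [h, Matrix.one_apply]
  split
  · exact dec_one
  · exact dec_zero

/-- The element of one of the two matrices. -/
noncomputable def kEl (t : Fin 2) : GS F :=
  (exists_el hω hF (of_range kMat_isSU t.2 : isSU ((kMat 0).getD t []) = true)).choose

theorem kEl_real (t : Fin 2) : Real ω (kEl hω hF t) ((kMat 0).getD t []) :=
  (exists_el hω hF (of_range kMat_isSU t.2 : isSU ((kMat 0).getD t []) = true)).choose_spec

theorem kEl_perm (t : Fin 2) : ∃ h : kEl hω hF t ∈ Lb hω hF 0,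
    permB hω hF 0 ⟨kEl hω hF t, h⟩ = permOf 112 (if (t : ℕ) = 0 then codeA else codeB) := by
  have h := of_range mat_ok (show ((0 : Fin 3) : ℕ) < 3 by norm_num)
  simp only [matOK, Bool.and_eq_true] at h
  set c := if (t : ℕ) = 0 then codeA else codeB
  have hc : valid 112 c = true := by
    simp only [c]; split
    exacts [valid_gens.1, valid_gens.2]
  have hmask : ∀ i : Fin 112, mask (((kFr 0).getD i []).map (imgP ((kMat 0).getD t []))) =
      mask ((kFr 0).getD (pimg c i) []) := by
    intro i
    have hi := of_range h.2 i.2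
    simp only [Bool.and_eq_true] at hi
    simp only [c]
    rcases (show (t : ℕ) = 0 ∨ (t : ℕ) = 1 by omega) with e | e <;> rw [e]
    · exact Nat.eq_of_beq_eq_true hi.1
    · exact Nat.eq_of_beq_eq_true hi.2
  have himg : ∀ i : Fin 112, mv hω hF (kEl hω hF t) (frB 0 i) = frB 0 ⟨pimg c i, valid_lt hc i.2⟩ := by
    intro i
    rw [frB, frB]
    show _ = lst ((kFr ((0 : Fin 3) : ℕ)).getD (pimg c i) [])
    rw [show (((0 : Fin 3) : ℕ)) = 0 from rfl, ← lst_congr (hmask i)]
    ext j
    rw [mem_mv, mem_lst, List.mem_map]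
    constructor
    · rintro ⟨k, hk, rfl⟩
      exact ⟨k, mem_lst.1 hk, (act_code hω hF (kEl_real hω hF t) k).symm⟩
    · rintro ⟨x, hx, e⟩
      exact ⟨⟨x, kFr_lt 0 i x hx⟩, mem_lst.2 hx,
        Fin.ext ((act_code hω hF (kEl_real hω hF t) _).trans e)⟩
  have hgL : kEl hω hF t ∈ Lb hω hF 0 := fun S hS => by
    obtain ⟨i, rfl⟩ := mem_Bset.1 hS
    rw [himg]
    exact mem_Bset.2 ⟨_, rfl⟩
  refine ⟨hgL, Equiv.ext fun i => ?_⟩
  apply frB_injective 0
  show frB 0 (idx hω hF 0 ⟨_, hgL⟩ i) = _
  rw [idx_spec, himg]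
  congr 1
  exact Fin.ext (permOf_val hc i).symm

theorem kEl_mem (t : Fin 2) : kEl hω hF t ∈ Kb hω hF 0 := by
  obtain ⟨h, e⟩ := kEl_perm hω hF t
  refine (mem_Kb hω hF).2 ⟨h, e ▸ mem_genGroup ?_⟩
  split <;> simp [gensG]

/-- The product of a word in the two matrices. -/
noncomputable def kWord : List ℕ → GS F
  | [] => 1
  | i :: w => kEl hω hF ⟨i % 2, Nat.mod_lt _ (by norm_num)⟩ * kWord w

theorem kWord_mem : ∀ w, kWord hω hF w ∈ Kb hω hF 0
  | [] => one_mem _
  | _ :: w => mul_mem (kEl_mem hω hF _) (kWord_mem w)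

theorem kWord_real : ∀ {w : List ℕ}, (∀ i ∈ w, i < 2) → Real ω (kWord hω hF w) (wordM (kMat 0) w)
  | [], _ => (mdec_idM hω).symm
  | i :: w, h => by
    have hi : i < 2 := h i (List.mem_cons_self ..)
    have e := kEl_real hω hF ⟨i % 2, Nat.mod_lt _ (by norm_num)⟩
    simp only [Nat.mod_eq_of_lt hi] at e
    show mat (kEl hω hF _) * mat (kWord hω hF w) = mdec ω (mulM _ _)
    rw [mdec_mulM hω _ (wordM_length _ w), kWord_real (fun j hj => h j (List.mem_cons_of_mem _ hj))]
    simp only [Nat.mod_eq_of_lt hi]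
    rw [e]

/-- A word is claimed to give a matrix code. -/
def wordOK (w m : List ℕ) : Bool := (w.all fun i => Nat.blt i 2) && wordM (kMat 0) w == m

theorem kWord_real_of_ok {w m : List ℕ} (h : wordOK w m = true) : Real ω (kWord hω hF w) m := by
  simp only [wordOK, Bool.and_eq_true, List.all_eq_true] at h
  have hw : ∀ i ∈ w, i < 2 := fun i hi => Nat.blt_eq.mp (h.1 i hi)
  exact eq_of_beq h.2 ▸ kWord_real hω hF hw

end CfsgLib.Trans3.FischerType
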