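import Cfsg.Agent.Lib.Trans3.FiLarge.Orbits
import Cfsg.Agent.Lib.Trans3.FischerType.ModelBasic

/-!
# Reduction to the cover number `0`

A change of the last coordinate carries the cover `0` onto each of the three covers; it fixes the two orbit
representatives, so every coordinate system may be replaced by one for the cover `0`.
-/

set_option autoImplicit false
set_option linter.unusedSectionVars false
set_option maxRecDepth 100000

namespace CfsgLib.Trans3.FischerType

open Matrix CfsgLib.Chev.U43U6 CfsgLib.Trans3.FiLarge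

/-- The factor of the last coordinate. -/
def dScal (b : Fin 3) : ℕ := if b = 1 then 3 else if b = 2 then 2 else 1

/-- The inverse factor. -/
def dInv (b : Fin 3) : ℕ := if b = 1 then 2 else if b = 2 then 3 else 1

/-- The code of the change of coordinates. -/
def diagM (a : ℕ) : List ℕ := [1, 4, 16, 64, 256, 1024 * a]

/-- The conjugate code. -/
def conjM (b : Fin 3) (m : List ℕ) : List ℕ := mulM (diagM (dScal b)) (mulM m (diagM (dInv b)))

/-- The power of a code. -/
def powM (m : List ℕ) : ℕ → List ℕ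
  | 0 => idM
  | k + 1 => mulM m (powM m k)

/-- The conjugated generators keep the frames and have odd order. -/
def reduceOK : Bool :=
  ([0, 1, 2].all fun b : Fin 3 => [0, 1, 2].all fun t : Fin 3 =>
    let m := conjM b (genM 0 t)
    isSU m &&
    ((List.range 112).all fun i => (kMasks b).any (Nat.beq (mask (((kFr b).getD i []).map (imgP m))))) &&
    (powM m 45 == idM))

theorem reduceOK_true : reduceOK = true := by decide +kernel

theorem diag_checks : ∀ b : Fin 3, mulM (diagM (dScal b)) (diagM (dInv b)) = idM ∧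
    mulM (diagM (dInv b)) (diagM (dScal b)) = idM ∧ mulV (diagM (dInv b)) smallRep = smallRep ∧
    mulV (diagM (dInv b)) bigRep = bigRep := by decide +kernel

theorem herm_entry : ∀ (b : Fin 3) (x y : F4),
    (dec om (dInv b) * x) * (dec om (dInv b) * y) ^ 2 = x * y ^ 2 := by decide +kernel

/-- The change of coordinates. -/
noncomputable def dMat (b : Fin 3) : Matrix (Fin 6) (Fin 6) F4 := mdec om (diagM (dScal b))

/-- Its inverse. -/
noncomputable def dMatI (b : Fin 3) : Matrix (Fin 6) (Fin 6) F4 := mdec om (diagM (dInv b))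

theorem dMat_mul (b : Fin 3) : dMat b * dMatI b = 1 ∧ dMatI b * dMat b = 1 := by
  constructor
  · rw [dMat, dMatI, ← mdec_mulM isOmega_om _ rfl, (diag_checks b).1, mdec_idM isOmega_om]
  · rw [dMat, dMatI, ← mdec_mulM isOmega_om _ rfl, (diag_checks b).2.1, mdec_idM isOmega_om]

theorem dMatI_apply (b : Fin 3) (v : V6) (i : Fin 6) :
    (dMatI b *ᵥ v) i = (if i = 5 then dec om (dInv b) else 1) * v i := by
  have h : ∀ (b : Fin 3) (r c : Fin 6), dMatI b r c = if r = c then (if r = 5 then dec om (dInv b) else 1) else 0 := by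
    unfold dMatI mdec
    decide +kernel
  simp only [Matrix.mulVec, dotProduct, h, ite_mul, zero_mul, Finset.sum_ite_eq, Finset.mem_univ, if_true]

theorem herm_dMatI (b : Fin 3) (u v : V6) : herm6 (dMatI b *ᵥ u) (dMatI b *ᵥ v) = herm6 u v := by
  simp only [herm6, Cfsg.hermForm, dMatI_apply]
  refine Finset.sum_congr rfl fun i _ => ?_
  split
  · exact herm_entry b _ _
  · rw [one_mul, one_mul]

theorem dMatI_smul (b : Fin 3) (a : F4) (v : V6) : dMatI b *ᵥ (a • v) = a • (dMatI b *ᵥ v) :=
  Matrix.mulVec_smul _ _ _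

theorem dMatI_inj (b : Fin 3) {u v : V6} (h : dMatI b *ᵥ u = dMatI b *ᵥ v) : u = v := by
  have := congrArg (dMat b *ᵥ ·) h
  simpa [Matrix.mulVec_mulVec, (dMat_mul b).1] using this

theorem gen_conj (b t : Fin 3) : ∃ g ∈ FiLarge.K b, mat g = dMat b * mat (genEl 0 t) * dMatI b := by
  have h := reduceOK_true
  simp only [reduceOK, Bool.and_eq_true, List.all_eq_true, List.any_eq_true, List.mem_range] at h
  obtain ⟨⟨hsu, hfr⟩, hpow⟩ := h b (by fin_cases b <;> simp) t (by fin_cases t <;> simp)
  set m := conjM b (genM 0 t) with hmdef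
  obtain ⟨g, hg⟩ := exists_el isOmega_om card_F4 hsu
  have hlen : (genM 0 t).length = 6 := by fin_cases t <;> decide
  have hmat : mat g = dMat b * mat (genEl 0 t) * dMatI b := by
    rw [hg, hmdef, conjM, mdec_mulM isOmega_om _ (by simp [mulM, diagM]), mdec_mulM isOmega_om _ rfl,
      genEl_mat, mul_assoc]
    rfl
  refine ⟨g, ?_, hmat⟩
  have hL : g ∈ Lb isOmega_om card_F4 b := by
    intro S hS
    obtain ⟨i, rfl⟩ := mem_Bset.1 hS
    obtain ⟨k, hk, e⟩ := hfr i i.2
    obtain ⟨f, hf, rfl⟩ := List.mem_map.1 hk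
    obtain ⟨j, hj, rfl⟩ := List.getElem_of_mem hf
    have him : mv isOmega_om card_F4 g (frB b i) = lst (((kFr b).getD i []).map (imgP m)) := by
      ext x
      rw [mem_mv, mem_lst, List.mem_map]
      constructor
      · rintro ⟨y, hy, rfl⟩
        exact ⟨y, mem_lst.1 hy, (act_code isOmega_om card_F4 hg y).symm⟩
      · rintro ⟨y, hy, e'⟩
        exact ⟨⟨y, kFr_lt b i y hy⟩, mem_lst.2 hy, Fin.ext ((act_code isOmega_om card_F4 hg _).trans e')⟩
    refine mem_Bset.2 ⟨⟨j, (kFr_length b) ▸ hj⟩, ?_⟩
    rw [him, frB, List.getD_eq_getElem _ _ hj]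
    exact lst_congr (Nat.eq_of_beq_eq_true e).symm
  have hpowM : ∀ k, mat g ^ k = mdec om (powM m k) := by
    intro k
    induction k with
    | zero => rw [pow_zero]; exact (mdec_idM isOmega_om).symm
    | succ k ih =>
      rw [pow_succ', ih, hg, powM, mdec_mulM isOmega_om]
      induction k with
      | zero => rfl
      | succ k _ => simp [powM, mulM]; exact (show ∀ k, (powM m k).length = 6 from fun k => by
          induction k with
          | zero => rfl
          | succ k ih => simpa [powM, mulM] using ih) k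
  have h45 : g ^ 45 = 1 := by
    refine mat_injective ?_
    have : mat (g ^ 45) = mat g ^ 45 := by
      generalize 45 = k
      induction k with
      | zero => rfl
      | succ k ih => rw [pow_succ, pow_succ, ← ih]; rfl
    rw [this, hpowM, eq_of_beq hpow, mdec_idM isOmega_om]
    rfl
  have e : g = g ^ 23 * g ^ 23 := by rw [← pow_add, show 23 + 23 = 45 + 1 from rfl, pow_succ, h45, one_mul]
  rw [e]
  exact sq_mem_Kb isOmega_om card_F4 b (pow_mem hL 23)

theorem exists_conj (b : Fin 3) {g : GS F4} (hg : g ∈ FiLarge.K 0) :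
    ∃ g' ∈ FiLarge.K b, mat g' = dMat b * mat g * dMatI b := by
  rw [K_eq_closure] at hg
  induction hg using Subgroup.closure_induction with
  | mem x hx => obtain ⟨t, rfl⟩ := hx; exact gen_conj b t
  | one => exact ⟨1, one_mem _, by rw [show mat (1 : GS F4) = 1 from rfl, mul_one, (dMat_mul b).1]⟩
  | mul x y _ _ hx hy =>
    obtain ⟨x', hx', ex⟩ := hx
    obtain ⟨y', hy', ey⟩ := hy
    refine ⟨x' * y', mul_mem hx' hy', ?_⟩
    show mat x' * mat y' = _ * (mat x * mat y) * _
    rw [ex, ey]
    simp only [mul_assoc]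
    rw [← mul_assoc (dMatI b) (dMat b), (dMat_mul b).2, one_mul]
  | inv x _ hx =>
    obtain ⟨x', hx', ex⟩ := hx
    refine ⟨x'⁻¹, inv_mem hx', ?_⟩
    have h1 : mat x'⁻¹ * mat x' = 1 := by
      show mat (x'⁻¹ * x') = 1
      rw [inv_mul_cancel]; rfl
    have h2 : mat x * mat x⁻¹ = 1 := by
      show mat (x * x⁻¹) = 1
      rw [mul_inv_cancel]; rfl
    have h3 : mat x' * (dMat b * mat x⁻¹ * dMatI b) = 1 := by
      rw [ex]
      simp only [mul_assoc]
      rw [← mul_assoc (dMatI b) (dMat b), (dMat_mul b).2, one_mul, ← mul_assoc (mat x), h2, one_mul,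
        (dMat_mul b).1]
    calc mat x'⁻¹ = mat x'⁻¹ * (mat x' * (dMat b * mat x⁻¹ * dMatI b)) := by rw [h3, mul_one]
      _ = dMat b * mat x⁻¹ * dMatI b := by rw [← mul_assoc, h1, one_mul]

/-- The conjugation onto the cover `b`. -/
noncomputable def covHom (b : Fin 3) : FiLarge.K 0 →* GS F4 where
  toFun g := (exists_conj b g.2).choose
  map_one' := mat_injective (by
    rw [(exists_conj b (1 : FiLarge.K 0).2).choose_spec.2]
    show dMat b * (1 : Matrix (Fin 6) (Fin 6) F4) * dMatI b = 1
    rw [mul_one, (dMat_mul b).1])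
  map_mul' x y := mat_injective (by
    show _ = mat (exists_conj b x.2).choose * mat (exists_conj b y.2).choose
    rw [(exists_conj b (x * y).2).choose_spec.2, (exists_conj b x.2).choose_spec.2,
      (exists_conj b y.2).choose_spec.2]
    show dMat b * (mat (x : GS F4) * mat (y : GS F4)) * dMatI b = _
    simp only [mul_assoc]
    rw [← mul_assoc (dMatI b) (dMat b), (dMat_mul b).2, one_mul])

theorem covHom_mat (b : Fin 3) (g : FiLarge.K 0) : mat (covHom b g) = dMat b * mat (g : GS F4) * dMatI b :=
  (exists_conj b g.2).choose_spec.2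

theorem covHom_injective (b : Fin 3) : Function.Injective (covHom b) := fun x y e => by
  refine Subtype.ext (mat_injective ?_)
  have h := congrArg (fun g => dMatI b * mat g * dMat b) e
  simp only [covHom_mat, mul_assoc, (dMat_mul b).2, mul_one] at h
  simpa only [← mul_assoc, (dMat_mul b).2, one_mul] using h

theorem covHom_range (b : Fin 3) : (covHom b).range = FiLarge.K b := by
  refine Subgroup.eq_of_le_of_card_ge ?_ (le_of_eq ?_)
  · rintro _ ⟨g, rfl⟩; exact (exists_conj b g.2).choose_spec.1
  · rw [card_Kb, ← card_Kb isOmega_om card_F4 0,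
      Nat.card_congr (MonoidHom.ofInjective (covHom_injective b)).toEquiv]

theorem orbit_transfer (b : Fin 3) {r : ℕ} (hr : mulV (diagM (dInv b)) r = r) (v : V6) :
    (∃ g ∈ FiLarge.K b, mat g *ᵥ vdec om r = v) ↔
      ∃ g ∈ FiLarge.K 0, mat g *ᵥ vdec om r = dMatI b *ᵥ v := by
  have hI : dMatI b *ᵥ vdec om r = vdec om r := by rw [dMatI, ← vdec_mulV isOmega_om, hr]
  have hD : dMat b *ᵥ vdec om r = vdec om r := by
    conv_lhs => rw [← hI]
    rw [Matrix.mulVec_mulVec, (dMat_mul b).1, Matrix.one_mulVec]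
  constructor
  · rintro ⟨g, hg, rfl⟩
    obtain ⟨k, rfl⟩ : g ∈ (covHom b).range := (covHom_range b).symm ▸ hg
    refine ⟨k, k.2, ?_⟩
    rw [covHom_mat, Matrix.mulVec_mulVec, ← mul_assoc, ← mul_assoc, (dMat_mul b).2, one_mul,
      ← Matrix.mulVec_mulVec, hI]
  · rintro ⟨g, hg, e⟩
    refine ⟨covHom b ⟨g, hg⟩, (covHom_range b).le ⟨_, rfl⟩, dMatI_inj b ?_⟩
    rw [covHom_mat, Matrix.mulVec_mulVec, ← mul_assoc, ← mul_assoc, (dMat_mul b).2, one_mul,
      ← Matrix.mulVec_mulVec, hI]
    exact e

variable {G : Type*} [Group G] {z : G} {Q : Subgroup (Subgroup.centralizer ({z} : Set G))}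

/-- The action after the change of coordinates. -/
noncomputable def actZero (c : Coord z Q) : c.M →* GS F4 :=
  (FiLarge.K 0).subtype.comp ((MonoidHom.ofInjective (covHom_injective c.b)).symm.toMonoidHom.comp
    (c.act.codRestrict (covHom c.b).range fun m =>
      (covHom_range c.b).symm ▸ (c.range_act ▸ (⟨m, rfl⟩ : c.act m ∈ c.act.range))))

theorem actZero_spec (c : Coord z Q) (m : c.M) :
    mat (c.act m) = dMat c.b * mat (actZero c m) * dMatI c.b := by
  obtain ⟨y, hy⟩ : ∃ y : FiLarge.K 0, y = (MonoidHom.ofInjective (covHom_injective c.b)).symm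
      (⟨c.act m, (covHom_range c.b).symm ▸ (c.range_act ▸ (⟨m, rfl⟩ : c.act m ∈ c.act.range))⟩) := ⟨_, rfl⟩
  have h : covHom c.b y = c.act m := by
    have h' := congrArg (fun x => ((MonoidHom.ofInjective (covHom_injective c.b) x : (covHom c.b).range) : GS F4)) hy
    simpa [MonoidHom.ofInjective_apply] using h'
  rw [← h, covHom_mat, hy]
  rfl

theorem actZero_mem (c : Coord z Q) (m : c.M) : actZero c m ∈ FiLarge.K 0 := Subtype.mem _

/-- The coordinates for the cover number `0`. -/
noncomputable def toZero (c : Coord z Q) : Coord z Q where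
  b := 0
  pr q := dMatI c.b *ᵥ c.pr q
  pr_mul q hq r hr := by rw [c.pr_mul q hq r hr, Matrix.mulVec_add]
  pr_surj v := by
    obtain ⟨q, hq, e⟩ := c.pr_surj (dMat c.b *ᵥ v)
    exact ⟨q, hq, by rw [e, Matrix.mulVec_mulVec, (dMat_mul c.b).2, Matrix.one_mulVec]⟩
  pr_eq_zero q hq := by
    rw [← c.pr_eq_zero q hq]
    exact ⟨fun h => dMatI_inj c.b (h.trans (Matrix.mulVec_zero _).symm),
      fun h => by rw [h, Matrix.mulVec_zero]⟩
  comm_iff q hq r hr := by rw [c.comm_iff q hq r hr, herm_dMatI]
  sq_iff q hq := by rw [c.sq_iff q hq, herm_dMatI]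
  M := c.M
  le_M := c.le_M
  index_M := c.index_M
  act := actZero c
  range_act := by
    refine le_antisymm ?_ fun g hg => ?_
    · rintro _ ⟨m, rfl⟩; exact actZero_mem c m
    · obtain ⟨m, hm⟩ : covHom c.b ⟨g, hg⟩ ∈ c.act.range :=
        c.range_act.symm ▸ (covHom_range c.b).le ⟨_, rfl⟩
      refine ⟨m, ?_⟩
      have h := congrArg mat hm
      rw [actZero_spec, covHom_mat] at h
      have h' := congrArg (fun x => dMatI c.b * x * dMat c.b) h
      simp only [mul_assoc, (dMat_mul c.b).2, mul_one] at h'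
      refine mat_injective ?_
      simpa only [← mul_assoc, (dMat_mul c.b).2, one_mul] using h'
  ker_act m := by
    rw [← c.ker_act m]
    constructor
    · intro h
      refine mat_injective ?_
      rw [actZero_spec, h]
      show dMat c.b * (1 : Matrix (Fin 6) (Fin 6) F4) * dMatI c.b = 1
      rw [mul_one, (dMat_mul c.b).1]
    · intro h
      refine mat_injective ?_
      have h' := actZero_spec c m
      rw [h] at h'
      have h'' := congrArg (fun x => dMatI c.b * x * dMat c.b) h'
      simp only [mul_assoc, (dMat_mul c.b).2, mul_one] at h''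
      simp only [← mul_assoc, (dMat_mul c.b).2, one_mul] at h''
      rw [show mat (1 : GS F4) = 1 from rfl] at h'' ⊢
      simpa [(dMat_mul c.b).2] using h''.symm
  conj_pr m q hq := by
    rw [c.conj_pr m q hq, actZero_spec]
    simp only [Matrix.mulVec_mulVec, ← mul_assoc, (dMat_mul c.b).2, one_mul]
  faithful h hh := c.faithful h fun q hq => dMatI_inj c.b (hh q hq)
  semi h := by
    obtain ⟨e, he, hs, hherm⟩ := c.semi h
    refine ⟨e, he, fun q hq r hr a hqr => ?_, fun q hq r hr => ?_⟩
    · rw [hs q hq r hr a (dMatI_inj c.b (hqr.trans (dMatI_smul c.b a _).symm)), dMatI_smul]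
    · rw [herm_dMatI, herm_dMatI, hherm q hq r hr]

@[simp] theorem toZero_b (c : Coord z Q) : (toZero c).b = 0 := rfl

theorem toZero_M (c : Coord z Q) : (toZero c).M = c.M := rfl

theorem toZero_pr (c : Coord z Q) (q : Subgroup.centralizer ({z} : Set G)) :
    (toZero c).pr q = dMatI c.b *ᵥ c.pr q := rfl

theorem inBig_toZero (c : Coord z Q) (q : Subgroup.centralizer ({z} : Set G)) :
    InBig (toZero c).b ((toZero c).pr q) ↔ InBig c.b (c.pr q) :=
  (orbit_transfer c.b (diag_checks c.b).2.2.2 _).symm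

theorem inSmall_toZero (c : Coord z Q) (q : Subgroup.centralizer ({z} : Set G)) :
    InSmall (toZero c).b ((toZero c).pr q) ↔ InSmall c.b (c.pr q) :=
  (orbit_transfer c.b (diag_checks c.b).2.2.1 _).symm

end CfsgLib.Trans3.FischerType
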