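import Cfsg.Agent.Lib.Trans3.FischerType.MaxFacts
import Cfsg.Agent.Lib.Trans3.FischerType.PairCent
import Cfsg.Agent.Lib.Trans3.ExtraAbelian
import Mathlib.GroupTheory.Nilpotent

/-!
The preimage of `U` extended by the elements over `W` that centralise it is the unique largest elementary
abelian subgroup of a Sylow 2-subgroup.
-/

set_option autoImplicit false
set_option linter.unusedSectionVars false
set_option linter.style.haveILetI false

namespace CfsgLib.Trans3.FischerType.PairCode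

open Matrix CfsgLib.Chev.U43U6 CfsgLib.Trans3.FiLarge
open CfsgLib.Trans3.FischerType (app fixV ea_Kb unique_wide exists_scalar)

variable {G : Type*} [Group G] {z : G} {Q : Subgroup (Subgroup.centralizer ({z} : Set G))}

/-- An element of the subgroup of index two in the ambient group. -/
def up (c : Coord z Q) : c.M →* G := (Subgroup.centralizer ({z} : Set G)).subtype.comp c.M.subtype

theorem up_inj (c : Coord z Q) : Function.Injective (up c) :=
  Subtype.val_injective.comp Subtype.val_injective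

theorem actG_up (c : Coord z Q) (m : c.M) : actG c (up c m) = c.act m := actG_coe c m

theorem up_cent (c : Coord z Q) (m : c.M) : up c m ∈ Subgroup.centralizer ({z} : Set G) :=
  (m : Subgroup.centralizer ({z} : Set G)).2

theorem conj_z {g : G} (hg : g ∈ Subgroup.centralizer ({z} : Set G)) : g * z * g⁻¹ = z :=
  mul_inv_eq_iff_eq_mul.2 (Subgroup.mem_centralizer_singleton_iff.1 hg)

theorem om_smul_fixed : ∀ x : F4, om * x = x → x = 0 := by decide

theorem om_sq_fixed : ∀ x : F4, om * x = om ^ 2 * x → x = 0 := by decide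

/-- The elements over `W` centralising the preimage of `U`. -/
noncomputable def mxA (c : Coord z Q) (f : WFacts 0) : Subgroup G :=
  (f.W.comap c.act).map (up c) ⊓ Subgroup.centralizer {g : G | g ∈ qg Q ∧ prG c g ∈ f.U}

theorem mem_mxA (c : Coord z Q) (f : WFacts 0) {g : G} :
    g ∈ mxA c f ↔ (∃ m : c.M, up c m = g ∧ c.act m ∈ f.W) ∧
      ∀ b ∈ qg Q, prG c b ∈ f.U → g * b = b * g := by
  rw [mxA, Subgroup.mem_inf, Subgroup.mem_centralizer_iff]
  refine and_congr ⟨fun ⟨m, hm, e⟩ => ⟨m, e, hm⟩, fun ⟨m, e, hm⟩ => ⟨m, hm, e⟩⟩ ?_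
  exact ⟨fun h b hb hu => (h b ⟨hb, hu⟩).symm, fun h b hb => (h b hb.1 hb.2).symm⟩

/-- The hypotheses. -/
structure MaxHyp (c : Coord z Q) : Prop where
  hb : c.b = 0
  z_ne : z ≠ 1
  z_qg : z ∈ qg Q
  card_Q : Nat.card Q = 2 ^ 13
  ext : Cfsg.IsExtraspecial 2 Q
  semi : OuterSemi c

namespace MaxHyp

variable {c : Coord z Q} (d : MaxHyp c) (f : WFacts 0) [Finite G] [Q.Normal]

include d

theorem range : c.act.range = K 0 := by rw [c.range_act, d.hb]

theorem act_mem (m : c.M) : c.act m ∈ K 0 := d.range ▸ ⟨m, rfl⟩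

theorem prG_z : prG c z = 0 := (prG_eq_zero c d.z_qg).2 (Or.inr rfl)

theorem zz : z * z = 1 := by
  rw [sq_iff_herm c d.z_qg, d.prG_z]
  simp [herm6, Cfsg.hermForm]

theorem b_sq {b : G} (hb : b ∈ qg Q) (hu : prG c b ∈ f.U) : b * b = 1 :=
  (sq_iff_herm c hb).2 (f.U_iso hu)

theorem mem_qg_iff {g : G} (hg : g ∈ qg Q) : g ∈ mxA c f ↔ prG c g ∈ f.U := by
  rw [mem_mxA]
  constructor
  · rintro ⟨-, h⟩
    refine f.perp fun u hu => ?_
    obtain ⟨b, hb, rfl⟩ := prG_surj c u
    exact (comm_iff_bform c hg hb).1 (h b hb hu)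
  · intro hu
    refine ⟨?_, fun b hb hbu => (comm_iff_bform c hg hb).2 (f.U_bform _ hu _ hbu)⟩
    obtain ⟨q, hq, rfl⟩ := hg
    exact ⟨⟨q, c.le_M hq⟩, rfl, ((c.ker_act ⟨q, c.le_M hq⟩).2 hq).symm ▸ one_mem _⟩

theorem exists_up {g : G} (hg : g ∈ mxA c f) : ∃ m : c.M, up c m = g := by
  obtain ⟨⟨m, e, -⟩, -⟩ := (mem_mxA c f).1 hg
  exact ⟨m, e⟩

theorem act_mem_W {g : G} (hg : g ∈ mxA c f) : actG c g ∈ f.W := by
  obtain ⟨⟨m, rfl, hm⟩, -⟩ := (mem_mxA c f).1 hg
  rw [actG_up]; exact hm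

theorem z_mem : z ∈ mxA c f := (d.mem_qg_iff f d.z_qg).2 (by rw [d.prG_z]; exact f.U.zero_mem)

/-- Every element of `W` lifts. -/
theorem act_surj {w : GS F4} (hw : w ∈ f.W) : ∃ g ∈ mxA c f, actG c g = w := by
  classical
  obtain ⟨m, rfl⟩ : w ∈ c.act.range := by rw [d.range]; exact f.W_le_K hw
  set g := up c m
  have hgz : g * z * g⁻¹ = z := conj_z (up_cent c m)
  let mv : G → F4 := fun b => if g * b * g⁻¹ = b then 0 else 1
  have hb' : ∀ b ∈ qg Q, prG c b ∈ f.U → g * b * g⁻¹ = b ∨ g * b * g⁻¹ = b * z := fun b hb hu => by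
    obtain ⟨h1, h2⟩ := conj_prG c (m := m) hb
    exact (prG_eq_iff c hb h1).1 (h2.trans (f.W_fix _ hw _ hu)).symm
  have hne : ∀ b : G, b * z ≠ b := fun b e => d.z_ne (mul_eq_left.1 e)
  have hmvz : ∀ b ∈ qg Q, prG c b ∈ f.U → mv (b * z) = mv b := fun b hb hu => by
    simp only [mv, show g * (b * z) * g⁻¹ = g * b * g⁻¹ * (g * z * g⁻¹) by group, hgz, mul_left_inj]
  have hadd : ∀ a ∈ qg Q, prG c a ∈ f.U → ∀ b ∈ qg Q, prG c b ∈ f.U → mv (a * b) = mv a + mv b := by
    intro a ha hau b hb hbu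
    have hz : ∀ {x : G}, x ∈ qg Q → z * x = x * z := fun {x} hx => by
      exact (Subgroup.mem_centralizer_singleton_iff.1 (qg_le hx)).symm
    have e : g * (a * b) * g⁻¹ = g * a * g⁻¹ * (g * b * g⁻¹) := by group
    have hab : a * z * b = a * b * z := by rw [mul_assoc, hz hb, ← mul_assoc]
    have habz : a * z * (b * z) = a * b := by
      rw [← mul_assoc, hab, mul_assoc, d.zz, mul_one]
    have hn := hne (a * b)
    simp only [mv]
    rw [e]
    rcases hb' a ha hau with h1 | h1 <;> rcases hb' b hb hbu with h2 | h2 <;> rw [h1, h2]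
    · simp
    · rw [← mul_assoc, if_neg hn, if_pos rfl, if_neg (hne b), zero_add]
    · rw [hab, if_neg hn, if_neg (hne a), if_pos rfl, add_zero]
    · rw [habz, if_pos rfl, if_neg (hne a), if_neg (hne b), f4_two]
  choose sc hsc hscu using fun u : f.U => prG_surj c (u : V6)
  obtain ⟨v, hv⟩ := f.exists_char (fun u => mv (sc u)) (fun u => by simp only [mv]; split <;> simp)
    fun u u' => by
      have hu := mul_mem (hsc u) (hsc u')
      have e : prG c (sc u * sc u') = prG c (sc (u + u')) := by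
        rw [prG_mul c (hsc u) (hsc u'), hscu, hscu, hscu]; rfl
      show mv (sc (u + u')) = mv (sc u) + mv (sc u')
      rw [← hadd _ (hsc u) (by rw [hscu]; exact u.2) _ (hsc u') (by rw [hscu]; exact u'.2)]
      rcases (prG_eq_iff c hu (hsc (u + u'))).1 e with e | e
      · rw [e]
      · rw [e, hmvz _ hu (by rw [prG_mul c (hsc u) (hsc u'), hscu, hscu]; exact f.U.add_mem u.2 u'.2)]
  obtain ⟨r, hr, rfl⟩ := prG_surj c v
  obtain ⟨q, hq, rfl⟩ := hr
  refine ⟨up c (⟨q, c.le_M hq⟩ * m), (mem_mxA c f).2 ⟨⟨_, rfl, ?_⟩, fun b hb hbu => ?_⟩, ?_⟩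
  · rw [map_mul, (c.ker_act ⟨q, c.le_M hq⟩).2 hq, one_mul]; exact hw
  · set r := ((q : Subgroup.centralizer ({z} : Set G)) : G)
    have hr : r ∈ qg Q := mem_qg.2 hq
    have hu := hv ⟨_, hbu⟩
    have hmv : mv (sc ⟨_, hbu⟩) = mv b := by
      rcases (prG_eq_iff c hb (hsc ⟨_, hbu⟩)).1 (hscu ⟨_, hbu⟩).symm with e | e
      · rw [e]
      · rw [e, hmvz b hb hbu]
    change bform (prG c r) (prG c b) = mv (sc ⟨_, hbu⟩) at hu
    rw [hmv, WFacts.bform_symm] at hu
    show r * g * b = b * (r * g)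
    rw [← mul_inv_eq_iff_eq_mul, show r * g * b * (r * g)⁻¹ = r * (g * b * g⁻¹) * r⁻¹ by group]
    rcases hb' b hb hbu with h | h
    · rw [h]
      simp only [mv, h, if_true] at hu
      exact conj_fixed c hr hb hu
    · rw [h]
      simp only [mv, h, hne, if_false] at hu
      rw [show r * (b * z) * r⁻¹ = r * b * r⁻¹ * (r * z * r⁻¹) by group, conj_moved c hr hb hu,
        conj_z (qg_le hr), mul_assoc, d.zz, mul_one]
  · rw [actG_up, map_mul, (c.ker_act ⟨q, c.le_M hq⟩).2 hq, one_mul]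

theorem actG_mul' {a b : G} (ha : a ∈ mxA c f) (hb : b ∈ mxA c f) :
    actG c (a * b) = actG c a * actG c b := by
  obtain ⟨j, rfl⟩ := d.exists_up f ha
  obtain ⟨k, rfl⟩ := d.exists_up f hb
  rw [← map_mul, actG_up, actG_up, actG_up, map_mul]

theorem actG_one_iff {a : G} (ha : a ∈ mxA c f) : actG c a = 1 ↔ a ∈ qg Q := by
  obtain ⟨j, rfl⟩ := d.exists_up f ha
  rw [actG_up, c.ker_act]
  exact mem_qg.symm

/-- Lifts of elements of `N` normalise `A`. -/
theorem conj_mxA {n : c.M} (hW : ∀ w ∈ f.W, c.act n * w * (c.act n)⁻¹ ∈ f.W)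
    (hU : ∀ u ∈ f.U, mat (c.act n)⁻¹ *ᵥ u ∈ f.U) {a : G} (ha : a ∈ mxA c f) :
    up c n * a * (up c n)⁻¹ ∈ mxA c f := by
  obtain ⟨⟨m, rfl, hm⟩, hcomm⟩ := (mem_mxA c f).1 ha
  refine (mem_mxA c f).2 ⟨⟨n * m * n⁻¹, by simp, by simpa using hW _ hm⟩, fun b hb hbu => ?_⟩
  obtain ⟨h1, h2⟩ := conj_prG c (m := n⁻¹) hb
  have h := hcomm _ h1 (by rw [h2, map_inv]; exact hU _ hbu)
  have e : ((↑(n⁻¹ : c.M) : Subgroup.centralizer ({z} : Set G)) : G) = (up c n)⁻¹ := rfl
  rw [e, inv_inv] at h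
  calc up c n * up c m * (up c n)⁻¹ * b
      = up c n * (up c m * ((up c n)⁻¹ * b * up c n)) * (up c n)⁻¹ := by group
    _ = b * (up c n * up c m * (up c n)⁻¹) := by rw [h]; group

/-- The square of an element of `A` is central and depends only on its image. -/
theorem sq_central {a : G} (ha : a ∈ mxA c f) : a * a = 1 ∨ a * a = z := by
  have h2 : a * a ∈ qg Q := (d.actG_one_iff f (mul_mem ha ha)).1 (by
    rw [d.actG_mul' f ha ha, f.W_sq _ (d.act_mem_W f ha)])
  have hu : prG c (a * a) ∈ f.U := (d.mem_qg_iff f h2).1 (mul_mem ha ha)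
  obtain ⟨k, hk, hkm⟩ := exists_scalar 0
  obtain ⟨x, rfl⟩ : k ∈ c.act.range := by rw [d.range]; exact hk
  have hscal : ∀ v : V6, mat (c.act x) *ᵥ v = om • v := fun v => by
    rw [hkm, Matrix.smul_mulVec, Matrix.one_mulVec]
  have hscal' : ∀ v : V6, mat (c.act x)⁻¹ *ᵥ (om • v) = v := fun v => by
    rw [← hscal]; exact CfsgLib.Trans3.FischerType.app_inv _ v
  have hcommW : ∀ w : GS F4, c.act x * w * (c.act x)⁻¹ = w := fun w => by
    rw [mul_inv_eq_iff_eq_mul]
    refine CfsgLib.Trans3.FischerType.ext_app fun v => ?_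
    rw [CfsgLib.Trans3.FischerType.app_mul, CfsgLib.Trans3.FischerType.app_mul]
    simp only [app, hscal, Matrix.mulVec_smul]
  set g := up c x
  have hg := d.conj_mxA f (n := x) (fun w hw => (hcommW w).symm ▸ hw) (fun u hu => by
    have h0 : u = om • (om ^ 2 • u) := by
      rw [smul_smul, show om * om ^ 2 = 1 by decide, one_smul]
    rw [h0, hscal']
    exact f.smul_mem hu _) ha
  have hact : actG c (g * a * g⁻¹) = actG c a := by
    obtain ⟨j, rfl⟩ := d.exists_up f ha
    rw [← map_inv, ← map_mul, ← map_mul, actG_up, actG_up, map_mul, map_mul, map_inv, hcommW]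
  have hb : a⁻¹ * (g * a * g⁻¹) ∈ qg Q := (d.actG_one_iff f (mul_mem (inv_mem ha) hg)).1 (by
    rw [d.actG_mul' f (inv_mem ha) hg, hact]
    obtain ⟨j, rfl⟩ := d.exists_up f ha
    rw [← map_inv, actG_up, actG_up, map_inv, inv_mul_cancel])
  set b := a⁻¹ * (g * a * g⁻¹)
  have hbu : prG c b ∈ f.U := (d.mem_qg_iff f hb).1 (mul_mem (inv_mem ha) hg)
  have hab : a * b = b * a := ((mem_mxA c f).1 ha).2 b hb hbu
  have hfix : g * (a * a) * g⁻¹ = a * a := by
    calc g * (a * a) * g⁻¹ = (a * b) * (a * b) := by simp only [b]; group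
      _ = a * a * (b * b) := by rw [show (a * b) * (a * b) = a * (b * a) * b by group, ← hab]; group
      _ = a * a := by rw [d.b_sq f hb hbu, mul_one]
  obtain ⟨-, h4⟩ := conj_prG c (m := x) h2
  change prG c (g * (a * a) * g⁻¹) = _ at h4
  rw [hfix, hscal] at h4
  exact (prG_eq_zero c h2).1 (funext fun i => om_smul_fixed _ (congrFun h4.symm i))

theorem sq_coset {a a' : G} (ha : a ∈ mxA c f) (ha' : a' ∈ mxA c f) (h : actG c a' = actG c a) :
    a' * a' = a * a := by
  have hb : a⁻¹ * a' ∈ qg Q := (d.actG_one_iff f (mul_mem (inv_mem ha) ha')).1 (by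
    rw [d.actG_mul' f (inv_mem ha) ha', h]
    obtain ⟨j, rfl⟩ := d.exists_up f ha
    rw [← map_inv, actG_up, actG_up, map_inv, inv_mul_cancel])
  set b := a⁻¹ * a'
  have hbu : prG c b ∈ f.U := (d.mem_qg_iff f hb).1 (mul_mem (inv_mem ha) ha')
  have hab : a * b = b * a := ((mem_mxA c f).1 ha).2 b hb hbu
  calc a' * a' = (a * b) * (a * b) := by simp only [b]; group
    _ = a * a * (b * b) := by rw [show (a * b) * (a * b) = a * (b * a) * b by group, ← hab]; group
    _ = a * a := by rw [d.b_sq f hb hbu, mul_one]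

theorem sq_one {a : G} (ha : a ∈ mxA c f) : a * a = 1 := by
  classical
  by_cases h1 : actG c a = 1
  · have hq := (d.actG_one_iff f ha).1 h1
    exact d.b_sq f hq ((d.mem_qg_iff f hq).1 ha)
  refine (d.sq_central f ha).resolve_right fun hsq => ?_
  -- then all elements outside square to `z`
  have hall : ∀ x ∈ mxA c f, actG c x ≠ 1 → x * x = z := by
    intro x hx hx1
    obtain ⟨g, hg, he⟩ := f.trans_W _ (d.act_mem_W f ha) h1 _ (d.act_mem_W f hx) hx1
    obtain ⟨n, hn⟩ : g ∈ c.act.range := by rw [d.range]; exact f.N_le hg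
    have hc := d.conj_mxA f (n := n) (fun w hw => hn ▸ f.N_norm g hg w hw)
      (fun u hu => hn ▸ f.N_U _ (inv_mem hg) u hu) ha
    have hact : actG c (up c n * a * (up c n)⁻¹) = actG c x := by
      obtain ⟨j, rfl⟩ := d.exists_up f ha
      rw [← map_inv, ← map_mul, ← map_mul, actG_up, map_mul, map_mul, map_inv, hn, ← he, actG_up]
    rw [d.sq_coset f hc hx hact.symm, show up c n * a * (up c n)⁻¹ * (up c n * a * (up c n)⁻¹) =
      up c n * (a * a) * (up c n)⁻¹ by group, hsq, conj_z (up_cent c n)]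
  have hanti : ∀ x ∈ mxA c f, ∀ y ∈ mxA c f, actG c x ≠ 1 → actG c y ≠ 1 → actG c x * actG c y ≠ 1 →
      x * y = z * y * x := by
    intro x hx y hy hx1 hy1 hxy
    have h3 := hall _ (mul_mem hx hy) (by rw [d.actG_mul' f hx hy]; exact hxy)
    have hzz : z * z = 1 := d.zz
    have hcx : x * z = z * x :=
      Subgroup.mem_centralizer_singleton_iff.1 (by obtain ⟨j, rfl⟩ := d.exists_up f hx; exact up_cent c j)
    have hcy : y * z = z * y :=
      Subgroup.mem_centralizer_singleton_iff.1 (by obtain ⟨j, rfl⟩ := d.exists_up f hy; exact up_cent c j)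
    have ix : x⁻¹ = x * z := inv_eq_of_mul_eq_one_right (by rw [← mul_assoc, hall x hx hx1, hzz])
    have iy : y⁻¹ = y * z := inv_eq_of_mul_eq_one_right (by rw [← mul_assoc, hall y hy hy1, hzz])
    calc x * y = z * (x * y)⁻¹ := by
          rw [eq_mul_inv_iff_mul_eq]; exact h3
      _ = z * (y * z * (x * z)) := by rw [_root_.mul_inv_rev, ix, iy]
      _ = z * y * x * (z * z) := by rw [show z * (y * z * (x * z)) = z * y * (z * x) * z by group, ← hcx]; group
      _ = z * y * x := by rw [hzz, mul_one]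
  set w₁ := actG c a
  have hw₁ : w₁ ∈ f.W := d.act_mem_W f ha
  have pick : ∀ L : Finset (GS F4), L.card < 16 → ∃ w ∈ f.W, w ∉ L := by
    intro L hL
    by_contra hne
    push Not at hne
    have h := Set.ncard_le_ncard (show (f.W : Set (GS F4)) ⊆ ↑L from fun w hw => hne w hw) (Set.toFinite _)
    rw [Set.ncard_coe_finset, ← Nat.card_coe_set_eq, SetLike.coe_sort_coe, f.card_W] at h
    omega
  obtain ⟨w₂, hw₂, hn₂⟩ := pick {1, w₁} (lt_of_le_of_lt Finset.card_le_two (by norm_num))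
  obtain ⟨w₃, hw₃, hn₃⟩ := pick {1, w₁, w₂, w₁ * w₂}
    (lt_of_le_of_lt Finset.card_le_four (by norm_num))
  simp only [Finset.mem_insert, Finset.mem_singleton, not_or] at hn₂ hn₃
  obtain ⟨b, hb, hbw⟩ := d.act_surj f hw₂
  obtain ⟨e, he, hew⟩ := d.act_surj f hw₃
  have cancel : ∀ {u v : GS F4}, u ∈ f.W → u * v = 1 → v = u := fun {u v} hu h => by
    calc v = u * u * v := by rw [f.W_sq u hu, one_mul]
      _ = u := by rw [mul_assoc, h, mul_one]
  have hbe : actG c (b * e) = w₂ * w₃ := by rw [d.actG_mul' f hb he, hbw, hew]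
  have h12 := hanti a ha b hb h1 (hbw ▸ hn₂.1) (fun h => hn₂.2 (hbw ▸ cancel hw₁ h))
  have h13 := hanti a ha e he h1 (hew ▸ hn₃.1) (fun h => hn₃.2.1 (hew ▸ cancel hw₁ h))
  have h123 := hanti a ha (b * e) (mul_mem hb he) h1
    (hbe ▸ fun h => hn₃.2.2.1 (cancel hw₂ h))
    (hbe ▸ fun h => hn₃.2.2.2 (by
      have e' := cancel hw₁ h
      calc w₃ = w₂ * w₂ * w₃ := by rw [f.W_sq _ hw₂, one_mul]
        _ = w₂ * w₁ := by rw [mul_assoc, e']
        _ = w₁ * w₂ := congrArg Subtype.val (f.W_elem.1.1.comm ⟨w₂, hw₂⟩ ⟨w₁, hw₁⟩)))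
  have hcb : b * z = z * b :=
    Subgroup.mem_centralizer_singleton_iff.1 (by obtain ⟨j, rfl⟩ := d.exists_up f hb; exact up_cent c j)
  refine d.z_ne ?_
  have h2 : a * (b * e) = b * e * a := by
    rw [← mul_assoc, h12, mul_assoc (z * b), h13, show z * b * (z * e * a) = z * (b * z) * e * a by group,
      hcb, ← mul_assoc, d.zz, one_mul]
  rw [h2, mul_assoc z] at h123
  exact mul_eq_right.1 h123.symm

theorem elem : Cfsg.IsElementaryAbelian 2 (mxA c f) := by
  refine ⟨⟨⟨fun x y => Subtype.ext ?_⟩⟩, fun a ha => by rw [pow_two]; exact d.sq_one f ha⟩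
  show (x : G) * y = y * x
  calc (x : G) * y = ((x : G) * y)⁻¹ := (inv_eq_of_mul_eq_one_right (d.sq_one f (mul_mem x.2 y.2))).symm
    _ = (y : G) * x := by
      rw [_root_.mul_inv_rev, inv_eq_of_mul_eq_one_right (d.sq_one f x.2),
        inv_eq_of_mul_eq_one_right (d.sq_one f y.2)]

theorem card_B : Nat.card ↥(mxA c f ⊓ qg Q : Subgroup G) = 2 ^ 7 := by
  classical
  haveI := Fintype.ofFinite G
  set X : Set G := ((mxA c f ⊓ qg Q : Subgroup G) : Set G)
  have hXU : ∀ g ∈ X, prG c g ∈ f.U := fun g hg =>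
    (d.mem_qg_iff f (Subgroup.mem_inf.1 hg).2).1 (Subgroup.mem_inf.1 hg).1
  rw [← SetLike.coe_sort_coe, Nat.card_coe_set_eq, Set.ncard_eq_toFinset_card' X,
    Finset.card_eq_sum_card_fiberwise (f := prG c) (t := (f.U : Set V6).toFinite.toFinset)
      (fun g hg => by simpa using hXU g (Set.mem_toFinset.1 hg)),
    Finset.sum_const_nat (m := 2), ← Set.ncard_eq_toFinset_card, ← Nat.card_coe_set_eq,
    SetLike.coe_sort_coe, f.card_U]
  · norm_num
  intro u hu
  rw [Set.Finite.mem_toFinset] at hu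
  obtain ⟨g, hg, hgu⟩ := prG_surj c u
  have e : X.toFinset.filter (fun x => prG c x = u) = {g, g * z} := by
    ext x
    simp only [Finset.mem_filter, Set.mem_toFinset, Finset.mem_insert, Finset.mem_singleton]
    constructor
    · rintro ⟨hx, hxu⟩
      exact (prG_eq_iff c hg (Subgroup.mem_inf.1 hx).2).1 (hgu.trans hxu.symm)
    · intro hx
      have hxq : x ∈ qg Q := by rcases hx with rfl | rfl; exacts [hg, mul_mem hg d.z_qg]
      have hxu : prG c x = u := ((prG_eq_iff c hg hxq).2 hx).symm.trans hgu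
      exact ⟨Subgroup.mem_inf.2 ⟨(d.mem_qg_iff f hxq).2 (hxu ▸ hu), hxq⟩, hxu⟩
  rw [e, Finset.card_pair fun h => d.z_ne (mul_eq_left.1 h.symm)]

theorem card_A : Nat.card (mxA c f) = 2 ^ 11 := by
  have hle : mxA c f ≤ (up c).range := fun g hg => d.exists_up f hg
  set A' := (mxA c f).comap (up c)
  have hA : A'.map (up c) = mxA c f := Subgroup.map_comap_eq_self hle
  rw [← hA, Subgroup.card_map_of_injective (up_inj c)]
  set φ := c.act.comp A'.subtype
  have hr : φ.range = f.W := by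
    ext w
    constructor
    · rintro ⟨m, rfl⟩
      have := d.act_mem_W f (m.2 : up c m ∈ mxA c f)
      rwa [actG_up] at this
    · intro hw
      obtain ⟨g, hg, he⟩ := d.act_surj f hw
      obtain ⟨m, rfl⟩ := d.exists_up f hg
      exact ⟨⟨m, hg⟩, (actG_up c m).symm.trans he⟩
  have hk : φ.ker.map ((up c).comp A'.subtype) = mxA c f ⊓ qg Q := by
    ext g
    constructor
    · rintro ⟨m, hm, rfl⟩
      exact Subgroup.mem_inf.2 ⟨m.2, mem_qg.2 ((c.ker_act _).1 hm)⟩
    · intro hg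
      obtain ⟨hg1, hg2⟩ := Subgroup.mem_inf.1 hg
      obtain ⟨m, rfl⟩ := d.exists_up f hg1
      exact ⟨⟨m, hg1⟩, (c.ker_act m).2 (mem_qg.1 hg2), rfl⟩
  have h := Subgroup.card_eq_card_quotient_mul_card_subgroup φ.ker
  rw [Nat.card_congr (QuotientGroup.quotientKerEquivRange φ).toEquiv, hr, f.card_W,
    ← Subgroup.card_map_of_injective (f := (up c).comp A'.subtype)
      ((up_inj c).comp A'.subtype_injective), hk, d.card_B f] at h
  rw [h]; norm_num

/-- A Sylow subgroup of the whole group inside the centraliser, containing `A`. -/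
theorem exists_sylow : ∃ T₀ : Sylow 2 G, (T₀ : Subgroup G) ≤ Subgroup.centralizer ({z} : Set G) ∧
    mxA c f ≤ (T₀ : Subgroup G) := by
  haveI : Fact (Nat.Prime 2) := ⟨Nat.prime_two⟩
  have hAH : mxA c f ≤ (Subgroup.centralizer ({z} : Set G)) := fun g hg => by obtain ⟨j, rfl⟩ := d.exists_up f hg; exact up_cent c j
  have hAp : IsPGroup 2 ↥(mxA c f) := fun a =>
    ⟨1, Subtype.ext (by rw [pow_one, Subgroup.coe_pow]; exact (d.elem f).2 a a.2)⟩
  obtain ⟨P₀, hP₀⟩ := (hAp.comap_of_injective (Subgroup.centralizer ({z} : Set G)).subtype Subtype.val_injective).exists_le_sylow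
  have hQp : IsPGroup 2 ↥Q := IsPGroup.of_card (n := 13) d.card_Q
  have hQP : Q ≤ (P₀ : Subgroup (Subgroup.centralizer ({z} : Set G))) := by
    have := P₀.is_maximal' (P₀.isPGroup'.to_sup_of_normal_right hQp) le_sup_left
    exact this ▸ le_sup_right
  set T' := (P₀ : Subgroup (Subgroup.centralizer ({z} : Set G))).map (Subgroup.centralizer ({z} : Set G)).subtype
  have hT'H : T' ≤ (Subgroup.centralizer ({z} : Set G)) := Subgroup.map_subtype_le _
  obtain ⟨S, hS⟩ := (P₀.isPGroup'.map (Subgroup.centralizer ({z} : Set G)).subtype).exists_le_sylow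
  have hinter : (S : Subgroup G) ⊓ (Subgroup.centralizer ({z} : Set G)) ≤ T' := by
    intro g hg
    obtain ⟨h1, h2⟩ := Subgroup.mem_inf.1 hg
    have hp : IsPGroup 2 ↥((S : Subgroup G).subgroupOf (Subgroup.centralizer ({z} : Set G))) :=
      S.isPGroup'.comap_of_injective (Subgroup.centralizer ({z} : Set G)).subtype Subtype.val_injective
    have e := P₀.is_maximal' hp fun x hx => hS ⟨x, hx, rfl⟩
    exact ⟨⟨g, h2⟩, e ▸ (show (⟨g, h2⟩ : (Subgroup.centralizer ({z} : Set G))) ∈ (S : Subgroup G).subgroupOf (Subgroup.centralizer ({z} : Set G)) from h1), rfl⟩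
  have hST : (S : Subgroup G) ≤ T' := by
    haveI := S.isPGroup'.isNilpotent
    by_contra hne
    have hlt : T'.subgroupOf (S : Subgroup G) < ⊤ := lt_top_iff_ne_top.2 fun e =>
      hne (Subgroup.subgroupOf_eq_top.1 e)
    obtain ⟨-, hno⟩ := SetLike.lt_iff_le_and_exists.1 (normalizerCondition_of_isNilpotent _ hlt)
    obtain ⟨n, hn, hnT⟩ := hno
    refine hnT (hinter (Subgroup.mem_inf.2 ⟨n.2, ?_⟩))
    -- the conjugate of `z` by `n` is central in `T'`, so equal to `z`
    rw [Subgroup.mem_normalizer_iff] at hn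
    have hzT : z ∈ T' := by
      obtain ⟨q, hq, e⟩ := d.z_qg
      exact ⟨q, hQP hq, e⟩
    have hu : (n : G) * z * (n : G)⁻¹ ∈ T' := (hn ⟨z, hS hzT⟩).1 hzT
    have hcomm : ∀ x ∈ T', (n : G) * z * (n : G)⁻¹ * x = x * ((n : G) * z * (n : G)⁻¹) := by
      intro x hx
      have hmem : (n : G)⁻¹ * x * (n : G) ∈ T' :=
        (hn ⟨_, mul_mem (mul_mem (inv_mem n.2) (hS hx)) n.2⟩).2 (by
          show (n : G) * ((n : G)⁻¹ * x * n) * (n : G)⁻¹ ∈ T'
          rw [show (n : G) * ((n : G)⁻¹ * x * n) * (n : G)⁻¹ = x by group]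
          exact hx)
      have h := Subgroup.mem_centralizer_singleton_iff.1 (hT'H hmem)
      calc (n : G) * z * (n : G)⁻¹ * x = n * (z * ((n : G)⁻¹ * x * n)) * (n : G)⁻¹ := by group
        _ = n * ((n : G)⁻¹ * x * n * z) * (n : G)⁻¹ := by rw [h]
        _ = _ := by group
    set u := (n : G) * z * (n : G)⁻¹
    have hqT : ∀ g ∈ qg Q, g ∈ T' := by rintro _ ⟨q, hq, rfl⟩; exact ⟨q, hQP hq, rfl⟩
    have huQ : (⟨u, hT'H hu⟩ : (Subgroup.centralizer ({z} : Set G))) ∈ Q := c.faithful _ fun q hq => congrArg c.pr (Subtype.ext (by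
      show u * (q : G) * u⁻¹ = q
      rw [hcomm _ (hqT _ (mem_qg.2 hq)), mul_inv_cancel_right]))
    have hug : u ∈ qg Q := ⟨_, huQ, rfl⟩
    have h0 : prG c u = 0 := by
      by_contra h
      obtain ⟨v, hv⟩ := bform_nondeg h
      obtain ⟨q, hq, rfl⟩ := prG_surj c v
      exact zero_ne_one (((comm_iff_bform c hug hq).1 (hcomm q (hqT q hq))).symm.trans hv)
    rcases (prG_eq_zero c hug).1 h0 with e | e
    · exact absurd (conj_eq_one_iff.1 e) d.z_ne
    · exact Subgroup.mem_centralizer_singleton_iff.2 (mul_inv_eq_iff_eq_mul.1 e)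
  exact ⟨S, hST.trans hT'H, fun g hg => hS ⟨⟨g, hAH hg⟩, hP₀ hg, rfl⟩⟩

theorem abelian_inf {E : Subgroup G} (hE : Cfsg.IsElementaryAbelian 2 E) :
    Nat.card ↥(E ⊓ qg Q : Subgroup G) ≤ 2 ^ 7 := by
  set ι : Q →* G := (Subgroup.centralizer ({z} : Set G)).subtype.comp Q.subtype
  have hι : Function.Injective ι := Subtype.val_injective.comp Subtype.val_injective
  have h := CfsgLib.Trans3.ex_abelian_sq_le d.ext (E.comap ι) fun x hx y hy => hι (by
    rw [map_mul, map_mul]
    exact congrArg Subtype.val (hE.1.1.comm ⟨_, hx⟩ ⟨_, hy⟩))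
  rw [← Subgroup.card_map_of_injective (f := ι) hι,
    show (E.comap ι).map ι = E ⊓ qg Q from by
      rw [Subgroup.map_comap_eq, inf_comm, MonoidHom.range_comp, Subgroup.range_subtype]; rfl,
    d.card_Q] at h
  nlinarith [h]

/-- `A` is the only elementary abelian subgroup of order at least `2 ^ 11` in such a Sylow subgroup. -/
theorem unique {T₀ : Sylow 2 G} (hT : (T₀ : Subgroup G) ≤ Subgroup.centralizer ({z} : Set G))
    (hA : mxA c f ≤ (T₀ : Subgroup G)) {E : Subgroup G} (hET : E ≤ (T₀ : Subgroup G))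
    (hE : Cfsg.IsElementaryAbelian 2 E) (hcard : 2 ^ 11 ≤ Nat.card E) : E = mxA c f := by
  classical
  haveI := Fintype.ofFinite G
  have hcomm : ∀ x ∈ E, ∀ y ∈ E, x * y = y * x := fun x hx y hy =>
    congrArg Subtype.val (hE.1.1.comm ⟨x, hx⟩ ⟨y, hy⟩)
  set E' := E.comap (up c)
  set φ := c.act.comp E'.subtype
  set R := φ.range
  have hRK : R ≤ K 0 := by rintro _ ⟨m, rfl⟩; exact d.act_mem _
  have hRel : Cfsg.IsElementaryAbelian 2 R := by
    refine ⟨⟨⟨fun x y => ?_⟩⟩, fun x hx => ?_⟩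
    · obtain ⟨_, m, rfl⟩ := x; obtain ⟨_, k, rfl⟩ := y
      apply Subtype.ext
      show φ m * φ k = φ k * φ m
      rw [← map_mul, ← map_mul]
      exact congrArg φ (Subtype.ext (up_inj c (by
        show up c ((m : c.M) * k) = up c ((k : c.M) * m)
        rw [map_mul, map_mul]; exact hcomm _ m.2 _ k.2)))
    · obtain ⟨m, rfl⟩ := hx
      rw [← map_pow, show m ^ 2 = 1 from Subtype.ext (up_inj c (by
        rw [Subgroup.coe_pow, map_pow, Subgroup.coe_one, map_one]; exact hE.2 _ m.2)), map_one]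
  have hk : φ.ker.map ((up c).comp E'.subtype) = E ⊓ qg Q := by
    ext g
    constructor
    · rintro ⟨m, hm, rfl⟩
      exact Subgroup.mem_inf.2 ⟨m.2, mem_qg.2 ((c.ker_act _).1 hm)⟩
    · intro hg
      obtain ⟨hg1, hg2⟩ := Subgroup.mem_inf.1 hg
      obtain ⟨q, hq, rfl⟩ := hg2
      exact ⟨⟨⟨q, c.le_M hq⟩, hg1⟩, (c.ker_act _).2 hq, rfl⟩
  set B' := E ⊓ qg Q
  have hprod : Nat.card R * Nat.card B' = Nat.card E' := by
    have h := Subgroup.card_eq_card_quotient_mul_card_subgroup φ.ker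
    rw [Nat.card_congr (QuotientGroup.quotientKerEquivRange φ).toEquiv,
      ← Subgroup.card_map_of_injective (f := (up c).comp E'.subtype)
        ((up_inj c).comp E'.subtype_injective), hk] at h
    exact h.symm
  have hB7 : Nat.card B' ≤ 2 ^ 7 := d.abelian_inf hE
  -- the image of `B'` is fixed by the image of `E`
  set PE := prG c '' (B' : Set G)
  have hfix : PE ⊆ fixV (R : Set (GS F4)) := by
    rintro _ ⟨g, hg, rfl⟩ w ⟨m, rfl⟩
    obtain ⟨hgE, hgQ⟩ := Subgroup.mem_inf.1 hg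
    obtain ⟨-, h2⟩ := conj_prG c (m := (m : c.M)) hgQ
    show mat (c.act m) *ᵥ prG c g = prG c g
    rw [← h2]
    congr 1
    show up c (m : c.M) * g * (up c (m : c.M))⁻¹ = g
    rw [hcomm _ m.2 g hgE, mul_inv_cancel_right]
  have hPE : Nat.card B' ≤ 2 * PE.ncard := by
    rw [← SetLike.coe_sort_coe, Nat.card_coe_set_eq, Set.ncard_eq_toFinset_card' (B' : Set G),
      Finset.card_eq_sum_card_fiberwise (f := prG c) (t := PE.toFinite.toFinset)
        (fun g hg => by
          rw [Set.Finite.coe_toFinset]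
          exact ⟨g, Set.mem_toFinset.1 hg, rfl⟩),
      mul_comm, Set.ncard_eq_toFinset_card PE]
    refine Finset.sum_le_card_nsmul _ _ 2 fun u hu => ?_
    rw [Set.Finite.mem_toFinset] at hu
    obtain ⟨g, hg, rfl⟩ := hu
    refine (Finset.card_le_card (t := {g, g * z}) fun x hx => ?_).trans Finset.card_le_two
    simp only [Finset.mem_filter, Set.mem_toFinset] at hx
    simp only [Finset.mem_insert, Finset.mem_singleton]
    exact (prG_eq_iff c (Subgroup.mem_inf.1 hg).2 (Subgroup.mem_inf.1 hx.1).2).1 hx.2.symm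
  have hR16 : 16 ≤ Nat.card R → Nat.card R = 16 ∧ (fixV (R : Set (GS F4))).ncard ≤ 64 := fun h =>
    ⟨(ea_Kb isOmega_om card_F4 hRK hRel h).1, (ea_Kb isOmega_om card_F4 hRK hRel h).2.1⟩
  have hrange : E ≤ (up c).range := by
    by_contra hne
    obtain ⟨x, hxE, hxM⟩ := SetLike.not_le_iff_exists.1 hne
    set h : Subgroup.centralizer ({z} : Set G) := ⟨x, hT (hET hxE)⟩
    have hhM : h ∉ c.M := fun hh => hxM ⟨⟨h, hh⟩, rfl⟩
    have hidx : Nat.card E ≤ 2 * Nat.card E' := by
      set EH := E.subgroupOf (Subgroup.centralizer ({z} : Set G))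
      have hEH : Nat.card EH = Nat.card E :=
        Nat.card_congr (Subgroup.subgroupOfEquivOfLe (hET.trans hT)).toEquiv
      have h1 := (c.M.subgroupOf EH).card_mul_index
      have h2 : (c.M.subgroupOf EH).index ≤ 2 := by
        have h3 : c.M.relIndex EH ∣ c.M.index := by
          haveI : c.M.Normal := Subgroup.normal_of_index_eq_two c.index_M
          exact Subgroup.relIndex_dvd_index_of_normal c.M EH
        rw [c.index_M] at h3
        exact Nat.le_of_dvd (by norm_num) h3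
      have h3 : Nat.card (c.M.subgroupOf EH) = Nat.card E' :=
        Nat.card_congr
          { toFun := fun e => ⟨⟨(e : EH), e.2⟩, (e : EH).2⟩
            invFun := fun m => ⟨⟨(m : c.M), m.2⟩, (m : c.M).2⟩
            left_inv := fun _ => rfl
            right_inv := fun _ => rfl }
      rw [h3, hEH] at h1
      rw [← h1, mul_comm]
      exact Nat.mul_le_mul_right _ h2
    -- the image of `B'` has no two vectors on one line
    have hsq : PE.ncard * PE.ncard ≤ (fixV (R : Set (GS F4))).ncard := by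
      rw [← Set.ncard_prod]
      refine Set.ncard_le_ncard_of_injOn (fun p => p.1 + om • p.2) (fun p hp w hw => ?_) ?_ (Set.toFinite _)
      · show mat w *ᵥ (p.1 + om • p.2) = p.1 + om • p.2
        rw [Matrix.mulVec_add, Matrix.mulVec_smul, show mat w *ᵥ p.1 = p.1 from hfix hp.1 w hw,
          show mat w *ᵥ p.2 = p.2 from hfix hp.2 w hw]
      · rintro ⟨u₁, v₁⟩ ⟨⟨a₁, ha₁, hu₁⟩, b₁, hb₁, hv₁⟩ ⟨u₂, v₂⟩ ⟨⟨a₂, ha₂, hu₂⟩, b₂, hb₂, hv₂⟩ he
        simp only at hu₁ hv₁ hu₂ hv₂ he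
        have hq : ∀ g ∈ B', g ∈ qg Q := fun g hg => (Subgroup.mem_inf.1 hg).2
        have hlin : prG c (a₁ * a₂) = om • prG c (b₁ * b₂) := by
          rw [prG_mul c (hq _ ha₁) (hq _ ha₂), prG_mul c (hq _ hb₁) (hq _ hb₂), hu₁, hu₂, hv₁, hv₂,
            smul_add]
          apply pf_eq_of_add
          rw [show u₁ + u₂ + (om • v₁ + om • v₂) = (u₁ + om • v₁) + (u₂ + om • v₂) by abel, he, pf_self]
        obtain ⟨hrE, hrQ⟩ := Subgroup.mem_inf.1 (mul_mem ha₁ ha₂)
        obtain ⟨hsE, hsQ⟩ := Subgroup.mem_inf.1 (mul_mem hb₁ hb₂)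
        obtain ⟨r, hr, hre⟩ := hrQ
        obtain ⟨s, hs, hse⟩ := hsQ
        simp only [Subgroup.coe_subtype] at hre hse
        rw [← hre, ← hse, prG_coe, prG_coe] at hlin
        have h2 := d.semi h hhM s hs r hr om hlin
        rw [show h * r * h⁻¹ = r from Subtype.ext (by
            show x * (r : G) * x⁻¹ = r
            rw [hre, hcomm x hxE _ hrE, mul_inv_cancel_right]),
          show h * s * h⁻¹ = s from Subtype.ext (by
            show x * (s : G) * x⁻¹ = s
            rw [hse, hcomm x hxE _ hsE, mul_inv_cancel_right]), hlin] at h2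
        have hs0 : c.pr s = 0 := funext fun i => om_sq_fixed _ (congrFun h2 i)
        rw [hs0, smul_zero] at hlin
        have e1 : prG c (a₁ * a₂) = 0 := by rw [← hre, prG_coe, hlin]
        have e2 : prG c (b₁ * b₂) = 0 := by rw [← hse, prG_coe, hs0]
        rw [prG_mul c (hq _ ha₁) (hq _ ha₂), hu₁, hu₂] at e1
        rw [prG_mul c (hq _ hb₁) (hq _ hb₂), hv₁, hv₂] at e2
        exact Prod.ext (pf_eq_of_add _ _ e1) (pf_eq_of_add _ _ e2)
    have hV : (fixV (R : Set (GS F4))).ncard ≤ 4096 := by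
      refine (Set.ncard_le_ncard (Set.subset_univ _) (Set.toFinite _)).trans (le_of_eq ?_)
      rw [Set.ncard_univ, Nat.card_eq_fintype_card, Fintype.card_fun, card_F4, Fintype.card_fin]
      norm_num
    by_cases h16 : 16 ≤ Nat.card R
    · obtain ⟨hR, hfx⟩ := hR16 h16
      rw [hR] at hprod
      have hsm : PE.ncard ≤ 8 := by nlinarith
      omega
    · push Not at h16
      obtain ⟨i, hi, hBi⟩ := (Nat.dvd_prime_pow Nat.prime_two).1
        (show Nat.card B' ∣ 2 ^ 13 by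
          rw [← d.card_Q, ← card_qg]
          exact Subgroup.card_dvd_of_le inf_le_right)
      have hi7 : i = 7 := by
        have hlo : 64 < 2 ^ i := by rw [← hBi]; nlinarith
        have h1 : i ≤ 7 := (Nat.pow_le_pow_iff_right (le_refl 2)).1 (hBi ▸ hB7)
        have h2 : 6 < i := (Nat.pow_lt_pow_iff_right (le_refl 2)).1 (by simpa using hlo)
        omega
      rw [hi7] at hBi
      have h64 : 64 ≤ PE.ncard := by omega
      have hall : (fixV (R : Set (GS F4))).ncard = 4096 := le_antisymm hV (by nlinarith)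
      have hRbot : R = ⊥ := by
        rw [eq_bot_iff]
        intro w hw
        refine Subgroup.mem_bot.2 (CfsgLib.Trans3.FischerType.ext_app fun v => ?_)
        rw [CfsgLib.Trans3.FischerType.app_one]
        have huniv : fixV (R : Set (GS F4)) = Set.univ := by
          refine Set.eq_of_subset_of_ncard_le (Set.subset_univ _) ?_ (Set.toFinite _)
          rw [hall, Set.ncard_univ, Nat.card_eq_fintype_card, Fintype.card_fun, card_F4, Fintype.card_fin]
          norm_num
        exact (huniv.symm ▸ Set.mem_univ v : v ∈ fixV (R : Set (GS F4))) w hw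
      rw [hRbot, Subgroup.card_bot] at hprod
      omega
  have hE' : Nat.card E' = Nat.card E := by
    rw [← Subgroup.card_map_of_injective (up_inj c), Subgroup.map_comap_eq_self hrange]
  have h16 : 16 ≤ Nat.card R := by
    by_contra h
    push Not at h
    nlinarith
  obtain ⟨hR, hfx⟩ := hR16 h16
  rw [hR, hE'] at hprod
  have hB : Nat.card B' = 2 ^ 7 := by omega
  -- the image is `W`
  set S := (((T₀ : Subgroup G)).comap (up c)).map c.act
  have hS2 : IsPGroup 2 S := (T₀.isPGroup'.comap_of_injective _ (up_inj c)).map c.act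
  have hSK : S ≤ K 0 := by rintro _ ⟨m, -, rfl⟩; exact d.act_mem m
  have hRS : R ≤ S := by rintro _ ⟨m, rfl⟩; exact ⟨(m : c.M), hET m.2, rfl⟩
  have hWS : f.W ≤ S := fun w hw => by
    obtain ⟨g, hg, he⟩ := d.act_surj f hw
    obtain ⟨m, rfl⟩ := d.exists_up f hg
    exact ⟨m, hA hg, (actG_up c m).symm.trans he⟩
  have hWf : 4 < (fixV (f.W : Set (GS F4))).ncard := by
    refine lt_of_lt_of_le ?_ (Set.ncard_le_ncard (show (f.U : Set V6) ⊆ _ from
      fun u hu w hw => f.W_fix w hw u hu) (Set.toFinite _))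
    rw [← Nat.card_coe_set_eq, SetLike.coe_sort_coe, f.card_U]; norm_num
  have hRf : 4 < (fixV (R : Set (GS F4))).ncard :=
    lt_of_lt_of_le (by omega : 4 < PE.ncard) (Set.ncard_le_ncard hfix (Set.toFinite _))
  have hRW : R = f.W :=
    unique_wide isOmega_om card_F4 hSK hS2 hRS hWS hRel f.W_elem h16 f.card_W.ge hRf hWf
  have hsub : B' ≤ mxA c f ⊓ qg Q := by
    intro g hg
    have hu : prG c g ∈ f.U := f.mem_U_of_fix fun w hw => hfix ⟨g, hg, rfl⟩ w (hRW.symm ▸ hw)
    exact Subgroup.mem_inf.2 ⟨(d.mem_qg_iff f (Subgroup.mem_inf.1 hg).2).2 hu, (Subgroup.mem_inf.1 hg).2⟩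
  have hBeq : B' = mxA c f ⊓ qg Q :=
    Subgroup.eq_of_le_of_card_ge hsub (by rw [hB, d.card_B f])
  refine Subgroup.eq_of_le_of_card_ge (fun g hg => ?_) (by rw [d.card_A f]; exact hcard)
  obtain ⟨m, rfl⟩ := hrange hg
  refine (mem_mxA c f).2 ⟨⟨m, rfl, hRW ▸ ⟨⟨m, hg⟩, rfl⟩⟩, fun b hb hbu => ?_⟩
  have hbE : b ∈ E := (Subgroup.mem_inf.1 (hBeq.symm ▸
    Subgroup.mem_inf.2 ⟨(d.mem_qg_iff f hb).2 hbu, hb⟩ : b ∈ B')).1
  exact hcomm _ hg b hbE

/-- The subgroup `A`. -/
theorem exists_max : ∃ (T₀ : Sylow 2 G) (A : Subgroup G),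
    (T₀ : Subgroup G) ≤ Subgroup.centralizer ({z} : Set G) ∧ IsUniqueMaxElem (T₀ : Subgroup G) A ∧
    Nat.card A = 2 ^ 11 ∧ (∀ a ∈ A, ∃ m : c.M, ((m : Subgroup.centralizer ({z} : Set G)) : G) = a) ∧
    (∀ g ∈ qg Q, (g ∈ A ↔ prG c g ∈ f.U)) ∧ (∀ a ∈ A, actG c a ∈ f.W) ∧
    (∀ w ∈ f.W, ∃ a ∈ A, actG c a = w) := by
  obtain ⟨T₀, hT, hA⟩ := d.exists_sylow f
  exact ⟨T₀, mxA c f, hT, ⟨hA, d.elem f, fun E hET hE hc => d.unique f hT hA hET hE (d.card_A f ▸ hc)⟩,
    d.card_A f, fun a ha => d.exists_up f ha, fun g hg => d.mem_qg_iff f hg,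
    fun a ha => d.act_mem_W f ha, fun w hw => d.act_surj f hw⟩

end MaxHyp

end CfsgLib.Trans3.FischerType.PairCode
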