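import Cfsg.Agent.Lib.Trans3.FischerType.WModelBase

/-!
The module facts for the cover number `0`: a totally isotropic plane `U`, the group `W` of order 16 fixing it
pointwise and the stabiliser `N` of the plane.
-/

set_option autoImplicit false
set_option maxRecDepth 100000

namespace CfsgLib.Trans3.FischerType.PairCode

open Matrix CfsgLib.Chev.U43U6 CfsgLib.Trans3.FiLarge
open CfsgLib.Trans3.FischerType (mulM idM wordM wordM_length app app_mul app_one app_inv app_injective Real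
  mdec_mulM mdec_idM kWord kWord_mem kWord_real_of_ok mat_injective)

local notation "hω₀" => CfsgLib.Trans3.FiLarge.isOmega_om

theorem xor_split {c : ℕ} (hc : c < 4096) : Nat.xor (c % 64) (64 * (c / 64)) = c := by
  have h : ((List.range 4096).all fun c => Nat.beq (Nat.xor (c % 64) (64 * (c / 64))) c) = true := by
    decide +kernel
  exact Nat.eq_of_beq_eq_true (of_range h hc)

theorem ln_facts {i : ℕ} (hi : i < wMt.length) :
    (∀ c < 64, dif i c ∈ ln i ∧ dif i (64 * c) ∈ ln i) ∧ (∀ c ∈ ln i, ∀ d ∈ ln i, Nat.xor c d ∈ ln i) ∧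
      (∀ j < (ln i).length, wit i j < 4096 ∧ dif i (wit i j) = (ln i).getD j 0) ∧
      (∀ c ∈ ln i, c < 4096 ∧ c ∈ uL) ∧ (ln i).Nodup := by
  have h := of_range line_ok hi
  simp only [lineOK, Bool.and_eq_true, List.all_eq_true, List.mem_range, List.contains_iff_mem,
    decide_eq_true_iff, Nat.blt_eq] at h
  exact ⟨h.1.1.1.1, h.1.1.1.2, fun j hj => ⟨(h.1.1.2 j hj).1, Nat.eq_of_beq_eq_true (h.1.1.2 j hj).2⟩,
    h.1.2, h.2⟩

theorem dif_spec {w : GS F4} {i : ℕ} (hw : Real om w (wm i)) (c : ℕ) :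
    mat w *ᵥ vdec om c + vdec om c = vdec om (dif i c) := by
  rw [dif, vdec_xor hω₀, ← hw.app_dec hω₀]

theorem mem_line {w : GS F4} {i : ℕ} (hi : i < wMt.length) (hw : Real om w (wm i)) {d : V6} :
    d ∈ line w ↔ ∃ c ∈ ln i, d = vdec om c := by
  obtain ⟨hsmall, hclosed, hwit, -, -⟩ := ln_facts hi
  constructor
  · rintro ⟨v, rfl⟩
    have hc := codeV_lt v
    refine ⟨_, hclosed _ (hsmall (codeV v % 64) (Nat.mod_lt _ (by norm_num))).1
      _ (hsmall (codeV v / 64) (by omega)).2, ?_⟩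
    conv_lhs => rw [← vdec_codeV v, ← xor_split hc, vdec_xor hω₀, Matrix.mulVec_add]
    rw [vdec_xor hω₀, ← dif_spec hw, ← dif_spec hw]
    abel
  · rintro ⟨c, hc, rfl⟩
    obtain ⟨j, hj, rfl⟩ := List.getElem_of_mem hc
    refine ⟨vdec om (wit i j), ?_⟩
    rw [dif_spec hw, (hwit j hj).2, List.getD_eq_getElem?_getD, List.getElem?_eq_getElem hj, Option.getD_some]

theorem line_size {i : ℕ} (hi : i < wMt.length) : i = 0 ∧ ln i = [0] ∧ wm i = idM ∨
    i ≠ 0 ∧ (ln i).length = 16 ∧ ((ln i).filter fun c => Nat.beq (lab 0 c) 1).length = 6 := by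
  have h := of_range line_sizes hi
  simp only [Bool.or_eq_true, Bool.and_eq_true, beq_iff_eq, bne_iff_ne] at h
  exact h.imp (fun h => ⟨h.1.1, h.1.2, h.2⟩)
    fun h => ⟨h.1.1, Nat.eq_of_beq_eq_true h.1.2, Nat.eq_of_beq_eq_true h.2⟩

theorem index_ne_zero {w : GS F4} (hw1 : w ≠ 1) {i : ℕ} (hw : Real om w (wm i)) (hi : i < wMt.length) :
    i ≠ 0 := by
  rintro rfl
  rcases line_size hi with ⟨-, -, e⟩ | ⟨h, -⟩
  · rw [e] at hw
    exact hw1 (mat_injective (hw.trans (mdec_idM hω₀)))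
  · exact h rfl

theorem small_mem_line {w : GS F4} {i : ℕ} (hi : i < wMt.length) (hw : Real om w (wm i)) {d : V6}
    (hd : d ∈ line w) (hs : InSmall 0 d) : i ≠ 0 := by
  rintro rfl
  obtain ⟨c, hc, rfl⟩ := (mem_line hi hw).1 hd
  rcases line_size hi with ⟨-, e, -⟩ | ⟨h, -⟩
  · rw [e, List.mem_singleton] at hc
    subst hc
    exact (isotropic_of_orbit (Or.inl hs)).1 vdec_zero
  · exact h rfl

theorem herm6_add_right (u v v' : V6) : herm6 u (v + v') = herm6 u v + herm6 u v' := by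
  have h : ∀ a b : F4, (a + b) ^ 2 = a ^ 2 + b ^ 2 := fun a b => by
    linear_combination (a * b) * (hω₀).2
  simp only [herm6, Cfsg.hermForm, Pi.add_apply, h, mul_add, Finset.sum_add_distrib]

theorem herm6_add_left (u u' v : V6) : herm6 (u + u') v = herm6 u v + herm6 u' v := by
  simp only [herm6, Cfsg.hermForm, Pi.add_apply, add_mul, Finset.sum_add_distrib]

theorem parity {w : GS F4} (hw : w ∈ Wgrp) {v v' : V6} (h1 : InSmall 0 (mat w *ᵥ v + v))
    (h2 : InSmall 0 (mat w *ᵥ v' + v')) (h3 : InSmall 0 (mat w *ᵥ v + v + (mat w *ᵥ v' + v'))) :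
    bform (mat w *ᵥ v + v) v' = 1 := by
  obtain ⟨i, hi, hw⟩ := mem_Wgrp.1 hw
  obtain ⟨-, -, hwit, hlt, -⟩ := ln_facts hi
  obtain ⟨x, hx, ex⟩ := (mem_line hi hw).1 ⟨v, rfl⟩
  obtain ⟨y, hy, ey⟩ := (mem_line hi hw).1 ⟨v', rfl⟩
  obtain ⟨j, hj, rfl⟩ := List.getElem_of_mem hy
  have ej : (ln i).getD j 0 = (ln i)[j] := by
    rw [List.getD_eq_getElem?_getD, List.getElem?_eq_getElem hj, Option.getD_some]
  rw [ex, ey, ← vdec_xor hω₀] at h3
  rw [ex] at h1 ⊢
  rw [ey] at h2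
  have hp := of_range parity_ok hi
  simp only [parityOK, List.all_eq_true, List.mem_range, Bool.or_eq_true, Bool.not_eq_eq_eq_not,
    Bool.not_true] at hp
  have hxy : Nat.xor x (ln i)[j] < 4096 :=
    Nat.xor_lt_two_pow (n := 12) (hlt x hx).1 (hlt _ hy).1
  have hc := hp x hx j hj
  rw [ej, (inSmall_vdec (hlt x hx).1).1 h1, (inSmall_vdec (hlt _ hy).1).1 h2, (inSmall_vdec hxy).1 h3] at hc
  simp only [Nat.beq_refl, Bool.false_eq_true, Bool.true_eq_false, false_or] at hc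
  have hb : bform (vdec om x) (vdec om (wit i j)) = 1 := by
    rw [bform_vdec, Nat.eq_of_beq_eq_true hc, dec_one]
  have hk : mat w *ᵥ (v' + vdec om (wit i j)) = v' + vdec om (wit i j) := by
    have h0 : (mat w *ᵥ v' + v') + (mat w *ᵥ vdec om (wit i j) + vdec om (wit i j)) = 0 := by
      rw [ey, dif_spec hw, (hwit j hj).2, ej, add_self_V6]
    rw [Matrix.mulVec_add, eq_comm, ← sub_eq_zero, sub_eq_add_neg, neg_V6, ← h0]
    abel
  have hz : herm6 (mat w *ᵥ v + v) (v' + vdec om (wit i j)) = 0 := by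
    rw [herm6_add_left]
    conv_lhs => arg 1; rw [← hk]
    rw [show herm6 (mat w *ᵥ v) (mat w *ᵥ (v' + vdec om (wit i j))) = herm6 v (v' + vdec om (wit i j)) from
      herm_mat w _ _, add_self_F4]
  have he : herm6 (vdec om x) v' = herm6 (vdec om x) (vdec om (wit i j)) := by
    rw [← ex, ← sub_eq_zero, sub_eq_add_neg, neg_eq_of_add_eq_zero_left (add_self_F4 _), ← herm6_add_right]
    exact hz
  rw [bform, he]
  exact hb

theorem order_dvd : 135 ∣ Nat.card Ngrp := by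
  have h27 := Subgroup.card_dvd_of_le (tabGrp_le p_tab)
  have h5 := Subgroup.card_dvd_of_le (tabGrp_le q_tab)
  rw [card_tabGrp p_tab] at h27
  rw [card_tabGrp q_tab] at h5
  exact (show Nat.Coprime 27 5 by norm_num).mul_dvd_of_dvd_of_dvd h27 h5

theorem trans_small : ∀ t ∈ Ugrp, InSmall 0 t → ∀ u ∈ Ugrp, InSmall 0 u →
    ∃ g ∈ Ngrp, mat g *ᵥ t = u := by
  have key : ∀ u ∈ Ugrp, InSmall 0 u → ∃ g ∈ Ngrp, app g (vdec om (sL.getD 0 0)) = u := by
    intro u hu hs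
    have hm : u ∈ {u : V6 | u ∈ Ugrp ∧ InSmall 0 u} := ⟨hu, hs⟩
    rw [small_set] at hm
    obtain ⟨c, hc, rfl⟩ := hm
    obtain ⟨i, hi, rfl⟩ := List.getElem_of_mem hc
    have h := trans_ok
    simp only [transOK, Bool.and_eq_true] at h
    have h1 := of_range h.1 hi
    rw [Bool.and_eq_true] at h1
    refine ⟨gEl (trS.getD i []), gEl_mem _, ?_⟩
    rw [(gEl_real h1.1).app_dec hω₀, Nat.eq_of_beq_eq_true h1.2, List.getD_eq_getElem?_getD,
      List.getElem?_eq_getElem hi, Option.getD_some]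
  intro t ht hts u hu hus
  obtain ⟨g, hg, rfl⟩ := key t ht hts
  obtain ⟨g', hg', rfl⟩ := key u hu hus
  exact ⟨g' * g⁻¹, mul_mem hg' (inv_mem hg), by rw [← app, app_mul, app_inv]⟩

theorem trans_W : ∀ w ∈ Wgrp, w ≠ 1 → ∀ w' ∈ Wgrp, w' ≠ 1 → ∃ g ∈ Ngrp, g * w * g⁻¹ = w' := by
  obtain ⟨w₁, -, h₁⟩ := exists_wEl (show 1 < wMt.length from by decide)
  have key : ∀ w ∈ Wgrp, w ≠ 1 → ∃ g ∈ Ngrp, g * w₁ * g⁻¹ = w := by
    intro w hw hw1
    obtain ⟨i, hi, hw⟩ := mem_Wgrp.1 hw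
    have h := trans_ok
    simp only [transOK, Bool.and_eq_true] at h
    have h2 := of_range h.2 hi
    simp only [Bool.or_eq_true, Bool.and_eq_true, beq_iff_eq] at h2
    rcases h2 with h2 | ⟨hk, e⟩
    · exact absurd (Nat.eq_of_beq_eq_true h2) (index_ne_zero hw1 hw hi)
    · exact ⟨_, gEl_mem _, conj_real (gEl_real hk) (wordM_length _ _) (wm_length (by decide)) h₁ hw e⟩
  intro w hw h1 w' hw' h1'
  obtain ⟨g, hg, rfl⟩ := key w hw h1
  obtain ⟨g', hg', rfl⟩ := key w' hw' h1'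
  exact ⟨g' * g⁻¹, mul_mem hg' (inv_mem hg), by group⟩

theorem nbr : ∀ t ∈ Ugrp, InSmall 0 t →
    {u : V6 | u ∈ Ugrp ∧ InSmall 0 u ∧ InSmall 0 (t + u)}.ncard = 2 := by
  intro t ht hts
  have hm : t ∈ {u : V6 | u ∈ Ugrp ∧ InSmall 0 u} := ⟨ht, hts⟩
  rw [small_set] at hm
  obtain ⟨a, ha, rfl⟩ := hm
  have e : {u : V6 | u ∈ Ugrp ∧ InSmall 0 u ∧ InSmall 0 (vdec om a + u)} =
      {u | ∃ c ∈ sL.filter (fun c => Nat.beq (lab 0 (Nat.xor a c)) 1), u = vdec om c} := by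
    ext u
    constructor
    · rintro ⟨hu, hs, ht⟩
      have hm : u ∈ {u : V6 | u ∈ Ugrp ∧ InSmall 0 u} := ⟨hu, hs⟩
      rw [small_set] at hm
      obtain ⟨c, hc, rfl⟩ := hm
      rw [← vdec_xor hω₀] at ht
      have hx : Nat.xor a c < 4096 := Nat.xor_lt_two_pow (n := 12) (s_facts.2.2.1 a ha) (s_facts.2.2.1 c hc)
      exact ⟨c, List.mem_filter.2 ⟨hc, by rw [(inSmall_vdec hx).1 ht, Nat.beq_refl]⟩, rfl⟩
    · rintro ⟨c, hc, rfl⟩
      obtain ⟨hc, hb⟩ := List.mem_filter.1 hc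
      have hm : vdec om c ∈ {u : V6 | u ∈ Ugrp ∧ InSmall 0 u} := by rw [small_set]; exact ⟨c, hc, rfl⟩
      have hx : Nat.xor a c < 4096 := Nat.xor_lt_two_pow (n := 12) (s_facts.2.2.1 a ha) (s_facts.2.2.1 c hc)
      exact ⟨hm.1, hm.2, by rw [← vdec_xor hω₀]; exact (inSmall_vdec hx).2 (Nat.eq_of_beq_eq_true hb)⟩
  rw [e, ncard_codes (s_facts.2.1.filter _) fun c hc => s_facts.2.2.1 c (List.mem_filter.1 hc).1]
  have h := nbr_ok
  simp only [List.all_eq_true] at h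
  exact Nat.eq_of_beq_eq_true (h a ha)

theorem line_small {w : GS F4} (hw : w ∈ Wgrp) (hw1 : w ≠ 1) :
    {u : V6 | u ∈ line w ∧ InSmall 0 u}.ncard = 6 := by
  obtain ⟨i, hi, hw⟩ := mem_Wgrp.1 hw
  have e : {u : V6 | u ∈ line w ∧ InSmall 0 u} =
      {u | ∃ c ∈ (ln i).filter (fun c => Nat.beq (lab 0 c) 1), u = vdec om c} := by
    ext u
    constructor
    · rintro ⟨hu, hs⟩
      obtain ⟨c, hc, rfl⟩ := (mem_line hi hw).1 hu
      exact ⟨c, List.mem_filter.2 ⟨hc, by rw [(inSmall_vdec ((ln_facts hi).2.2.2.1 c hc).1).1 hs, Nat.beq_refl]⟩, rfl⟩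
    · rintro ⟨c, hc, rfl⟩
      obtain ⟨hc, hb⟩ := List.mem_filter.1 hc
      exact ⟨(mem_line hi hw).2 ⟨c, hc, rfl⟩,
        (inSmall_vdec ((ln_facts hi).2.2.2.1 c hc).1).2 (Nat.eq_of_beq_eq_true hb)⟩
  rw [e, ncard_codes ((ln_facts hi).2.2.2.2.filter _)
    fun c hc => ((ln_facts hi).2.2.2.1 c (List.mem_filter.1 hc).1).1]
  exact ((line_size hi).resolve_left fun h => index_ne_zero hw1 hw hi h.1).2.2

theorem line_point : ∀ w ∈ Wgrp, ∀ t ∈ line w, InSmall 0 t → ∀ u ∈ Ugrp, InSmall 0 u →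
    InSmall 0 (t + u) → u ∈ line w := by
  intro w hw t ht hts u hu hus htu
  obtain ⟨i, hi, hw⟩ := mem_Wgrp.1 hw
  have hi0 := small_mem_line hi hw ht hts
  obtain ⟨a, ha, rfl⟩ := (mem_line hi hw).1 ht
  obtain ⟨c, hc, rfl⟩ := hu
  have ha' := (ln_facts hi).2.2.2.1 a ha
  have hat : a ∈ sL := s_facts.2.2.2.2.2 a ha'.2 ((inSmall_vdec ha'.1).1 hts)
  have hct : c ∈ sL := s_facts.2.2.2.2.2 c hc ((inSmall_vdec (u_facts.2.2.1 c hc)).1 hus)
  rw [← vdec_xor hω₀] at htu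
  have hx : Nat.xor a c < 4096 := Nat.xor_lt_two_pow (n := 12) ha'.1 (u_facts.2.2.1 c hc)
  have h := of_range point_ok hi
  simp only [pointOK, Bool.or_eq_true, List.all_eq_true] at h
  rcases h with h | h
  · exact absurd (Nat.eq_of_beq_eq_true h) hi0
  have h1 := h a hat c hct
  simp only [List.contains_iff_mem.2 ha, (inSmall_vdec hx).1 htu, Nat.beq_refl, Bool.not_true,
    Bool.false_eq_true, false_or] at h1
  exact (mem_line hi hw).2 ⟨c, List.contains_iff_mem.1 h1, rfl⟩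

theorem stab_trans : ∀ t ∈ Ugrp, InSmall 0 t → ∀ u ∈ Ugrp, InSmall 0 u → InSmall 0 (t + u) →
    ∀ w ∈ Wgrp, t ∈ line w → ∀ w' ∈ Wgrp, t ∈ line w' →
      ∃ g ∈ Ngrp, mat g *ᵥ t = t ∧ mat g *ᵥ u = u ∧ g * w * g⁻¹ = w' := by
  intro t ht hts u hu hus htu
  obtain ⟨a, ha, rfl⟩ := ht
  obtain ⟨c, hc, rfl⟩ := hu
  have ha' := u_facts.2.2.1 a ha
  have hc' := u_facts.2.2.1 c hc
  have has := s_facts.2.2.2.2.2 a ha ((inSmall_vdec ha').1 hts)
  have hcs := s_facts.2.2.2.2.2 c hc ((inSmall_vdec hc').1 hus)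
  rw [← vdec_xor hω₀] at htu
  have hx : Nat.xor a c < 4096 := Nat.xor_lt_two_pow (n := 12) ha' hc'
  have h := st_ok
  simp only [stOK, List.all_eq_true, Bool.or_eq_true, List.any_eq_true, Bool.and_eq_true] at h
  have h1 := h a has c hcs
  simp only [(inSmall_vdec hx).1 htu, Nat.beq_refl, Bool.not_true, Bool.false_eq_true, false_or] at h1
  obtain ⟨e, he, ⟨-, -⟩, hall⟩ := h1
  have hk₀' : (e.2.2.getD 0 (0, [])).1 < wMt.length := by
    have := st_first
    simp only [List.all_eq_true, Nat.blt_eq] at this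
    exact this e he
  generalize (e.2.2.getD 0 (0, [])).1 = k₀ at hall hk₀'
  have key : ∀ w ∈ Wgrp, vdec om a ∈ line w → ∃ g ∈ Ngrp, app g (vdec om a) = vdec om a ∧
      app g (vdec om c) = vdec om c ∧ ∀ w₀ : GS F4, k₀ < wMt.length → Real om w₀ (wm k₀) → g * w₀ * g⁻¹ = w := by
    intro w hw hl
    obtain ⟨i, hi, hw⟩ := mem_Wgrp.1 hw
    have hi0 := small_mem_line hi hw hl hts
    obtain ⟨a', hm, e'⟩ := (mem_line hi hw).1 hl
    obtain rfl := vdec_inj hω₀ ha' ((ln_facts hi).2.2.2.1 a' hm).1 e'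
    rcases hall i (List.mem_range.2 hi) with (h0 | hn) | ⟨p, -, hp⟩
    · exact absurd (Nat.eq_of_beq_eq_true h0) hi0
    · rw [List.contains_iff_mem.2 hm] at hn; exact absurd hn (by decide)
    obtain ⟨hk, hst⟩ := hp
    simp only [stEntryOK, Bool.and_eq_true, beq_iff_eq] at hst
    obtain ⟨⟨⟨hwd, hta⟩, htc⟩, hcj⟩ := hst
    refine ⟨_, gEl_mem p.2, ?_, ?_, fun w₀ hk₀ hw₀ => ?_⟩
    · rw [(gEl_real hwd).app_dec hω₀, Nat.eq_of_beq_eq_true hta]
    · rw [(gEl_real hwd).app_dec hω₀, Nat.eq_of_beq_eq_true htc]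
    · exact conj_real (gEl_real hwd) (wordM_length _ _) (wm_length hk₀) hw₀ hw hcj
  intro w hw hl w' hw' hl'
  · obtain ⟨w₀, -, hw₀⟩ := exists_wEl hk₀'
    obtain ⟨g, hg, g1, g2, g3⟩ := key w hw hl
    obtain ⟨g', hg', g1', g2', g3'⟩ := key w' hw' hl'
    refine ⟨g' * g⁻¹, mul_mem hg' (inv_mem hg), ?_, ?_, ?_⟩
    · conv_lhs => rw [← g1]
      rw [← app, app_mul, app_inv, g1']
    · conv_lhs => rw [← g2]
      rw [← app, app_mul, app_inv, g2']
    · rw [← g3 w₀ hk₀' hw₀, ← g3' w₀ hk₀' hw₀]; group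

/-- The module facts for the cover number `0`. -/
noncomputable def w0 : WFacts 0 :=
  { U := Ugrp
    W := Wgrp
    N := Ngrp
    N_le := (Subgroup.closure_le _).2 (Set.range_subset_iff.2 nEl_mem)
    W_le := tabGrp_le w_tab
    card_U := card_Ugrp
    card_W := card_Wgrp
    N_norm := fun _ hg => N_norm hg
    N_U := fun _ hg => N_U hg
    U_bform := U_bform
    W_fix := W_fix
    line_sub := fun w hw d hd => by
      obtain ⟨i, hi, hw⟩ := mem_Wgrp.1 hw
      obtain ⟨c, hc, rfl⟩ := (mem_line hi hw).1 hd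
      exact ⟨c, ((ln_facts hi).2.2.2.1 c hc).2, rfl⟩
    line_card := fun w hw hw1 => by
      obtain ⟨i, hi, hw⟩ := mem_Wgrp.1 hw
      rw [show line w = {u | ∃ c ∈ ln i, u = vdec om c} from Set.ext fun d => mem_line hi hw,
        ncard_codes (ln_facts hi).2.2.2.2 fun c hc => ((ln_facts hi).2.2.2.1 c hc).1]
      exact ((line_size hi).resolve_left fun h => index_ne_zero hw1 hw hi h.1).2.1
    card_small := by rw [small_set, ncard_codes s_facts.2.1 s_facts.2.2.1, s_facts.1]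
    card_big := by rw [big_set, ncard_codes g_facts.2.1 g_facts.2.2.1, g_facts.1]
    span_small := span_eq s_sum small_set s_facts.2.2.2.1
    span_big := span_eq g_sum big_set g_facts.2.2.2.1
    trans_small := trans_small
    trans_W := trans_W
    order_dvd := order_dvd
    nbr := nbr
    line_small := fun _ hw hw1 => line_small hw hw1
    line_point := line_point
    parity := fun _ hw _ _ h1 h2 h3 => parity hw h1 h2 h3
    stab_trans := stab_trans }

theorem wfacts : Nonempty (WFacts 0) := ⟨w0⟩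

end CfsgLib.Trans3.FischerType.PairCode
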