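import Cfsg.Agent.Lib.Trans3.FischerType.PairWiring
import Cfsg.Agent.Lib.Trans3.FischerType.MaxAbelian
import Cfsg.Agent.Lib.Trans3.FischerType.WModel
import Cfsg.Agent.Lib.Trans3.FischerType.Reduce
import Cfsg.Agent.Lib.Trans3.FiLarge.Model

/-!
In a group of large Fischer type the Thompson subgroup of a Sylow 2-subgroup is elementary abelian of order
`2 ^ 11` with normaliser acting as `M₂₄` on it.
-/

set_option autoImplicit false
set_option linter.unusedSectionVars false

namespace CfsgLib.Trans3.FischerType.PairCode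

open Matrix CfsgLib.Chev.U43U6 CfsgLib.Trans3.FiLarge

variable {G : Type*} [Group G] [Finite G] {z : G} {Q : Subgroup (Subgroup.centralizer ({z} : Set G))} [Q.Normal]

theorem outerSemi_of_coord (hF : Cfsg.IsOfLargeFischerTypeAt z Q) (c : Coord z Q) (hb : c.b = 0) :
    OuterSemi c := by
  obtain ⟨s, hs, hse⟩ := c.pr_surj (vdec om bigRep)
  have hsb : InBig c.b (c.pr s) := ⟨1, one_mem _, by rw [hse]; exact Matrix.one_mulVec _⟩
  have hc : IsConj z (s : G) := (big_iff_conj hF c hs (ne_z_of_orbit c hs (Or.inr hsb))).1 hsb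
  intro h hh q hq r hr a e
  exact outer_semi hF c hb hs hsb hc hh hq hr e

theorem maxHyp_of_coord (hF : Cfsg.IsOfLargeFischerTypeAt z Q) (c : Coord z Q) (hb : c.b = 0) : MaxHyp c :=
  have hq := hyp_basic hF
  ⟨hb, hq.1, z_mem_qg c hq.2, hq.2, hF.1.2.2.1, outerSemi_of_coord hF c hb⟩

/-- The conclusions for the Thompson subgroup of every Sylow 2-subgroup. -/
theorem largeFischer_concl (hF : Cfsg.IsOfLargeFischerTypeAt z Q) (T : Sylow 2 G) :
    Concl z (Cfsg.thompsonSubgroupOf 2 (T : Subgroup G)) := by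
  obtain ⟨c₀⟩ := exists_coord hF
  obtain ⟨f⟩ := wfacts
  obtain ⟨T₀, A, h1, h2, h3, h4, h5, h6, h7⟩ :=
    (maxHyp_of_coord hF (toZero c₀) rfl).exists_max f
  exact concl_of_coord hF (toZero c₀) rfl f ⟨fun v => f.perp, fun g => f.fixer, fun u hu => f.smul_mem hu⟩
    A T₀ h1 h2 h3 h4 h5 h6 h7 T

end CfsgLib.Trans3.FischerType.PairCode
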