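import Cfsg.Agent.Lib.Trans3.FiLarge.SmallStab.Main
import Cfsg.Agent.Lib.Trans3.FischerType.PairCore

/-!
Elements outside the subgroup of index two act semilinearly.
-/

set_option autoImplicit false
set_option linter.unusedSectionVars false

namespace CfsgLib.Trans3.FischerType

open Subgroup Matrix CfsgLib.PLocal.LargeExtra CfsgLib.Chev.U43U6 CfsgLib.Trans3.FiLarge
open CfsgLib.Trans3.FiLarge.SmallStab (P P_act P_eq_one semi_P pr_sec sec sec_mem Semi Pf_spec matPerm)

variable {G : Type*} [Group G] [Finite G] {z : G} {Q : Subgroup (Subgroup.centralizer ({z} : Set G))}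
  [Q.Normal] {c : Coord z Q} {s : Subgroup.centralizer ({z} : Set G)} {g : G} (d : At c s g)
include d

theorem At.P_pr (h : Subgroup.centralizer ({z} : Set G)) {q : Subgroup.centralizer ({z} : Set G)}
    (hq : q ∈ Q) : P c h (c.pr q) = c.pr (h * q * h⁻¹) := Pf_spec c h hq

/-- The element of the conjugate of `Q` outside the subgroup of index two is not linear. -/
theorem At.not_linear {x : Subgroup.centralizer ({z} : Set G)} (hx : x ∈ conjIn Q g) (hxM : x ∉ c.M) :
    ¬ Semi 1 (P c x) := by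
  rintro ⟨-, hadd, hsmul, hherm⟩
  let f : V6 →ₗ[F4] V6 :=
    { toFun := fun v => P c x v
      map_add' := hadd
      map_smul' := fun a v => by simpa using hsmul a v }
  have hmove : ∀ q ∈ Q ⊓ conjIn Q g, P c x (c.pr q) = c.pr q ∨ P c x (c.pr q) = c.pr q + sVec om := by
    intro q hq
    rw [d.P_pr x hq.1]
    exact d.sd_moves hx hq
  obtain ⟨-, -, -, hb⟩ := mem_of_card isOmega_om card_F4 d.Dset_subset (by rw [d.cards.2.1])
  obtain ⟨n, hn, hfn⟩ := linear_eq isOmega_om card_F4 f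
    (fun u v => (hherm u v).trans (pow_one _))
    (by
      show P c x (sVec om) = sVec om
      rw [← d.pr_s, d.P_pr x d.mem, d.conjIn_fix hx])
    (fun j => by
      obtain ⟨q, hq, e⟩ := hb j
      rw [← e]
      exact hmove q hq)
    fun k hk => by
      obtain ⟨m, rfl⟩ : k ∈ c.act.range := by rw [c.range_act, d.b0]; exact hk
      haveI := Subgroup.normal_of_index_eq_two c.index_M
      have hm : x * m * x⁻¹ ∈ c.M := ‹c.M.Normal›.conj_mem m m.2 x
      refine ⟨c.act ⟨_, hm⟩, by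
        have : c.act ⟨_, hm⟩ ∈ c.act.range := ⟨_, rfl⟩
        rwa [c.range_act, d.b0] at this, fun v => ?_⟩
      show P c x (matPerm (c.act m) v) = matPerm (c.act ⟨_, hm⟩) (P c x v)
      rw [← P_act, ← P_act, ← Equiv.Perm.mul_apply, ← Equiv.Perm.mul_apply, ← map_mul, ← map_mul]
      congr 2
      show x * m = x * m * x⁻¹ * x
      group
  rw [← d.img_eq] at hn
  obtain ⟨e, -, rfl⟩ := d.mem_img.1 hn
  refine hxM ?_
  have he : P c ((e : Subgroup.centralizer ({z} : Set G))⁻¹ * x) = 1 := by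
    rw [map_mul, map_inv, inv_mul_eq_one]
    exact Equiv.ext fun v => by rw [P_act c e]; exact (hfn v).symm
  have hQ := c.faithful _ fun q hq => by
    rw [← d.P_pr _ hq, he]; rfl
  have := mul_mem e.2 (c.le_M hQ)
  rwa [mul_inv_cancel_left] at this

/-- Outer elements are semilinear with exponent two. -/
theorem At.outer_semi {h : Subgroup.centralizer ({z} : Set G)} (hh : h ∉ c.M) : Semi 2 (P c h) := by
  obtain ⟨x, hx, hxM⟩ := d.exists_outside
  obtain ⟨e, hs⟩ := semi_P c x
  obtain rfl : e = 2 := hs.1.resolve_left fun e1 => d.not_linear hx hxM (e1 ▸ hs)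
  have hm : h * x⁻¹ ∈ c.M :=
    (Subgroup.mul_mem_iff_of_index_two c.index_M).2 ⟨fun h' => absurd h' hh,
      fun h' => absurd (inv_inv x ▸ inv_mem h') hxM⟩
  have e : P c h = matPerm (c.act ⟨_, hm⟩) * P c x := by
    rw [← P_act, ← map_mul, inv_mul_cancel_right]
  obtain ⟨-, ha, hsm, hh'⟩ := hs
  rw [e]
  refine ⟨Or.inr rfl, fun u v => ?_, fun a v => ?_, fun u v => ?_⟩
  · show mat _ *ᵥ _ = mat _ *ᵥ _ + mat _ *ᵥ _
    rw [ha, Matrix.mulVec_add]
  · show mat _ *ᵥ _ = _ • (mat _ *ᵥ _)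
    rw [hsm, Matrix.mulVec_smul]
  · show herm6 (mat _ *ᵥ _) (mat _ *ᵥ _) = _
    rw [← hh']
    exact herm_mat _ _ _

/-- Outer elements are semilinear with exponent two, on `Q`. -/
theorem At.outer_semi_pr {h : Subgroup.centralizer ({z} : Set G)} (hh : h ∉ c.M)
    {q r : Subgroup.centralizer ({z} : Set G)} (hq : q ∈ Q) (hr : r ∈ Q) {a : F4}
    (e : c.pr r = a • c.pr q) : c.pr (h * r * h⁻¹) = a ^ 2 • c.pr (h * q * h⁻¹) := by
  rw [← d.P_pr h hr, ← d.P_pr h hq, e]
  exact (d.outer_semi hh).2.2.1 a _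

end CfsgLib.Trans3.FischerType
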