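import Cfsg.Agent.Lib.Trans3.FischerType.PairCore

/-!
The image in `C(z) / Q` of the conjugate of `Q` and its normaliser.
-/

set_option autoImplicit false
set_option linter.unusedSectionVars false

namespace CfsgLib.Trans3.FischerType

open Subgroup Matrix CfsgLib.PLocal.LargeExtra CfsgLib.Chev.U43U6 CfsgLib.Trans3.FiLarge

variable {G : Type*} [Group G] [Finite G] {z : G} {Q : Subgroup (Subgroup.centralizer ({z} : Set G))}
  [Q.Normal] {c : Coord z Q} {s : Subgroup.centralizer ({z} : Set G)} {g : G} (d : At c s g)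
include d

/-- The structure at a conjugate of `z` in `Q`. -/
theorem At.local_structure :
    Cfsg.IsElementaryAbelian 2 (qAmb Q ⊓ (qAmb Q).map (MulAut.conj g).toMonoidHom) ∧
    Nat.card ↥(qAmb Q ⊓ (qAmb Q).map (MulAut.conj g).toMonoidHom) = 2 ^ 7 ∧
    ∀ X E : Subgroup (Subgroup.centralizer ({z} : Set G) ⧸ Q),
      X = ((Subgroup.centralizer ({z} : Set G) ⊓ Subgroup.centralizer ({(s : G)} : Set G)).subgroupOf
        (Subgroup.centralizer ({z} : Set G))).map (QuotientGroup.mk' Q) →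
      E = (((qAmb Q).map (MulAut.conj g).toMonoidHom ⊓ Subgroup.centralizer ({z} : Set G)).subgroupOf
        (Subgroup.centralizer ({z} : Set G))).map (QuotientGroup.mk' Q) →
      E ≤ X ∧ (∀ x ∈ X, ∀ y ∈ E, x * y * x⁻¹ ∈ E) ∧ Cfsg.IsElementaryAbelian 2 E ∧ Nat.card E = 32 ∧
        ∃ _ : (E.subgroupOf X).Normal, Nonempty (↥X ⧸ E.subgroupOf X ≃* alternatingGroup (Fin 6)) := by
  refine ⟨d.pair.elementary, ?_, ?_⟩
  · rw [← d.inter_map, card_map_of_injective (subtype_injective _), d.cards.1]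
  intro X E hX hE
  rw [inf_subgroupOf_left] at hX
  rw [inf_subgroupOf_right] at hE
  have hmemX : ∀ h : Subgroup.centralizer ({z} : Set G),
      (h * s * h⁻¹ = s) ↔ h ∈ (centralizer ({(s : G)} : Set G)).subgroupOf (centralizer ({z} : Set G)) :=
    fun h => by
    rw [mem_subgroupOf, mem_centralizer_singleton_iff, ← mul_inv_eq_iff_eq_mul, Subtype.ext_iff]
    push_cast; rfl
  have hle : E ≤ X := by
    rw [hX, hE]
    exact Subgroup.map_mono fun e he => (hmemX e).1 (d.conjIn_fix he)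
  have hnorm : ∀ x ∈ X, ∀ y ∈ E, x * y * x⁻¹ ∈ E := by
    rw [hX, hE]
    rintro _ ⟨h, hh, rfl⟩ _ ⟨e, he, rfl⟩
    exact ⟨h * e * h⁻¹, d.normal_conjIn ((hmemX h).2 hh) he, by simp⟩
  have hel : Cfsg.IsElementaryAbelian 2 E := by
    rw [hE]
    have hker : ∀ a : Subgroup.centralizer ({z} : Set G), (a : G) = 1 ∨ (a : G) = s →
        QuotientGroup.mk' Q a = 1 := by
      intro a ha
      rw [QuotientGroup.mk'_apply, QuotientGroup.eq_one_iff]
      rcases ha with e | e
      · rw [show a = 1 from Subtype.ext e]; exact one_mem _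
      · rw [show a = s from Subtype.ext e]; exact d.mem
    refine ⟨⟨⟨?_⟩⟩, ?_⟩
    · rintro ⟨_, a, ha, rfl⟩ ⟨_, b, hb, rfl⟩
      refine Subtype.ext ?_
      show QuotientGroup.mk' Q a * QuotientGroup.mk' Q b = QuotientGroup.mk' Q b * QuotientGroup.mk' Q a
      rw [← mul_inv_eq_iff_eq_mul, ← mul_inv_eq_one, ← map_inv, ← map_inv, ← map_mul, ← map_mul, ← map_mul]
      exact hker _ (by push_cast; exact d.pair.right.comm_cases ha hb)
    · rintro _ ⟨a, ha, rfl⟩
      rw [pow_two, ← map_mul]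
      exact hker _ (by push_cast; exact d.pair.right.sq_cases ha)
  have hcardE : Nat.card E = 32 := by
    let π := (QuotientGroup.mk' Q).comp (conjIn Q g).subtype
    have h1 : E = π.range := by rw [MonoidHom.range_comp, range_subtype, hE]
    have h2 : Nat.card π.ker = Nat.card ↥(Q ⊓ conjIn Q g) := Nat.card_congr
      { toFun := fun k => ⟨k.1.1, (QuotientGroup.eq_one_iff _).1 k.2, k.1.2⟩
        invFun := fun q => ⟨⟨q.1, q.2.2⟩, (QuotientGroup.eq_one_iff _).2 q.2.1⟩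
        left_inv := fun _ => rfl
        right_inv := fun _ => rfl }
    have h3 := π.ker.card_mul_index
    rw [Subgroup.index_ker, h2, d.cards.1, d.card_conjIn, ← h1] at h3
    omega
  have hEn : (E.subgroupOf X).Normal := ⟨fun y hy x => hnorm x x.2 y hy⟩
  refine ⟨hle, hnorm, hel, hcardE, hEn, ?_⟩
  obtain ⟨CM, hCM⟩ : ∃ CM : Subgroup c.M, CM =
      ((centralizer ({(s : G)} : Set G)).subgroupOf (centralizer ({z} : Set G))).subgroupOf c.M := ⟨_, rfl⟩
  have hfix : ∀ m : CM, ((m : c.M) : Subgroup.centralizer ({z} : Set G)) * s *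
      ((m : c.M) : Subgroup.centralizer ({z} : Set G))⁻¹ = s := fun m => (hmemX _).2 (hCM.le m.2)
  obtain ⟨φ, hφ, hφk⟩ := exists_hom isOmega_om card_F4
  let θ : CM →* Stab isOmega_om card_F4 :=
    (c.act.comp CM.subtype).codRestrict _ fun m => d.act_stab _ (hfix m)
  let ψ : CM →* alternatingGroup (Fin 6) := φ.comp θ
  have hψ : Function.Surjective ψ := hφ.comp fun k => by
    obtain ⟨m, hm, hm'⟩ := d.stab_lift k.2
    exact ⟨⟨m, hCM.ge ((hmemX _).1 hm')⟩, Subtype.ext hm⟩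
  let ι : CM →* X :=
    ((QuotientGroup.mk' Q).comp (c.M.subtype.comp CM.subtype)).codRestrict X fun m =>
      hX.ge ⟨_, hCM.le m.2, rfl⟩
  let ρ : CM →* X ⧸ E.subgroupOf X := (QuotientGroup.mk' (E.subgroupOf X)).comp ι
  have hρ : Function.Surjective ρ := by
    intro w
    obtain ⟨⟨u, hu⟩, rfl⟩ := QuotientGroup.mk'_surjective _ w
    obtain ⟨h, hh, rfl⟩ := hX.le hu
    by_cases hM : h ∈ c.M
    · exact ⟨⟨⟨h, hM⟩, hCM.ge hh⟩, rfl⟩
    · obtain ⟨x, hx, hxM⟩ := d.exists_outside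
      have hm : h * x ∈ c.M := (Subgroup.mul_mem_iff_of_index_two c.index_M).2
        ⟨fun h' => absurd h' hM, fun h' => absurd h' hxM⟩
      refine ⟨⟨⟨h * x, hm⟩, hCM.ge (mul_mem hh ((hmemX x).1 (d.conjIn_fix hx)))⟩, ?_⟩
      refine (QuotientGroup.eq).2 (hE.ge ⟨x⁻¹, inv_mem hx, ?_⟩)
      show QuotientGroup.mk' Q x⁻¹ = (QuotientGroup.mk' Q (h * x))⁻¹ * QuotientGroup.mk' Q h
      rw [← map_inv, ← map_mul]; congr 1; group
  have hk : ρ.ker = ψ.ker := by
    ext m
    have h1 : m ∈ ρ.ker ↔ QuotientGroup.mk' Q ((m : c.M) : Subgroup.centralizer ({z} : Set G)) ∈ E :=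
      (QuotientGroup.eq_one_iff (N := E.subgroupOf X) (ι m)).trans Iff.rfl
    have h2 : m ∈ ψ.ker ↔ c.act (m : c.M) ∈ d.img := by
      rw [MonoidHom.mem_ker, MonoidHom.comp_apply, ← MonoidHom.mem_ker, hφk, d.img_eq]; rfl
    rw [h1, h2, hE, d.mem_img]
    constructor
    · rintro ⟨e, he, heq⟩
      have hQ : e⁻¹ * ((m : c.M) : Subgroup.centralizer ({z} : Set G)) ∈ Q := (QuotientGroup.eq).1 heq
      have heM : e ∈ c.M := by
        have := mul_mem (m : c.M).2 (inv_mem (c.le_M hQ))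
        rwa [_root_.mul_inv_rev, inv_inv, mul_inv_cancel_left] at this
      refine ⟨⟨e, heM⟩, he, ?_⟩
      have h := (c.ker_act (⟨e, heM⟩⁻¹ * (m : c.M))).2 hQ
      rw [map_mul, map_inv, inv_mul_eq_one] at h
      exact h
    · rintro ⟨e, he, heq⟩
      refine ⟨e, he, (QuotientGroup.eq).2 ((c.ker_act (e⁻¹ * (m : c.M))).1 ?_)⟩
      rw [map_mul, map_inv, heq, inv_mul_cancel]
  exact ⟨(QuotientGroup.quotientKerEquivOfSurjective ρ hρ).symm.trans
    ((QuotientGroup.quotientMulEquivOfEq hk).trans (QuotientGroup.quotientKerEquivOfSurjective ψ hψ))⟩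

end CfsgLib.Trans3.FischerType
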