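import Cfsg.Agent.Lib.Trans3.FiLarge.Twist
import Cfsg.Agent.Lib.Trans3.FischerType.OuterSemi
import Cfsg.Agent.Lib.Trans3.FischerType.PairLocal
import Cfsg.Agent.Lib.Trans3.FischerType.Local

/-!
A conjugate of `z` on the long orbit: coordinates putting it at the standard vector, and exponent two outside.
-/

set_option autoImplicit false
set_option linter.unusedSectionVars false

namespace CfsgLib.Trans3.FischerType

open Subgroup Matrix CfsgLib.PLocal.LargeExtra CfsgLib.Chev.U43U6 CfsgLib.Trans3.FiLarge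

variable {G : Type*} [Group G] [Finite G] {z : G} {Q : Subgroup (Subgroup.centralizer ({z} : Set G))}
  [Q.Normal]

/-- Coordinates with a given conjugate at the standard vector. -/
theorem exists_at (hF : Cfsg.IsOfLargeFischerTypeAt z Q) (c : Coord z Q) (hb : c.b = 0)
    {s : Subgroup.centralizer ({z} : Set G)} (hs : s ∈ Q) (hbig : InBig c.b (c.pr s)) {g : G}
    (hg : g * z * g⁻¹ = (s : G)) :
    ∃ k : GS F4, ∃ hk : k ∈ FiLarge.K c.b, At (c.twist k hk) s g := by
  obtain ⟨k, hk, e⟩ := InBig.trans hbig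
    (show InBig c.b (vdec om bigRep) from ⟨1, one_mem _, one_mulVec _⟩)
  obtain ⟨hP, hcard⟩ := pack_of_type hF
  exact ⟨k, hk, hP, hcard, hb, hs, e, hg⟩

/-- Outside the subgroup of index two the action is semilinear with exponent two. -/
theorem outer_semi (hF : Cfsg.IsOfLargeFischerTypeAt z Q) (c : Coord z Q) (hb : c.b = 0)
    {s : Subgroup.centralizer ({z} : Set G)} (hs : s ∈ Q) (hbig : InBig c.b (c.pr s))
    (hconj : IsConj z (s : G)) {h : Subgroup.centralizer ({z} : Set G)} (hh : h ∉ c.M)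
    {q r : Subgroup.centralizer ({z} : Set G)} (hq : q ∈ Q) (hr : r ∈ Q) {a : F4}
    (e : c.pr r = a • c.pr q) : c.pr (h * r * h⁻¹) = a ^ 2 • c.pr (h * q * h⁻¹) := by
  obtain ⟨g, hg⟩ := isConj_iff.1 hconj
  obtain ⟨k, hk, d⟩ := exists_at hF c hb hs hbig hg
  have h2 : mat k *ᵥ c.pr (h * r * h⁻¹) = a ^ 2 • (mat k *ᵥ c.pr (h * q * h⁻¹)) :=
    d.outer_semi_pr (by rw [Coord.twist_M]; exact hh) hq hr (by
      rw [Coord.twist_pr, Coord.twist_pr, e, mulVec_smul])
  have e3 := congrArg (fun v => mat k⁻¹ *ᵥ v) h2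
  simp only [mulVec_smul, mat_inv_mulVec] at e3
  exact e3

/-- The local structure at a conjugate of `z` in `Q` on the long orbit. -/
theorem pair_structure (hF : Cfsg.IsOfLargeFischerTypeAt z Q) (c : Coord z Q) (hb : c.b = 0)
    {s : Subgroup.centralizer ({z} : Set G)} (hs : s ∈ Q) (hbig : InBig c.b (c.pr s)) {g : G}
    (hg : g * z * g⁻¹ = (s : G)) :
    ∃ c' : Coord z Q, c'.M = c.M ∧ At c' s g := by
  obtain ⟨k, hk, d⟩ := exists_at hF c hb hs hbig hg
  exact ⟨_, Coord.twist_M c k hk, d⟩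

end CfsgLib.Trans3.FischerType
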