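import Cfsg.Agent.Lib.Trans3.FischerType.PairHyp
import Cfsg.Agent.Lib.Trans3.FiLarge.BigConj
import Cfsg.Agent.Lib.Trans3.FischerType.PairStructure

/-!
The conclusions about the Thompson subgroup from coordinates with cover number `0`, the module facts and the
largest elementary abelian subgroup.
-/

set_option autoImplicit false
set_option linter.unusedSectionVars false

namespace CfsgLib.Trans3.FischerType.PairCode

open Matrix CfsgLib.Chev.U43U6 CfsgLib.Trans3.FiLarge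

variable {G : Type*} [Group G] [Finite G] {z : G} {Q : Subgroup (Subgroup.centralizer ({z} : Set G))} [Q.Normal]

theorem ne_z_of_orbit (c : Coord z Q) {q : Subgroup.centralizer ({z} : Set G)} (hq : q ∈ Q)
    (h : InSmall c.b (c.pr q) ∨ InBig c.b (c.pr q)) : (q : G) ≠ z := fun e =>
  (isotropic_of_orbit h).1 ((c.pr_eq_zero q hq).2 (Or.inr e))

/-- The extra module facts. -/
structure WExtra {b : Fin 3} (f : WFacts b) : Prop where
  perp : ∀ v, (∀ u ∈ f.U, bform v u = 0) → v ∈ f.U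
  fixer : ∀ g ∈ K b, (∀ u ∈ f.U, mat g *ᵥ u = u) → g ∈ f.W
  smul : ∀ u ∈ f.U, ∀ a : F4, a • u ∈ f.U

theorem concl_of_coord (hF : Cfsg.IsOfLargeFischerTypeAt z Q) (c : Coord z Q) (hb : c.b = 0)
    (f : WFacts c.b) (hf : WExtra f) (A : Subgroup G) (T₀ : Sylow 2 G)
    (hT : (T₀ : Subgroup G) ≤ Subgroup.centralizer ({z} : Set G))
    (hu : IsUniqueMaxElem (T₀ : Subgroup G) A) (hcard : Nat.card A = 2 ^ 11)
    (hM : ∀ a ∈ A, ∃ m : c.M, ((m : Subgroup.centralizer ({z} : Set G)) : G) = a)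
    (hQ : ∀ g ∈ qg Q, (g ∈ A ↔ prG c g ∈ f.U))
    (hW : ∀ a ∈ A, actG c a ∈ f.W) (hsurj : ∀ w ∈ f.W, ∃ a ∈ A, actG c a = w) (T : Sylow 2 G) :
    Concl z (Cfsg.thompsonSubgroupOf 2 (T : Subgroup G)) := by
  obtain ⟨hz, hcQ⟩ := hyp_basic hF
  have hbig : ∀ q ∈ Q, InBig c.b (c.pr q) → IsConj z (q : G) := fun q hq h =>
    (big_iff_conj hF c hq (ne_z_of_orbit c hq (Or.inr h))).1 h
  refine concl_of_pieces c f A T₀ hz (z_mem_qg c hcQ) hcQ hf.perp hf.fixer hf.smul ?_ hbig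
    (fun q hq h hc => small_ne_big h ((big_iff_conj hF c hq (ne_z_of_orbit c hq (Or.inl h))).2 hc))
    hT hu hcard hM hQ hW hsurj T
  obtain ⟨s, hs, hse⟩ := c.pr_surj (vdec om bigRep)
  have hsb : InBig c.b (c.pr s) := ⟨1, one_mem _, by rw [hse]; exact Matrix.one_mulVec _⟩
  intro h hh q hq r hr a e
  exact outer_semi hF c hb hs hsb (hbig s hs hsb) hh hq hr e

end CfsgLib.Trans3.FischerType.PairCode
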