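import Cfsg.Agent.Lib.Trans3.FischerType.Stab

/-!
A unitary map normalising the subgroup that fixes the vector and moves the vectors of the distinguished
six-dimensional binary space only along it agrees with an element of the normal subgroup of order
sixteen.
-/

set_option autoImplicit false
set_option linter.unusedSectionVars false
set_option linter.style.haveILetI false
set_option maxRecDepth 100000

namespace CfsgLib.Trans3.FischerType

open CfsgLib.Chev.U43U6
open Matrix

/-- The codes orthogonal to the vector and to the four others are multiples of the vector. -/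
def radOK : Bool :=
  ((List.range 4096).all fun c => !(Nat.beq (herm c svec) 0 &&
      (List.range 4).all fun j => Nat.beq (herm c (bVecs.getD j 0)) 0) ||
    (List.range 4).any fun a => Nat.beq c (sclV a svec)) &&
  ((List.range 4).all fun a => let d := Nat.xor 1 (sclV a svec)
    !Nat.beq (herm d d) (herm 1 1) || Nat.beq a 0 || Nat.beq a 1) &&
  Nat.beq (sclV 0 svec) 0 && Nat.beq (sclV 1 svec) svec && sdL.all (fun c => Nat.blt c 4096) &&
  bVecs.all (fun c => Nat.blt c 4096) && Nat.beq bVecs.length 4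

theorem radOK_true : radOK = true := by decide +kernel

variable {F : Type*} [Field F] [Fintype F] {ω : F} (hω : IsOmega ω) (hF : Fintype.card F = 4)

/-- One of the four vectors. -/
abbrev bV (ω : F) (j : Fin 4) : Fin 6 → F := vdec ω (bVecs.getD j 0)

/-- The vector completing a basis. -/
abbrev wV (ω : F) : Fin 6 → F := vdec ω 1

theorem vdec_zero : vdec ω 0 = 0 := funext fun i => by
  show dec ω (crd 0 i) = 0
  simp [crd, dec, Nat.shiftRight_eq_div_pow]

include hω hF in
theorem vdec_surj (v : Fin 6 → F) : ∃ c < 4096, vdec ω c = v := by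
  choose a ha e using fun i => dec_surj hω hF (v i)
  set f : ℕ → ℕ := fun i => if h : i < 6 then a ⟨i, h⟩ else 0
  have hf : ∀ i, f i < 4 := fun i => by simp only [f]; split <;> [exact ha _; norm_num]
  refine ⟨vec6 f, ?_, funext fun i => ?_⟩
  · have := hf 0; have := hf 1; have := hf 2; have := hf 3; have := hf 4; have := hf 5
    simp only [vec6]; omega
  · show dec ω (crd (vec6 f) i) = v i
    rw [crd_vec6 f hf i.2]
    simp only [f, i.2, dif_pos, Fin.eta]
    exact e i

include hω in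
theorem char_two (v : Fin 6 → F) : v + v = 0 := funext fun i => by
  show v i + v i = 0
  rw [← two_mul, hω.2, zero_mul]

include hω in
theorem vdec_foldr (L : List ℕ) (g : ℕ → ℕ) :
    vdec ω (L.foldr (fun i r => Nat.xor (g i) r) 0) = (L.map fun i => vdec ω (g i)).sum := by
  induction L with
  | nil => exact vdec_zero
  | cons i L ih => rw [List.foldr_cons, vdec_xor hω, ih, List.map_cons, List.sum_cons]

theorem sd_checks : (∀ c < 4096, (∀ i < 4, mulV (nM i) c = c ∨ mulV (nM i) c = Nat.xor c svec) → c ∈ sdL) ∧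
    (∀ j < 6, combV (stdCo.getD j 0) = colM idM j) ∧
    (∀ j < 4, herm (bVecs.getD j 0) svec = 0) ∧ herm svec svec = 0 ∧ herm 1 svec = 1 := by
  have h := sdOK_true
  simp only [sdOK, Bool.and_eq_true, List.all_eq_true, List.mem_range, Bool.or_eq_true,
    Bool.not_eq_true', List.any_eq_true] at h
  obtain ⟨⟨⟨⟨h1, h2⟩, h3⟩, h4⟩, h5⟩ := h
  refine ⟨fun c hc hmem => ?_, fun j hj => Nat.eq_of_beq_eq_true (h2 j hj),
    fun j hj => Nat.eq_of_beq_eq_true (h3 j hj), Nat.eq_of_beq_eq_true h4, Nat.eq_of_beq_eq_true h5⟩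
  rcases h1 c hc with h | ⟨d, hd, e⟩
  · rw [List.all_eq_false] at h
    obtain ⟨i, hi, e⟩ := h
    rcases hmem i (List.mem_range.1 hi) with h | h <;>
      · rw [h] at e
        simp at e
  · exact Nat.eq_of_beq_eq_true e ▸ hd

theorem rad_checks : (∀ c < 4096, herm c svec = 0 → (∀ j < 4, herm c (bVecs.getD j 0) = 0) →
      ∃ a < 4, c = sclV a svec) ∧
    (∀ a < 4, herm (Nat.xor 1 (sclV a svec)) (Nat.xor 1 (sclV a svec)) = herm 1 1 → a = 0 ∨ a = 1) ∧
    sclV 0 svec = 0 ∧ sclV 1 svec = svec ∧ (∀ c ∈ sdL, c < 4096) := by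
  have h := radOK_true
  simp only [radOK, Bool.and_eq_true, List.all_eq_true, List.mem_range, Bool.or_eq_true,
    Bool.not_eq_true', List.any_eq_true] at h
  obtain ⟨⟨⟨⟨⟨⟨h1, h2⟩, h3⟩, h4⟩, h5⟩, -⟩, -⟩ := h
  refine ⟨fun c hc e0 ej => ?_, fun a ha e => ?_, Nat.eq_of_beq_eq_true h3, Nat.eq_of_beq_eq_true h4,
    fun c hc => Nat.blt_eq.mp (h5 c hc)⟩
  · rcases h1 c hc with h | ⟨a, ha, e⟩
    · rw [Bool.and_eq_false_iff] at h
      rcases h with h | h
      · rw [e0] at h; simp at h
      · rw [List.all_eq_false] at h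
        obtain ⟨j, hj, e⟩ := h
        rw [ej j (List.mem_range.1 hj)] at e
        simp at e
    · exact ⟨a, ha, Nat.eq_of_beq_eq_true e⟩
  · rcases h2 a ha with (h | h) | h
    · rw [e, Nat.beq_refl] at h; exact absurd h (by decide)
    · exact Or.inl (Nat.eq_of_beq_eq_true h)
    · exact Or.inr (Nat.eq_of_beq_eq_true h)

include hω in
/-- Linear maps agreeing on the basis are equal. -/
theorem ext_basis {f g : (Fin 6 → F) →ₗ[F] (Fin 6 → F)} (hs : f (sVec ω) = g (sVec ω))
    (hb : ∀ j, f (bV ω j) = g (bV ω j)) (hw : f (wV ω) = g (wV ω)) : f = g := by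
  have hbas : ∀ i < 6, f (vdec ω (basV.getD i 0)) = g (vdec ω (basV.getD i 0)) := by
    intro i hi
    interval_cases i
    exacts [hs, hb 0, hb 1, hb 2, hb 3, hw]
  refine LinearMap.pi_ext' fun j => LinearMap.ext_ring ?_
  show f (Pi.single j 1) = g (Pi.single j 1)
  have e1 : (Pi.single j (1 : F) : Fin 6 → F) = vdec ω (combV (stdCo.getD j 0)) := by
    rw [sd_checks.2.1 j j.2]
    funext r
    have h := congrFun (congrFun (mdec_idM hω (F := F)) r) j
    show _ = dec ω (crd (colM idM j) r)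
    rw [show dec ω (crd (colM idM j) r) = mdec ω idM r j from rfl, h, Matrix.one_apply, Pi.single_apply]
  rw [e1, combV, vdec_foldr hω, map_list_sum, map_list_sum, List.map_map, List.map_map]
  refine congrArg List.sum (List.map_congr_left fun i hi => ?_)
  show f (vdec ω (sclV _ _)) = g (vdec ω (sclV _ _))
  rw [vdec_scl hω, map_smul, map_smul, hbas i (List.mem_range.1 hi)]

theorem nEl_sVec (i : Fin 4) : app (nEl hω hF i) (sVec ω) = sVec ω := by
  rw [(nEl_real hω hF i).app_dec hω, (n_checks i).2.2.2.1]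

theorem nEl_bV (i j : Fin 4) :
    app (nEl hω hF i) (bV ω j) = bV ω j + if i = j then sVec ω else 0 := by
  rw [(nEl_real hω hF i).app_dec hω, (n_checks i).2.2.2.2 j, vdec_xor hω]
  simp only [Fin.val_inj]
  split
  · rfl
  · rw [vdec_zero]

/-- The vectors that the normal subgroup moves only along the vector. -/
def SdSet : Set (Fin 6 → F) :=
  {v | ∀ n ∈ Nsub hω hF, app n v = v ∨ app n v = v + sVec ω}

/-- The binary space of those codes. -/
def SdCodes (ω : F) : Set (Fin 6 → F) := vdec ω '' {c | c ∈ sdL}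

theorem SdSet_subset : SdSet hω hF ⊆ SdCodes ω := by
  intro v hv
  obtain ⟨c, hc, rfl⟩ := vdec_surj hω hF v
  refine ⟨c, sd_checks.1 c hc fun i hi => ?_, rfl⟩
  have hlt : mulV (nM i) c < 4096 := mulV_lt _ _
  rcases hv _ (Subgroup.subset_closure ⟨⟨i, hi⟩, rfl⟩) with h | h
  · rw [(nEl_real hω hF ⟨i, hi⟩).app_dec hω] at h
    exact Or.inl (vdec_inj hω hlt hc h)
  · rw [(nEl_real hω hF ⟨i, hi⟩).app_dec hω, ← vdec_xor hω] at h
    exact Or.inr (vdec_inj hω hlt (xor_lt hc (by decide)) h)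

/-- A set of `64` such vectors contains all of them, in particular the basis vectors. -/
theorem mem_of_card {D : Set (Fin 6 → F)} (hD : D ⊆ SdSet hω hF) (hc : 64 ≤ Nat.card D) :
    D = SdCodes ω ∧ sVec ω ∈ D ∧ ω • sVec ω ∈ D ∧ ∀ j, bV ω j ∈ D := by
  have hfin : (SdCodes ω).ncard ≤ 64 := by
    classical
    have : SdCodes ω = ↑((sdL.map (vdec ω)).toFinset) := by ext v; simp [SdCodes]
    rw [this, Set.ncard_coe_finset]
    exact (List.toFinset_card_le _).trans (by rw [List.length_map]; decide)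
  have heq : D = SdCodes ω := Set.eq_of_subset_of_ncard_le (hD.trans (SdSet_subset hω hF))
    (hfin.trans (by rwa [← Nat.card_coe_set_eq])) (Set.toFinite _)
  refine ⟨heq, ?_, ?_, fun j => ?_⟩ <;> rw [heq]
  · exact ⟨svec, (by decide +kernel : svec ∈ sdL), rfl⟩
  · refine ⟨sclV 2 svec, (by decide +kernel : sclV 2 svec ∈ sdL), ?_⟩
    rw [vdec_scl hω, show dec ω 2 = ω by simp [dec, Nat.testBit, Nat.shiftRight_eq_div_pow]]
  · exact ⟨_, (by decide +kernel : ∀ j : Fin 4, bVecs.getD j 0 ∈ sdL) j, rfl⟩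

/-- The product of chosen generators. -/
noncomputable def nChoose (p : Fin 4 → Bool) : List (Fin 4) → GS F
  | [] => 1
  | i :: L => (if p i = true then nEl hω hF i else 1) * nChoose p L

theorem nChoose_spec (p : Fin 4 → Bool) : ∀ L : List (Fin 4), L.Nodup →
    nChoose hω hF p L ∈ Nsub hω hF ∧ app (nChoose hω hF p L) (sVec ω) = sVec ω ∧
    ∀ j, (j ∈ L ∧ p j = true → app (nChoose hω hF p L) (bV ω j) = bV ω j + sVec ω) ∧
      (¬(j ∈ L ∧ p j = true) → app (nChoose hω hF p L) (bV ω j) = bV ω j)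
  | [], _ => ⟨one_mem _, app_one _, fun j => ⟨fun h => absurd h.1 List.not_mem_nil, fun _ => app_one _⟩⟩
  | i :: L, hnd => by
    obtain ⟨hi, hL⟩ := List.nodup_cons.1 hnd
    obtain ⟨h1, h2, h3⟩ := nChoose_spec p L hL
    simp only [nChoose]
    by_cases hp : p i = true
    · rw [if_pos hp]
      refine ⟨mul_mem (Subgroup.subset_closure ⟨i, rfl⟩) h1, by rw [app_mul, h2, nEl_sVec], fun j => ⟨?_, ?_⟩⟩
      · rintro ⟨hj, hpj⟩
        rcases List.mem_cons.1 hj with rfl | hj
        · rw [app_mul, (h3 j).2 (fun h => hi h.1), nEl_bV, if_pos rfl]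
        · have hne : i ≠ j := fun e => hi (e ▸ hj)
          rw [app_mul, (h3 j).1 ⟨hj, hpj⟩, app, Matrix.mulVec_add, ← app, ← app, nEl_sVec, nEl_bV,
            if_neg hne, add_zero]
      · intro hn
        have hne : i ≠ j := fun e => hn ⟨e ▸ List.mem_cons_self .., e ▸ hp⟩
        rw [app_mul, (h3 j).2 (fun h => hn ⟨List.mem_cons_of_mem _ h.1, h.2⟩), nEl_bV, if_neg hne, add_zero]
    · rw [if_neg hp, one_mul]
      refine ⟨h1, h2, fun j => ⟨?_, ?_⟩⟩
      · rintro ⟨hj, hpj⟩
        rcases List.mem_cons.1 hj with rfl | hj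
        · exact absurd hpj hp
        · exact (h3 j).1 ⟨hj, hpj⟩
      · exact fun hn => (h3 j).2 (fun h => hn ⟨List.mem_cons_of_mem _ h.1, h.2⟩)

/-- A linear isometry fixing the vector, moving the basis only along it and normalising the subgroup
agrees with an element of the normal subgroup. -/
theorem linear_eq (f : (Fin 6 → F) →ₗ[F] (Fin 6 → F))
    (hh : ∀ u v, Cfsg.hermForm 6 F 2 (f u) (f v) = Cfsg.hermForm 6 F 2 u v)
    (hs : f (sVec ω) = sVec ω) (hb : ∀ j, f (bV ω j) = bV ω j ∨ f (bV ω j) = bV ω j + sVec ω)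
    (hnorm : ∀ k ∈ Kb hω hF 0, ∃ k' ∈ Kb hω hF 0, ∀ v, f (app k v) = app k' (f v)) :
    ∃ n ∈ Nsub hω hF, ∀ v, f v = app n v := by
  classical
  obtain ⟨hn, hns, hnb⟩ := nChoose_spec hω hF (fun j => decide (f (bV ω j) ≠ bV ω j)) (List.finRange 4)
    (List.nodup_finRange 4)
  set n := nChoose hω hF (fun j => decide (f (bV ω j) ≠ bV ω j)) (List.finRange 4)
  have hnb' : ∀ j, app n (bV ω j) = f (bV ω j) := fun j => by
    by_cases h : f (bV ω j) = bV ω j
    · rw [(hnb j).2 (fun h' => of_decide_eq_true h'.2 h), h]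
    · rw [(hnb j).1 ⟨List.mem_finRange j, decide_eq_true h⟩, (hb j).resolve_left h]
  set f' : (Fin 6 → F) →ₗ[F] (Fin 6 → F) := (Matrix.mulVecLin (mat n⁻¹)).comp f with hf'
  have hv : ∀ v, f' v = app n⁻¹ (f v) := fun v => rfl
  have hback : ∀ v, f v = app n (f' v) := fun v => by rw [hv, ← app_mul, mul_inv_cancel, app_one]
  have hh' : ∀ u v, Cfsg.hermForm 6 F 2 (f' u) (f' v) = Cfsg.hermForm 6 F 2 u v := fun u v => by
    rw [hv, hv]; exact (herm_mat n⁻¹ _ _).trans (hh u v)
  have hs' : f' (sVec ω) = sVec ω := by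
    rw [hv, hs]
    conv_lhs => rw [← hns]
    exact app_inv n _
  have hb' : ∀ j, f' (bV ω j) = bV ω j := fun j => by
    rw [hv, ← hnb' j]; exact app_inv n _
  obtain ⟨c, hc, hce⟩ := vdec_surj hω hF (f' (wV ω) + wV ω)
  have hperp : ∀ x : ℕ, f' (vdec ω x) = vdec ω x → herm c x = 0 := by
    intro x hx
    refine dec_inj hω (herm_lt _ _) (by norm_num) ?_
    rw [dec_zero, ← hermForm_dec hω, hce]
    have h1 := hh' (wV ω) (vdec ω x)
    rw [hx] at h1
    simp only [Cfsg.hermForm, Pi.add_apply, add_mul, Finset.sum_add_distrib] at h1 ⊢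
    rw [h1, ← two_mul, hω.2, zero_mul]
  obtain ⟨a, ha, rfl⟩ := rad_checks.1 c hc (hperp svec hs') (fun j hj => hperp _ (hb' ⟨j, hj⟩))
  have hw : f' (wV ω) = vdec ω (Nat.xor 1 (sclV a svec)) := by
    rw [vdec_xor hω, hce, ← add_assoc, add_comm (vdec ω 1), add_assoc, char_two hω, add_zero]
  have ha' : a = 0 ∨ a = 1 := rad_checks.2.1 a ha (dec_inj hω (herm_lt _ _) (herm_lt _ _) (by
    rw [← hermForm_dec hω, ← hermForm_dec hω, ← hw]; exact hh' _ _))
  refine ⟨n, hn, ?_⟩
  rcases ha' with rfl | rfl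
  · have : f' = LinearMap.id := ext_basis hω hs' hb' (by
      rw [hw, rad_checks.2.2.1, vdec_xor hω, vdec_zero, add_zero]; rfl)
    intro v
    rw [hback, this]; rfl
  · exfalso
    have hok := tvOK_true
    simp only [tvOK, Bool.and_eq_true, Bool.not_eq_true', List.all_eq_true, List.mem_range,
      List.any_eq_false] at hok
    obtain ⟨⟨⟨⟨hsu, hts⟩, htb⟩, htw⟩, hframe⟩ := hok
    obtain ⟨τ, hτ⟩ := exists_el hω hF hsu
    have hτ' : Real ω τ tvMat := hτ
    have hfτ : f' = Matrix.mulVecLin (mat τ) := by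
      refine ext_basis hω ?_ (fun j => ?_) ?_
      · rw [hs']
        exact ((hτ'.app_dec hω svec).trans (by rw [Nat.eq_of_beq_eq_true hts])).symm
      · rw [hb']
        exact ((hτ'.app_dec hω _).trans (by rw [Nat.eq_of_beq_eq_true (htb j j.2)])).symm
      · rw [hw, rad_checks.2.2.2.1]
        exact ((hτ'.app_dec hω 1).trans (by rw [Nat.eq_of_beq_eq_true htw])).symm
    have hτf : ∀ v, f v = app (n * τ) v := fun v => by rw [hback, app_mul, hfτ]; rfl
    obtain ⟨k', hk', hk'e⟩ := hnorm _ (kEl_mem hω hF 0)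
    have hk : τ * kEl hω hF 0 * τ = n⁻¹ * k' * n * (τ * τ) := by
      have : n * τ * kEl hω hF 0 = k' * (n * τ) := ext_app fun v => by
        rw [app_mul, app_mul k', ← hτf, ← hτf]; exact hk'e v
      calc τ * kEl hω hF 0 * τ = n⁻¹ * (n * τ * kEl hω hF 0) * τ := by group
        _ = _ := by rw [this]; group
    have hττ : τ * τ = 1 := by
      have : Matrix.mulVecLin (mat (τ * τ)) = LinearMap.id := ext_basis hω
        (by show app (τ * τ) _ = _; rw [app_mul, hτ'.app_dec hω, Nat.eq_of_beq_eq_true hts,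
            hτ'.app_dec hω, Nat.eq_of_beq_eq_true hts]; rfl)
        (fun j => by show app (τ * τ) _ = _; rw [app_mul, hτ'.app_dec hω,
            Nat.eq_of_beq_eq_true (htb j j.2), hτ'.app_dec hω, Nat.eq_of_beq_eq_true (htb j j.2)]; rfl)
        (by show app (τ * τ) _ = _; rw [app_mul, hτ'.app_dec hω, Nat.eq_of_beq_eq_true htw, vdec_xor hω,
            app, Matrix.mulVec_add, ← app, ← app, hτ'.app_dec hω, hτ'.app_dec hω,
            Nat.eq_of_beq_eq_true htw, Nat.eq_of_beq_eq_true hts, vdec_xor hω, add_assoc, char_two hω,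
            add_zero]; rfl)
      exact ext_app fun v => (congrArg (fun g => g v) this).trans (app_one v).symm
    rw [hττ, mul_one] at hk
    have hmem : τ * kEl hω hF 0 * τ ∈ Kb hω hF 0 := by
      have hnK : n ∈ Kb hω hF 0 := (Nsub_le hω hF hn).1
      exact hk ▸ mul_mem (mul_mem (inv_mem hnK) hk') hnK
    have hreal : Real ω (τ * kEl hω hF 0 * τ) (mulM tvMat (mulM ((kMat 0).getD 0 []) tvMat)) := by
      show mat τ * mat (kEl hω hF 0) * mat τ = _
      rw [mdec_mulM hω _ (by decide +kernel), mdec_mulM hω _ (by decide), hτ', kEl_real hω hF 0,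
        mul_assoc]
      rfl
    have hE : mv hω hF (τ * kEl hω hF 0 * τ) E0 ∈ Bset 0 := Kb_le_Lb hω hF 0 hmem E0 (E0_mem 0)
    obtain ⟨i, hi⟩ := mem_Bset.1 hE
    set m := mulM tvMat (mulM ((kMat 0).getD 0 []) tvMat) with hm
    have him : lst (baseFr.map (imgP m)) = lst ((kFr 0).getD i []) := by
      refine Eq.trans ?_ hi.symm
      ext j
      rw [mem_mv, mem_lst, List.mem_map]
      constructor
      · rintro ⟨x, hx, e⟩
        refine ⟨⟨x, ?_⟩, mem_lst.2 hx, Fin.ext ((act_code hω hF hreal _).trans e)⟩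
        exact (by decide : ∀ x ∈ baseFr, x < 672) x hx
      · rintro ⟨k, hk, rfl⟩
        exact ⟨k, mem_lst.1 hk, (act_code hω hF hreal k).symm⟩
    have hmask := mask_congr (fun x hx => by
        obtain ⟨y, hy, rfl⟩ := List.mem_map.1 hx
        rw [← act_code hω hF hreal ⟨y, (by decide : ∀ x ∈ baseFr, x < 672) y hy⟩]
        exact Fin.isLt _) (kFr_lt 0 i) him
    refine hframe (mask ((kFr 0).getD i [])) ?_ ?_
    · refine List.mem_map.2 ⟨_, ?_, rfl⟩
      have hi' : (i : ℕ) < (kFr ((0 : Fin 3) : ℕ)).length := (kFr_length 0).symm ▸ i.2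
      rw [show (kFr 0).getD i [] = (kFr 0)[(i : ℕ)] from List.getD_eq_getElem _ _ hi']
      exact List.getElem_mem hi'
    · rw [show mask (List.map (imgP m) baseFr) = mask ((kFr 0).getD i []) from hmask]
      exact Nat.beq_refl _

end CfsgLib.Trans3.FischerType
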