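import Cfsg.Agent.Lib.Trans3.FischerType.TripleCoord
import Cfsg.Agent.Lib.Trans3.FischerType.StabExclude

/-!
The facts at the vector `85` in the cover number `0`, and two commutators inside the stabiliser.
-/

set_option autoImplicit false
set_option linter.unusedSectionVars false
set_option maxRecDepth 100000

namespace CfsgLib.Trans3.FischerType

open Matrix CfsgLib.Chev.U43U6 CfsgLib.Trans3.FiLarge

/-- The code of the product with a given pattern. -/
def patM (e : ℕ) : List ℕ := wordM tMats (nProds.getD e [])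

/-- Parents in the orbit of the first generator. -/
def patPar : List ℕ := [0, 1, 11, 7, 1, 2, 9, 9, 3, 1, 6, 15, 3, 6, 10, 4]

/-- The generators for the parents. -/
def patGen : List ℕ := [0, 0, 0, 0, 1, 0, 1, 0, 1, 0, 0, 1, 0, 1, 1, 0]

/-- The parent. -/
def patUp (e : ℕ) : ℕ := patPar.getD e 0

/-- The checks. -/
def pointOK : Bool :=
  ((List.range 4096).all fun c => !Nat.beq (herm c svec) 0 || (List.range 4).all fun i =>
    (List.range 4).any fun a => Nat.beq (mulV (nM i) c) (Nat.xor c (sclV a svec))) &&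
  ((List.range 16).all fun e => (List.range 4).all fun j => Nat.beq (mulV (patM e) (bVecs.getD j 0))
    (Nat.xor (bVecs.getD j 0) (if e.testBit j then svec else 0))) &&
  ((List.range 16).all fun e => Nat.blt (patUp e) 16 && (Nat.beq e 0 || (Nat.beq (Nat.iterate patUp 8 e) 1 &&
    (Nat.beq e 1 || (Nat.blt (patGen.getD e 0) 2 &&
      mulM (tM (patGen.getD e 0)) (patM (patUp e)) == mulM (patM e) (tM (patGen.getD e 0)))))))

theorem pointOK_true : pointOK = true := by decide +kernel

/-- The checks on the two commutators. -/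
def witOK : Bool :=
  ([3601, 3589].all fun c => Nat.beq (herm c svec) 0 && (List.range 4).all fun i =>
    Nat.beq (mulV (nM i) c) c || Nat.beq (mulV (nM i) c) (Nat.xor c svec)) &&
  Nat.beq (Nat.xor (Nat.xor (mulV (tM 1) 3601) 3601) (Nat.xor (mulV (tM 0) 3589) 3589)) (sclV 3 svec)

theorem witOK_true : witOK = true := by decide +kernel

local notation "s85" => vdec om bigRep

theorem s85_eq : s85 = sVec om := rfl

theorem perp_code {c : ℕ} (h : herm6 (vdec om c) s85 = 0) : herm c svec = 0 := by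
  refine dec_inj isOmega_om (herm_lt _ _) (by norm_num) ?_
  rw [dec_zero, ← hermForm_dec isOmega_om]
  exact h

theorem nsub_moves_along {n : GS F4} (hn : n ∈ Nsub isOmega_om card_F4) : ∀ w, herm6 w s85 = 0 →
    ∃ a : F4, mat n *ᵥ w = w + a • s85 := by
  induction hn using Subgroup.closure_induction with
  | mem n hn =>
    obtain ⟨i, rfl⟩ := hn
    intro w hw
    obtain ⟨c, hc, rfl⟩ := vdec_surj isOmega_om card_F4 w
    have h := pointOK_true
    simp only [pointOK, Bool.and_eq_true, List.all_eq_true, List.mem_range, Bool.or_eq_true,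
      Bool.not_eq_true', List.any_eq_true] at h
    rcases h.1.1 c hc with e | e
    · rw [perp_code hw] at e; simp at e
    · obtain ⟨a, -, ha⟩ := e i i.2
      refine ⟨dec om a, ?_⟩
      show app (nEl isOmega_om card_F4 i) _ = _
      rw [(nEl_real isOmega_om card_F4 i).app_dec isOmega_om, Nat.eq_of_beq_eq_true ha, vdec_xor isOmega_om,
        vdec_scl isOmega_om]
      rfl
  | one => exact fun w _ => ⟨0, by rw [mat_one_gs, Matrix.one_mulVec, zero_smul, add_zero]⟩
  | mul n m hn hm ihn ihm =>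
    intro w hw
    obtain ⟨a, ha⟩ := ihm w hw
    obtain ⟨a', ha'⟩ := ihn w hw
    refine ⟨a' + a, ?_⟩
    have hs : app n s85 = s85 := (Nsub_le isOmega_om card_F4 hn).2
    rw [mat_mul_gs, ← Matrix.mulVec_mulVec, ha, Matrix.mulVec_add, Matrix.mulVec_smul, ha', show mat n *ᵥ s85 = s85 from hs, add_smul,
      add_assoc]
  | inv n hn ih =>
    intro w hw
    obtain ⟨a, ha⟩ := ih w hw
    refine ⟨a, ?_⟩
    have hs : app n s85 = s85 := (Nsub_le isOmega_om card_F4 hn).2
    refine app_injective n ?_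
    show app n (app n⁻¹ w) = app n (w + a • s85)
    rw [← app_mul, mul_inv_cancel, app_one, app, Matrix.mulVec_add, Matrix.mulVec_smul, ha, ← app, hs,
      add_assoc, char_two isOmega_om, add_zero]

/-- The element with a given pattern. -/
noncomputable def patEl (e : Fin 16) : GS F4 := tWord isOmega_om card_F4 (nProds.getD e [])

theorem patEl_facts (e : Fin 16) : patEl e ∈ Nsub isOmega_om card_F4 ∧ Real om (patEl e) (patM e) ∧
    ∀ j : Fin 4, app (patEl e) (bV om j) = bV om j + if (e : ℕ).testBit j then sVec om else 0 := by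
  obtain ⟨-, -, -, hw, hlen, -⟩ := card_checks
  have he : (e : ℕ) < nProds.length := hlen.symm ▸ e.2
  have hmem : nProds.getD e [] ∈ nProds := by
    rw [List.getD_eq_getElem _ _ he]; exact List.getElem_mem he
  obtain ⟨k, -, hk⟩ := List.mem_map.1 hmem
  have hr : Real om (patEl e) (patM e) := tWord_real isOmega_om card_F4 (hw _ hmem).1
  refine ⟨?_, hr, fun j => ?_⟩
  · rw [patEl, ← hk]
    exact nProd_mem isOmega_om card_F4 k _ fun i hi => List.mem_range.1 hi
  · have h := pointOK_true
    simp only [pointOK, Bool.and_eq_true, List.all_eq_true, List.mem_range] at h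
    rw [hr.app_dec isOmega_om, Nat.eq_of_beq_eq_true (h.1.2 e e.2 j j.2), vdec_xor isOmega_om]
    split
    · rfl
    · rw [vdec_zero]

theorem sVec_ne : sVec om ≠ 0 := by
  intro h
  rw [← vdec_zero (ω := om)] at h
  exact absurd (vdec_inj isOmega_om (by decide) (by decide) h) (by decide)

theorem patEl_bij : Function.Bijective
    (fun e : Fin 16 => (⟨patEl e, (patEl_facts e).1⟩ : Nsub isOmega_om card_F4)) := by
  refine (Nat.bijective_iff_injective_and_card _).2 ⟨fun a b e => ?_, by rw [Nat.card_fin, card_Nsub]⟩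
  have e' : patEl a = patEl b := congrArg Subtype.val e
  refine Fin.ext (Nat.eq_of_testBit_eq fun j => ?_)
  rcases Nat.lt_or_ge j 4 with hj | hj
  · have h1 := (patEl_facts a).2.2 ⟨j, hj⟩
    rw [e', (patEl_facts b).2.2 ⟨j, hj⟩] at h1
    have h1 : (if (b : ℕ).testBit j then sVec om else 0) = if (a : ℕ).testBit j then sVec om else 0 :=
      add_left_cancel h1
    revert h1
    generalize (a : ℕ).testBit j = p
    generalize (b : ℕ).testBit j = q
    cases p <;> cases q <;> simp [sVec_ne, eq_comm]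
  · have hp : (16 : ℕ) ≤ 2 ^ j := le_trans (by norm_num) (Nat.pow_le_pow_right (n := 2) (by norm_num) hj)
    rw [Nat.testBit_lt_two_pow (lt_of_lt_of_le a.2 hp), Nat.testBit_lt_two_pow (lt_of_lt_of_le b.2 hp)]

theorem patEl_zero : patEl 0 = 1 := by
  have h : nProds.getD 0 [] = [] := by decide +kernel
  show tWord _ _ (nProds.getD 0 []) = 1
  rw [h]; rfl

theorem nsub_faithful {n : GS F4} (hn : n ∈ Nsub isOmega_om card_F4) (h1 : n ≠ 1) :
    ∃ w, herm6 w s85 = 0 ∧ mat n *ᵥ w ≠ w := by
  obtain ⟨e, he⟩ := patEl_bij.2 ⟨n, hn⟩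
  obtain rfl : patEl e = n := congrArg Subtype.val he
  obtain ⟨j, hj⟩ : ∃ j : Fin 4, (e : ℕ).testBit j = true := by
    by_contra hno
    push Not at hno
    suffices he0 : e = 0 by exact h1 (by rw [he0, patEl_zero])
    refine Fin.ext (Nat.eq_of_testBit_eq fun j => ?_)
    rcases Nat.lt_or_ge j 4 with hj | hj
    · simpa using hno ⟨j, hj⟩
    · rw [Nat.testBit_lt_two_pow (lt_of_lt_of_le e.2
        (le_trans (by norm_num : (16 : ℕ) ≤ 2 ^ 4) (Nat.pow_le_pow_right (n := 2) (by norm_num) hj)))]
      simp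
  refine ⟨bV om j, ?_, fun h => sVec_ne ?_⟩
  · show Cfsg.hermForm 6 F4 2 (bV om j) (vdec om svec) = 0
    rw [hermForm_dec isOmega_om, sd_checks.2.2.1 j j.2, dec_zero]
  · have h' := (patEl_facts e).2.2 j
    rw [show app (patEl e) (bV om j) = bV om j from h, if_pos hj] at h'
    exact add_eq_left.1 h'.symm

theorem nsub_irreducible {S : Subgroup (GS F4)} (hS : S ≤ Nsub isOmega_om card_F4)
    (hn : ∀ g ∈ FiLarge.K 0, mat g *ᵥ s85 = s85 → ∀ n ∈ S, g * n * g⁻¹ ∈ S) :
    S = ⊥ ∨ S = Nsub isOmega_om card_F4 := by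
  obtain ⟨up, hup⟩ : ∃ up : Fin 16 → Fin 16, ∀ e, (up e : ℕ) = patUp e := by
    have h := pointOK_true
    simp only [pointOK, Bool.and_eq_true, List.all_eq_true, List.mem_range] at h
    exact ⟨fun e => ⟨patUp e, Nat.blt_eq.mp (h.2 e e.2).1⟩, fun e => rfl⟩
  have hstep : ∀ e : Fin 16, e ≠ 0 → (patEl e ∈ S ↔ patEl (up e) ∈ S) := by
    intro e he
    have h := pointOK_true
    simp only [pointOK, Bool.and_eq_true, List.all_eq_true, List.mem_range, Bool.or_eq_true] at h
    rcases (h.2 e e.2).2 with h0 | ⟨-, h0⟩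
    · exact absurd (Fin.ext (Nat.eq_of_beq_eq_true h0)) he
    rcases h0 with h0 | ⟨hlt, heq⟩
    · have : up e = e := Fin.ext (by rw [hup, Nat.eq_of_beq_eq_true h0]; rfl)
      rw [this]
    · obtain ⟨t, ht⟩ : ∃ t : Fin 2, (t : ℕ) = patGen.getD e 0 := ⟨⟨_, Nat.blt_eq.mp hlt⟩, rfl⟩
      rw [← ht, ← hup] at heq
      obtain ⟨g, hg⟩ : ∃ g, g = tEl isOmega_om card_F4 t := ⟨_, rfl⟩
      have hgs : g ∈ Stab isOmega_om card_F4 := hg ▸ tEl_mem _ _ t
      have hl : ∀ w, (wordM tMats w).length = 6 := wordM_length _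
      have htl : ∀ t : Fin 2, (tM t).length = 6 := by decide
      have key : g * patEl (up e) = patEl e * g := mat_injective (by
        rw [mat_mul_gs, mat_mul_gs, hg, tEl_real, (patEl_facts (up e)).2.1, (patEl_facts e).2.1, patM, patM,
          ← mdec_mulM isOmega_om _ (hl _), ← mdec_mulM isOmega_om _ (htl t)]
        exact congrArg (mdec om) (eq_of_beq heq))
      constructor
      · intro hm
        have h' := inv_mem hgs
        have := hn _ h'.1 h'.2 _ hm
        rw [inv_inv, mul_assoc, ← key, inv_mul_cancel_left] at this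
        exact this
      · intro hm
        have := hn _ hgs.1 hgs.2 _ hm
        rw [key, mul_inv_cancel_right] at this
        exact this
  have hone : ∀ e : Fin 16, e ≠ 0 → (patEl e ∈ S ↔ patEl 1 ∈ S) := by
    have hit : ∀ (k : ℕ) (e : Fin 16), e ≠ 0 → (∀ m ≤ k, up^[m] e ≠ 0) →
        (patEl e ∈ S ↔ patEl (up^[k] e) ∈ S) := by
      intro k
      induction k with
      | zero => intro e _ _; exact Iff.rfl
      | succ k ih =>
        intro e he hm
        rw [ih e he fun m hmk => hm m (Nat.le_succ_of_le hmk), hstep _ (hm k (Nat.le_succ k)),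
          Function.iterate_succ_apply']
    intro e he
    have hd : ∀ e : Fin 16, e ≠ 0 → Nat.iterate patUp 8 e = 1 ∧ ∀ m ≤ 8, Nat.iterate patUp m e ≠ 0 := by
      decide +kernel
    have hcoe : ∀ m, ((up^[m] e : Fin 16) : ℕ) = patUp^[m] e := fun m => by
      induction m with
      | zero => rfl
      | succ m ih => rw [Function.iterate_succ_apply', Function.iterate_succ_apply', hup, ih]
    rw [hit 8 e he fun m hm h0 => (hd e he).2 m hm (by rw [← hcoe, h0]; rfl),
      show up^[8] e = 1 from Fin.ext ((hcoe 8).trans (hd e he).1)]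
  by_cases h1 : patEl 1 ∈ S
  · refine Or.inr (le_antisymm hS fun n hn' => ?_)
    obtain ⟨e, he⟩ := patEl_bij.2 ⟨n, hn'⟩
    obtain rfl : patEl e = n := congrArg Subtype.val he
    by_cases he0 : e = 0
    · rw [he0, patEl_zero]; exact one_mem _
    · exact (hone e he0).2 h1
  · refine Or.inl ((Subgroup.eq_bot_iff_forall _).2 fun n hn' => ?_)
    obtain ⟨e, he⟩ := patEl_bij.2 ⟨n, hS hn'⟩
    obtain rfl : patEl e = n := congrArg Subtype.val he
    by_cases he0 : e = 0
    · rw [he0, patEl_zero]
    · exact absurd ((hone e he0).1 hn') h1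

/-- The facts at the representative of the long orbit. -/
theorem stabAt_bigRep : StabAt 0 (vdec om bigRep) := by
  refine ⟨?_, sVec_ne, Nsub isOmega_om card_F4, fun n hn => Nsub_le _ _ hn, card_Nsub _ _, ?_, ?_,
    fun n hn => nsub_moves_along hn, fun n hn h1 => nsub_faithful hn h1, fun S hS hn => nsub_irreducible hS hn⟩
  · show Cfsg.hermForm 6 F4 2 (vdec om svec) (vdec om svec) = 0
    rw [hermForm_dec isOmega_om, sd_checks.2.2.2.1, dec_zero]
  · intro g hg hgv n hn
    exact (Nsub_normal isOmega_om card_F4).conj_mem ⟨n, Nsub_le _ _ hn⟩ hn ⟨g, hg, hgv⟩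
  · intro X hX
    obtain rfl : X = Stab isOmega_om card_F4 := Subgroup.ext fun g => hX g
    obtain ⟨φ, hφ, hk⟩ := exists_hom isOmega_om card_F4
    exact ⟨φ, hφ, fun g => by rw [← MonoidHom.mem_ker, hk]; rfl⟩

/-- Two commutators of the stabiliser with vectors moved by the normal subgroup only along the vector
itself give a multiple of the vector by a primitive cube root of unity. -/
theorem exists_witness : ∃ (g₁ g₂ : GS F4) (w₁ w₂ : V6),
    (g₁ ∈ FiLarge.K 0 ∧ mat g₁ *ᵥ s85 = s85) ∧ (g₂ ∈ FiLarge.K 0 ∧ mat g₂ *ᵥ s85 = s85) ∧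
    herm6 w₁ s85 = 0 ∧ herm6 w₂ s85 = 0 ∧
    (∀ n ∈ Nsub isOmega_om card_F4, mat n *ᵥ w₁ = w₁ ∨ mat n *ᵥ w₁ = w₁ + s85) ∧
    (∀ n ∈ Nsub isOmega_om card_F4, mat n *ᵥ w₂ = w₂ ∨ mat n *ᵥ w₂ = w₂ + s85) ∧
    (mat g₁ *ᵥ w₁ + w₁) + (mat g₂ *ᵥ w₂ + w₂) = (om * om) • s85 := by
  have h := witOK_true
  simp only [witOK, Bool.and_eq_true, List.all_eq_true, List.mem_cons, List.not_mem_nil, or_false,
    forall_eq_or_imp, forall_eq, List.mem_range, Bool.or_eq_true] at h
  obtain ⟨⟨⟨p1, m1⟩, p2, m2⟩, hsum⟩ := h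
  have hp : ∀ c, Nat.beq (herm c svec) 0 = true → herm6 (vdec om c) s85 = 0 := fun c hc => by
    show Cfsg.hermForm 6 F4 2 (vdec om c) (vdec om svec) = 0
    rw [hermForm_dec isOmega_om, Nat.eq_of_beq_eq_true hc, dec_zero]
  have hm : ∀ c, (∀ i < 4, Nat.beq (mulV (nM i) c) c = true ∨
      Nat.beq (mulV (nM i) c) (Nat.xor c svec) = true) →
      ∀ n ∈ Nsub isOmega_om card_F4, app n (vdec om c) = vdec om c ∨ app n (vdec om c) = vdec om c + sVec om := by
    intro c hc n hn
    induction hn using Subgroup.closure_induction with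
    | mem n hn =>
      obtain ⟨i, rfl⟩ := hn
      rw [(nEl_real isOmega_om card_F4 i).app_dec isOmega_om]
      rcases hc i i.2 with e | e <;> rw [Nat.eq_of_beq_eq_true e]
      · exact Or.inl rfl
      · exact Or.inr (vdec_xor isOmega_om _ _)
    | one => exact Or.inl (app_one _)
    | mul n m hn _ ihn ihm =>
      have hs : app n (sVec om) = sVec om := (Nsub_le isOmega_om card_F4 hn).2
      rcases ihn with e | e <;> rcases ihm with e' | e' <;> rw [app_mul, e']
      · exact Or.inl e
      · exact Or.inr (by rw [app, Matrix.mulVec_add, ← app, ← app, e, hs])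
      · exact Or.inr e
      · exact Or.inl (by rw [app, Matrix.mulVec_add, ← app, ← app, e, hs, add_assoc, char_two isOmega_om,
          add_zero])
    | inv n hn ih =>
      have hs : app n (sVec om) = sVec om := (Nsub_le isOmega_om card_F4 hn).2
      rcases ih with e | e
      · exact Or.inl (by conv_lhs => rw [← e]
                         exact app_inv n _)
      · refine Or.inr (app_injective n ?_)
        rw [← app_mul, mul_inv_cancel, app_one, app, Matrix.mulVec_add, ← app, ← app, e, hs, add_assoc,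
          char_two isOmega_om, add_zero]
  refine ⟨tEl isOmega_om card_F4 1, tEl isOmega_om card_F4 0, vdec om 3601, vdec om 3589, tEl_mem _ _ 1,
    tEl_mem _ _ 0, hp _ p1, hp _ p2, hm _ m1, hm _ m2, ?_⟩
  have h1 := (tEl_real isOmega_om card_F4 1).app_dec isOmega_om 3601
  have h0 := (tEl_real isOmega_om card_F4 0).app_dec isOmega_om 3589
  show app _ _ + _ + (app _ _ + _) = _
  rw [h1, h0, ← vdec_xor isOmega_om, ← vdec_xor isOmega_om, ← vdec_xor isOmega_om]
  refine (congrArg (vdec om) (Nat.eq_of_beq_eq_true hsum)).trans ?_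
  rw [vdec_scl isOmega_om]
  congr 1

end CfsgLib.Trans3.FischerType
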