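import Cfsg.Agent.Lib.Trans3.FischerType.Local
import Cfsg.Agent.Lib.Trans3.FischerType.StabPoint

/-!
Coordinates and the action as relations between elements of `G` and their images, and the subgroup of order
three acting as scalars.
-/

set_option autoImplicit false
set_option linter.unusedSectionVars false

namespace CfsgLib.Trans3.FischerType

open Subgroup Matrix CfsgLib.Chev.U43U6 CfsgLib.Trans3.FiLarge

variable {G : Type*} [Group G] {z : G} {Q : Subgroup (Subgroup.centralizer ({z} : Set G))}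

/-- The element `w` of `Q` has coordinates `t`. -/
def PrAt (c : Coord z Q) (w : G) (t : V6) : Prop :=
  ∃ h, h ∈ Q ∧ (h : G) = w ∧ c.pr h = t

/-- The element `m` of `M` acts as `k`. -/
def ActAt (c : Coord z Q) (m : G) (k : GS F4) : Prop :=
  ∃ m₀ : c.M, ((m₀ : Subgroup.centralizer ({z} : Set G)) : G) = m ∧ c.act m₀ = k

variable {c : Coord z Q}

theorem v6_add_self (t : V6) : t + t = 0 := funext fun _ => (by decide : ∀ a : F4, a + a = 0) _

theorem v6_eq_of_add {s t : V6} (h : s + t = 0) : s = t := funext fun i =>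
  (by decide : ∀ a b : F4, a + b = 0 → a = b) _ _ (congrFun h i)

theorem PrAt.mul {a b : G} {s t : V6} (ha : PrAt c a s) (hb : PrAt c b t) : PrAt c (a * b) (s + t) := by
  obtain ⟨a₀, ha, rfl, rfl⟩ := ha
  obtain ⟨b₀, hb, rfl, rfl⟩ := hb
  exact ⟨a₀ * b₀, mul_mem ha hb, by push_cast; rfl, c.pr_mul _ ha _ hb⟩

theorem PrAt.congr {a : G} {s t : V6} (ha : PrAt c a s) (h : s = t) : PrAt c a t := h ▸ ha

theorem PrAt.one : PrAt c 1 0 :=
  ⟨1, one_mem _, by push_cast; rfl, (c.pr_eq_zero 1 (one_mem _)).2 (Or.inl rfl)⟩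

theorem PrAt.inv {a : G} {s : V6} (ha : PrAt c a s) : PrAt c a⁻¹ s := by
  obtain ⟨a₀, ha, rfl, rfl⟩ := ha
  refine ⟨a₀⁻¹, inv_mem ha, by push_cast; rfl, v6_eq_of_add ?_⟩
  rw [← c.pr_mul _ (inv_mem ha) _ ha, inv_mul_cancel]
  exact (c.pr_eq_zero 1 (one_mem _)).2 (Or.inl rfl)

theorem PrAt.zero {a : G} (ha : PrAt c a 0) : a = 1 ∨ a = z := by
  obtain ⟨a₀, ha, rfl, h⟩ := ha
  exact (c.pr_eq_zero _ ha).1 h

theorem PrAt.unique {a : G} {s t : V6} (ha : PrAt c a s) (ha' : PrAt c a t) : s = t := by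
  obtain ⟨a₀, ha, rfl, rfl⟩ := ha
  obtain ⟨b₀, -, e, rfl⟩ := ha'
  rw [show b₀ = a₀ from Subtype.ext e]

theorem PrAt.cases {a b : G} {s : V6} (ha : PrAt c a s) (hb : PrAt c b s) : a = b ∨ a = z * b := by
  have h := ha.mul hb.inv
  rw [v6_add_self] at h
  rcases h.zero with e | e
  exacts [Or.inl (mul_inv_eq_one.1 e), Or.inr (mul_inv_eq_iff_eq_mul.1 e)]

theorem PrAt.exists_elt (c : Coord z Q) (t : V6) : ∃ a, PrAt c a t := by
  obtain ⟨q, hq, e⟩ := c.pr_surj t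
  exact ⟨q, q, hq, rfl, e⟩

theorem exists_pr_of_mem {a : G} (ha : a ∈ Q.map (centralizer ({z} : Set G)).subtype) :
    ∃ t, PrAt c a t := by
  obtain ⟨a₀, ha, rfl⟩ := ha
  exact ⟨_, a₀, ha, rfl, rfl⟩

theorem PrAt.mem {a : G} {t : V6} (ha : PrAt c a t) : a ∈ Q.map (centralizer ({z} : Set G)).subtype := by
  obtain ⟨a₀, ha, rfl, -⟩ := ha
  exact ⟨a₀, ha, rfl⟩

theorem PrAt.conj {a m : G} {t : V6} {k : GS F4} (ha : PrAt c a t) (hm : ActAt c m k) (hQ : Q.Normal) :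
    PrAt c (m * a * m⁻¹) (mat k *ᵥ t) := by
  obtain ⟨a₀, ha, rfl, rfl⟩ := ha
  obtain ⟨m₀, rfl, rfl⟩ := hm
  exact ⟨_, hQ.conj_mem _ ha _, by push_cast; rfl, c.conj_pr m₀ a₀ ha⟩

theorem PrAt.comm {a b : G} {s t : V6} (ha : PrAt c a s) (hb : PrAt c b t) (h : herm6 s t = 0) :
    a * b = b * a := by
  obtain ⟨a₀, ha, rfl, rfl⟩ := ha
  obtain ⟨b₀, hb, rfl, rfl⟩ := hb
  exact congrArg Subtype.val ((c.comm_iff a₀ ha b₀ hb).2 (by rw [h]; decide))

theorem ActAt.mul {a b : G} {k l : GS F4} (ha : ActAt c a k) (hb : ActAt c b l) :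
    ActAt c (a * b) (k * l) := by
  obtain ⟨a₀, rfl, rfl⟩ := ha
  obtain ⟨b₀, rfl, rfl⟩ := hb
  exact ⟨a₀ * b₀, by push_cast; rfl, map_mul _ _ _⟩

theorem ActAt.inv {a : G} {k : GS F4} (ha : ActAt c a k) : ActAt c a⁻¹ k⁻¹ := by
  obtain ⟨a₀, rfl, rfl⟩ := ha
  exact ⟨a₀⁻¹, by push_cast; rfl, map_inv _ _⟩

theorem ActAt.mem_K {a : G} {k : GS F4} (ha : ActAt c a k) : k ∈ FiLarge.K c.b := by
  obtain ⟨a₀, rfl, rfl⟩ := ha
  exact c.range_act ▸ ⟨a₀, rfl⟩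

theorem ActAt.exists_elt {k : GS F4} (hk : k ∈ FiLarge.K c.b) : ∃ m, ActAt c m k := by
  obtain ⟨m₀, e⟩ : k ∈ c.act.range := c.range_act.symm ▸ hk
  exact ⟨_, m₀, rfl, e⟩

theorem ActAt.unique {a : G} {k l : GS F4} (ha : ActAt c a k) (ha' : ActAt c a l) : k = l := by
  obtain ⟨a₀, rfl, rfl⟩ := ha
  obtain ⟨b₀, e, rfl⟩ := ha'
  rw [show b₀ = a₀ from Subtype.ext (Subtype.ext e)]

theorem ActAt.mem_Q {a : G} (ha : ActAt c a 1) : a ∈ Q.map (centralizer ({z} : Set G)).subtype := by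
  obtain ⟨a₀, rfl, h⟩ := ha
  exact ⟨_, (c.ker_act a₀).1 h, rfl⟩

theorem actAt_of_mem {a : G} (ha : a ∈ Q.map (centralizer ({z} : Set G)).subtype) : ActAt c a 1 := by
  obtain ⟨a₀, ha, rfl⟩ := ha
  exact ⟨⟨a₀, c.le_M ha⟩, rfl, (c.ker_act _).2 ha⟩

theorem ActAt.comm_z {a : G} {k : GS F4} (ha : ActAt c a k) : a * z = z * a := by
  obtain ⟨a₀, rfl, -⟩ := ha
  exact mem_centralizer_singleton_iff.1 (a₀ : Subgroup.centralizer ({z} : Set G)).2

/-- A scalar is central in the cover. -/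
theorem scalar_comm {k x : GS F4} {a : F4} (hx : mat x = a • (1 : Matrix (Fin 6) (Fin 6) F4)) :
    x * k = k * x := by
  refine Subtype.ext (Subtype.ext ?_)
  show mat x * mat k = mat k * mat x
  rw [hx, Matrix.smul_mul, Matrix.mul_smul, Matrix.one_mul, Matrix.mul_one]

end CfsgLib.Trans3.FischerType
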