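import Cfsg.Agent.Lib.Trans3.FischerType.CenterStatements
import Cfsg.Agent.Lib.Trans3.FiLarge.BigConj

/-!
The two statements for coordinates with the cover number `0`, the classes being known.
-/

set_option autoImplicit false

namespace CfsgLib.Trans3.FischerType

open Subgroup CfsgLib.Trans3.FiLarge

variable {G : Type*} [Group G] [Finite G] {z : G} {Q : Subgroup (Subgroup.centralizer ({z} : Set G))}

/-- The long orbit consists of conjugates. -/
theorem conj_of_big [Q.Normal] (hF : Cfsg.IsOfLargeFischerTypeAt z Q) (c : Coord z Q) :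
    ∀ s ∈ Q, InBig c.b (c.pr s) → IsConj z (s : G) := fun s hs h =>
  (big_iff_conj hF c hs fun e => (isotropic_of_orbit (Or.inr h)).1
    ((c.pr_eq_zero s hs).2 (Or.inr e))).1 h

end CfsgLib.Trans3.FischerType
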