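import Cfsg.Agent.Lib.Trans3.FischerType.CenterWitness
import Cfsg.Agent.Lib.Trans3.FiLarge.Orbits
import Cfsg.Prelude.Def_CaseTheorems

/-!
The centraliser of the subgroup of order three over the scalars is a sixfold cover of `PSU₄(3)`.
-/

set_option autoImplicit false
set_option linter.unusedSectionVars false
set_option maxRecDepth 100000

namespace CfsgLib.Trans3.FischerType

open scoped commutatorElement
open Subgroup Matrix CfsgLib.Chev.U43U6 CfsgLib.Trans3.FiLarge
open CfsgLib.KnownA.U4ThreeSchur (GP)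

/-- A word of the cover number `0` of value a primitive scalar, a fifth power. -/
theorem scal_word : wordOK ((List.replicate 5 [0, 0, 0, 1, 1, 1]).flatten) scalM = true := by decide +kernel

theorem kWord_app {F : Type*} [Field F] [Fintype F] {ω : F} (hω : IsOmega ω) (hF : Fintype.card F = 4) :
    ∀ u w, kWord hω hF (u ++ w) = kWord hω hF u * kWord hω hF w
  | [], w => (one_mul _).symm
  | i :: u, w => by
    rw [List.cons_append, kWord, kWord, kWord_app hω hF u w, mul_assoc]

theorem gp_commutator [IsSimpleGroup GP] : commutator GP = ⊤ := by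
  refine ((inferInstance : (commutator GP).Normal).eq_bot_or_eq_top).resolve_left fun h => ?_
  have hc : Subgroup.center GP = ⊤ := eq_top_iff.2 fun a _ => Subgroup.mem_center_iff.2 fun b =>
    commutatorElement_eq_one_iff_mul_comm.1 ((Subgroup.mem_bot).1 (h ▸
      Subgroup.commutator_mem_commutator (Subgroup.mem_top b) (Subgroup.mem_top a)))
  obtain ⟨a, ha⟩ := three_dvd_GP
  have hmem : a ∈ Subgroup.center GP := hc ▸ Subgroup.mem_top a
  rw [center_GP, Subgroup.mem_bot] at hmem
  exact ha (by rw [hmem, one_mul])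

/-- The cover number `0` is perfect. -/
theorem commutator_K_zero [IsSimpleGroup GP] :
    commutator ↥(FiLarge.K 0) = ⊤ := by
  obtain ⟨π, hπ⟩ : ∃ π : ↥(FiLarge.K 0) →* Abelianization ↥(FiLarge.K 0), π = Abelianization.of := ⟨_, rfl⟩
  have hker : ∀ k, π k = 1 ↔ k ∈ commutator ↥(FiLarge.K 0) := fun k => by
    rw [hπ, ← MonoidHom.mem_ker, Abelianization.ker_of]
  have hscal : ∀ {k : ↥(FiLarge.K 0)}, (k : GS F4) ∈ (Scal : Subgroup (GS F4)) → π k ^ 3 = 1 := by
    intro k hk
    rw [← map_pow, show k ^ 3 = 1 from Subtype.ext ?_, map_one]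
    obtain ⟨a, ha⟩ := hk
    refine Subtype.ext (Subtype.ext ?_)
    push_cast
    show mat ((k : GS F4) ^ 3) = (1 : Matrix (Fin 6) (Fin 6) F4)
    rw [pow_succ, pow_two, mat_mul_gs, mat_mul_gs, ha, Matrix.smul_mul, Matrix.one_mul, smul_smul,
      Matrix.smul_mul, Matrix.one_mul, smul_smul]
    have ha0 : a ≠ 0 := by
      rintro rfl
      have := congrArg Matrix.det ha
      rw [zero_smul, Matrix.det_zero, show (mat (k : GS F4)).det = 1 from (k : GS F4).1.2] at this
      exact one_ne_zero this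
    rw [(by decide : ∀ a : F4, a ≠ 0 → a * a * a = 1) a ha0, one_smul]
  have hmap : ∀ k : ↥(FiLarge.K 0), ∃ d ∈ commutator ↥(FiLarge.K 0), ∃ s : ↥(FiLarge.K 0),
      (s : GS F4) ∈ (Scal : Subgroup (GS F4)) ∧ k = d * s := by
    intro k
    have h : (commutator ↥(FiLarge.K 0)).map (toGP isOmega_om card_F4 0) = ⊤ := by
      rw [commutator_def, Subgroup.map_commutator,
        Subgroup.map_top_of_surjective _ (toGP_surjective isOmega_om card_F4 0)]
      exact gp_commutator
    obtain ⟨d, hd, e⟩ : toGP isOmega_om card_F4 0 k ∈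
        (commutator ↥(FiLarge.K 0)).map (toGP isOmega_om card_F4 0) := h ▸ Subgroup.mem_top _
    refine ⟨d, hd, d⁻¹ * k, ?_, by rw [mul_inv_cancel_left]⟩
    have : d⁻¹ * k ∈ (toGP isOmega_om card_F4 0).ker := by
      rw [MonoidHom.mem_ker, map_mul, map_inv, e, inv_mul_cancel]
    rw [ker_toGP] at this
    exact this
  have hcube : ∀ k, π k ^ 3 = 1 := fun k => by
    obtain ⟨d, hd, s, hs, rfl⟩ := hmap k
    rw [map_mul, (hker d).2 hd, one_mul]
    exact hscal hs
  obtain ⟨w, hw⟩ : ∃ w : List ℕ → ↥(FiLarge.K 0), ∀ l, w l = ⟨kWord isOmega_om card_F4 l, kWord_mem _ _ l⟩ :=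
    ⟨_, fun _ => rfl⟩
  have happ : ∀ u v, w (u ++ v) = w u * w v := fun u v => by
    rw [hw, hw, hw]; exact Subtype.ext (kWord_app _ _ u v)
  obtain ⟨e, he⟩ : ∃ e, e = [0, 0, 0, 1, 1, 1] := ⟨([0, 0, 0, 1, 1, 1] : List ℕ), rfl⟩
  have hpe : π (w e) = 1 := by
    rw [he, show ([0, 0, 0, 1, 1, 1] : List ℕ) = [0] ++ [0] ++ [0] ++ ([1] ++ [1] ++ [1]) from rfl, happ,
      happ, happ, happ, happ]
    simp only [map_mul]
    rw [show π (w [0]) * π (w [0]) * π (w [0]) = π (w [0]) ^ 3 by rw [pow_succ, pow_two],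
      show π (w [1]) * π (w [1]) * π (w [1]) = π (w [1]) ^ 3 by rw [pow_succ, pow_two], hcube, hcube, one_mul]
  obtain ⟨σ, hσ⟩ : ∃ σ, σ = w (List.replicate 5 e).flatten := ⟨_, rfl⟩
  have hpσ : π σ = 1 := by
    rw [hσ, show (List.replicate 5 e).flatten = e ++ (e ++ (e ++ (e ++ (e ++ [])))) from rfl, happ, happ, happ,
      happ, List.append_nil]
    simp only [map_mul, hpe, one_mul]
  have hσm : mat (σ : GS F4) = om • (1 : Matrix (Fin 6) (Fin 6) F4) := by
    rw [hσ, hw, he]
    have h1 := kWord_real_of_ok isOmega_om card_F4 scal_word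
    refine h1.trans ?_
    ext r k
    show dec om (crd (colM scalM k) r) = _
    rw [scalM_entries r k, Matrix.smul_apply, Matrix.one_apply]
    split
    · rw [smul_eq_mul, mul_one]; decide +kernel
    · rw [smul_zero]; decide +kernel
  refine eq_top_iff.2 fun k _ => ?_
  obtain ⟨d, hd, s, hs, rfl⟩ := hmap k
  refine mul_mem hd ((hker s).1 ?_)
  obtain ⟨a, ha⟩ := hs
  have ha0 : a ≠ 0 := by
    rintro rfl
    have := congrArg Matrix.det ha
    rw [zero_smul, Matrix.det_zero, show (mat (s : GS F4)).det = 1 from (s : GS F4).1.2] at this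
    exact one_ne_zero this
  have hinj : ∀ {p q : ↥(FiLarge.K 0)}, mat (p : GS F4) = mat (q : GS F4) → p = q := fun h =>
    Subtype.ext (Subtype.ext (Subtype.ext h))
  rcases (by decide : ∀ a : F4, a ≠ 0 → a = 1 ∨ a = om ∨ a = om * om) a ha0 with rfl | rfl | rfl
  · rw [hinj (q := 1) (ha.trans (one_smul _ _)), map_one]
  · rw [hinj (q := σ) (ha.trans hσm.symm), hpσ]
  · have hs2 : s = σ * σ := hinj (by
      rw [ha]
      show _ = mat (σ : GS F4) * mat (σ : GS F4)
      rw [hσm, Matrix.smul_mul, Matrix.one_mul, smul_smul])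
    rw [hs2, map_mul, hpσ, one_mul]

variable {G : Type*} [Group G] [Finite G] {z : G} {Q : Subgroup (Subgroup.centralizer ({z} : Set G))}

/-- The centraliser of the subgroup of order three over the scalars. -/
theorem centralizer_scalar [IsSimpleGroup GP] [Q.Normal] (hF : Cfsg.IsOfLargeFischerTypeAt z Q) (c : Coord z Q)
    (hb : c.b = 0) (hconj : ∀ s ∈ Q, c.pr s = vdec om bigRep → IsConj z (s : G))
    (X : Subgroup (Subgroup.centralizer ({z} : Set G))) (hX : Nat.card X = 3) (hXQ : (X ⊔ Q).Normal) :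
    Cfsg.IsQuasisimple ↥(Subgroup.centralizer (X : Set (Subgroup.centralizer ({z} : Set G)))) ∧
      IsCyclic ↥(Subgroup.center ↥(Subgroup.centralizer (X : Set (Subgroup.centralizer ({z} : Set G))))) ∧
      Nat.card ↥(Subgroup.center ↥(Subgroup.centralizer (X : Set (Subgroup.centralizer ({z} : Set G))))) = 6 ∧
      Nonempty (↥(Subgroup.centralizer (X : Set (Subgroup.centralizer ({z} : Set G)))) ⧸
        Subgroup.center ↥(Subgroup.centralizer (X : Set (Subgroup.centralizer ({z} : Set G)))) ≃* GP) := by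
  haveI : Fact (Nat.Prime 2) := ⟨Nat.prime_two⟩
  obtain ⟨hP, hcard⟩ := pack_of_type hF
  obtain ⟨x₀, hXz, hx₀, hx3⟩ := exists_scalar_generator c (IsPGroup.of_card hcard) X hX hXQ
  obtain ⟨s₀, hs, hpr⟩ := c.pr_surj (vdec om bigRep)
  obtain ⟨g, hg⟩ := isConj_iff.1 (hconj s₀ hs hpr)
  obtain ⟨D, hDdef⟩ : ∃ D, D = Subgroup.centralizer (X : Set (Subgroup.centralizer ({z} : Set G))) := ⟨_, rfl⟩
  have hD : ∀ h, h ∈ D ↔ h * (x₀ : Subgroup.centralizer ({z} : Set G)) = x₀ * h := fun h => by
    rw [hDdef, hXz, Trans3.centralizer_zpowers, mem_centralizer_singleton_iff]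
  obtain ⟨hDM, hzD⟩ := central_mem_commutator c hb (inferInstance : Q.Normal) hP hcard s₀ hs hpr hg x₀ hx₀
    hx3 hD
  rw [← hDdef]
  obtain ⟨z₀, hz₀⟩ : ∃ z₀ : Subgroup.centralizer ({z} : Set G), z₀ = ⟨z, mem_centralizer_singleton_iff.2 rfl⟩ :=
    ⟨_, rfl⟩
  rw [← hz₀] at hzD
  have hzG : (z₀ : G) = z := by rw [hz₀]
  have hzmem : z₀ ∈ D := (hD _).2 (Subtype.ext (by
    push_cast; rw [hzG]
    exact (mem_centralizer_singleton_iff.1 (x₀ : Subgroup.centralizer ({z} : Set G)).2).symm))
  have hzP : PrAt c z 0 := by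
    obtain ⟨a, ha, e⟩ := hP.mem
    exact ⟨a, ha, e, (c.pr_eq_zero a ha).2 (Or.inr e)⟩
  have hax : ActAt c (((x₀ : Subgroup.centralizer ({z} : Set G))) : G) (c.act x₀) := ⟨x₀, rfl, rfl⟩
  obtain ⟨θ, hθdef⟩ : ∃ θ : ↥D →* ↥(FiLarge.K 0), ∀ d : ↥D, ActAt c ((d : Subgroup.centralizer ({z} : Set G)) : G) (θ d) := by
    refine ⟨(c.act.comp (Subgroup.inclusion hDM)).codRestrict _ fun d => ?_, fun d => ⟨_, rfl, rfl⟩⟩
    rw [← hb]
    exact c.range_act ▸ ⟨_, rfl⟩
  have hsurj : Function.Surjective θ := by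
    intro k
    obtain ⟨d, hd, hdx⟩ := exists_comm_lift (inferInstance : Q.Normal) x₀ hx₀ hx3 hzP hP.z_ne hP.z_mul_z
      (k := k) (by rw [hb]; exact k.2)
    refine ⟨⟨⟨d, mem_centralizer_singleton_iff.2 hd.comm_z⟩, (hD _).2 (Subtype.ext (by push_cast; exact hdx))⟩,
      Subtype.ext ((hθdef _).unique hd)⟩
  have hker : ∀ d : ↥D, θ d = 1 ↔ (d : Subgroup.centralizer ({z} : Set G)) = 1 ∨
      (d : Subgroup.centralizer ({z} : Set G)) = z₀ := by
    intro d
    constructor
    · intro h
      have h1 := hθdef d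
      rw [h] at h1
      obtain ⟨t, ht⟩ := exists_pr_of_mem (c := c) (ActAt.mem_Q (c := c) h1)
      have h2 := ht.conj hax inferInstance
      rw [hx₀, Matrix.smul_mulVec, Matrix.one_mulVec, show
        ((x₀ : Subgroup.centralizer ({z} : Set G)) : G) * ((d : Subgroup.centralizer ({z} : Set G)) : G) *
          ((x₀ : Subgroup.centralizer ({z} : Set G)) : G)⁻¹ = ((d : Subgroup.centralizer ({z} : Set G)) : G) from
        mul_inv_eq_iff_eq_mul.2 (by
          have := congrArg Subtype.val ((hD _).1 d.2); push_cast at this; exact this.symm)] at h2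
      obtain rfl : t = 0 := funext fun i => by
        have := congrFun (ht.unique h2) i
        simp only [Pi.smul_apply, smul_eq_mul] at this
        revert this
        show t i = om * t i → t i = 0
        generalize t i = p; revert p; decide
      rcases ht.zero with e | e
      · exact Or.inl (Subtype.ext (by push_cast; exact e))
      · exact Or.inr (Subtype.ext (by rw [hzG]; exact e))
    · intro h
      refine Subtype.ext ((hθdef d).unique (actAt_of_mem ?_))
      rcases h with e | e <;> rw [e]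
      · push_cast; exact one_mem _
      · rw [hzG]; exact hP.mem
  have hzker : θ ⟨z₀, hzmem⟩ = 1 := (hker _).2 (Or.inr rfl)
  have hzc : (⟨z₀, hzmem⟩ : ↥D) ∈ commutator ↥D := by
    rw [← Subgroup.map_subtype_commutator] at hzD
    obtain ⟨d, hd, e⟩ := hzD
    rwa [show (⟨z₀, hzmem⟩ : ↥D) = d from Subtype.ext e.symm]
  have hperf : commutator ↥D = ⊤ := by
    refine eq_top_iff.2 fun d _ => ?_
    have hmap : (commutator ↥D).map θ = ⊤ := by
      rw [commutator_def, Subgroup.map_commutator, Subgroup.map_top_of_surjective _ hsurj]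
      exact commutator_K_zero
    obtain ⟨e, he, heq⟩ : θ d ∈ (commutator ↥D).map θ := hmap ▸ Subgroup.mem_top _
    have hk : θ (e⁻¹ * d) = 1 := by rw [map_mul, map_inv, heq, inv_mul_cancel]
    have hmem : e⁻¹ * d ∈ commutator ↥D := by
      rcases (hker _).1 hk with h | h
      · rw [show e⁻¹ * d = 1 from Subtype.ext h]; exact one_mem _
      · rw [show e⁻¹ * d = ⟨z₀, hzmem⟩ from Subtype.ext h]; exact hzc
    have := mul_mem he hmem
    rwa [mul_inv_cancel_left] at this
  -- the centre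
  have hzcen : (⟨z₀, hzmem⟩ : ↥D) ∈ Subgroup.center ↥D := Subgroup.mem_center_iff.2 fun d =>
    Subtype.ext (Subtype.ext (by
      push_cast; rw [hzG]
      exact mem_centralizer_singleton_iff.1 (d : Subgroup.centralizer ({z} : Set G)).2))
  have hxD : (x₀ : Subgroup.centralizer ({z} : Set G)) ∈ D := (hD _).2 rfl
  have hxcen : (⟨x₀, hxD⟩ : ↥D) ∈ Subgroup.center ↥D :=
    Subgroup.mem_center_iff.2 fun d => Subtype.ext ((hD _).1 d.2)
  have hxθ : (θ ⟨x₀, hxD⟩ : GS F4) = c.act x₀ := (hθdef _).unique hax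
  obtain ⟨ψ, hψdef⟩ : ∃ ψ, ψ = (toGP isOmega_om card_F4 0).comp θ := ⟨_, rfl⟩
  have hψs : Function.Surjective ψ := hψdef ▸ (toGP_surjective isOmega_om card_F4 0).comp hsurj
  have hψk : ψ.ker = Subgroup.center ↥D := by
    refine le_antisymm (fun d hd => ?_) (fun d hd => ?_)
    · rw [hψdef, MonoidHom.mem_ker, MonoidHom.comp_apply, ← MonoidHom.mem_ker, ker_toGP] at hd
      obtain ⟨a, ha⟩ := hd
      replace ha : mat (θ d : GS F4) = a • (1 : Matrix (Fin 6) (Fin 6) F4) := ha
      have ha0 : a ≠ 0 := by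
        rintro rfl
        have := congrArg Matrix.det ha
        rw [zero_smul, Matrix.det_zero, show (mat (θ d : GS F4)).det = 1 from (θ d : GS F4).1.2] at this
        exact one_ne_zero this
      have key : ∀ e : ↥D, e ∈ Subgroup.center ↥D → mat (θ e : GS F4) = mat (θ d : GS F4) →
          d ∈ Subgroup.center ↥D := fun e he heq => by
        have h1 : θ (e⁻¹ * d) = 1 := by
          rw [map_mul, map_inv, show θ e = θ d from Subtype.ext (Subtype.ext (Subtype.ext heq)), inv_mul_cancel]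
        have h2 : e⁻¹ * d ∈ Subgroup.center ↥D := by
          rcases (hker _).1 h1 with h | h
          · rw [show e⁻¹ * d = 1 from Subtype.ext h]; exact one_mem _
          · rw [show e⁻¹ * d = ⟨z₀, hzmem⟩ from Subtype.ext h]; exact hzcen
        have := mul_mem he h2
        rwa [mul_inv_cancel_left] at this
      rcases (by decide : ∀ a : F4, a ≠ 0 → a = 1 ∨ a = om ∨ a = om * om) a ha0 with rfl | rfl | rfl
      · exact key 1 (one_mem _) (by rw [map_one, ha, one_smul]; rfl)
      · exact key _ hxcen (by rw [hxθ, hx₀, ha])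
      · refine key _ (mul_mem hxcen hxcen) ?_
        rw [map_mul]
        push_cast
        rw [mat_mul_gs, hxθ, hx₀, ha, Matrix.smul_mul, Matrix.one_mul, smul_smul]
    · rw [MonoidHom.mem_ker, ← Subgroup.mem_bot, ← center_GP, Subgroup.mem_center_iff]
      intro y
      obtain ⟨e, rfl⟩ := hψs y
      rw [← map_mul, ← map_mul, Subgroup.mem_center_iff.1 hd e]
  have iso : ↥D ⧸ Subgroup.center ↥D ≃* GP :=
    (QuotientGroup.quotientMulEquivOfEq hψk.symm).trans (QuotientGroup.quotientKerEquivOfSurjective ψ hψs)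
  -- the order of the centre
  have hcard6 : Nat.card ↥(Subgroup.center ↥D) = 6 := by
    have h1 : Nat.card θ.ker = 2 := by
      refine Nat.card_eq_two_iff.2 ⟨1, ⟨⟨z₀, hzmem⟩, hzker⟩, fun e => hP.z_ne ?_, ?_⟩
      · have := congrArg (fun w : θ.ker => (((w : ↥D) : Subgroup.centralizer ({z} : Set G)) : G)) e
        simpa [hzG] using this.symm
      · ext ⟨d, hd⟩
        simp only [Set.mem_insert_iff, Set.mem_singleton_iff, Set.mem_univ, iff_true]
        rcases (hker d).1 hd with h | h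
        · exact Or.inl (Subtype.ext (Subtype.ext h))
        · exact Or.inr (Subtype.ext (Subtype.ext h))
    have h2 : Nat.card ↥D = 2 * 9797760 := by
      have h := θ.ker.card_mul_index
      rw [h1, Subgroup.index, Nat.card_congr (QuotientGroup.quotientKerEquivOfSurjective θ hsurj).toEquiv] at h
      rw [← h, card_Kb]
    have h := (Subgroup.center ↥D).card_mul_index
    rw [Subgroup.index, Nat.card_congr iso.toEquiv, CfsgLib.KnownA.U4ThreeSchur.card_GP, h2] at h
    omega
  have hzo : orderOf (⟨⟨z₀, hzmem⟩, hzcen⟩ : Subgroup.center ↥D) = 2 := by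
    refine orderOf_eq_prime ?_ fun e => hP.z_ne ?_
    · refine Subtype.ext (Subtype.ext (Subtype.ext ?_))
      push_cast; rw [hzG, pow_two]; exact hP.z_mul_z
    · have := congrArg (fun w : Subgroup.center ↥D => (((w : ↥D) : Subgroup.centralizer ({z} : Set G)) : G)) e
      simpa [hzG] using this
  have hxo : orderOf (⟨⟨x₀, hxD⟩, hxcen⟩ : Subgroup.center ↥D) = 3 := by
    haveI : Fact (Nat.Prime 3) := ⟨Nat.prime_three⟩
    refine orderOf_eq_prime ?_ fun e => ?_
    · exact Subtype.ext (Subtype.ext (by push_cast; exact hx3))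
    · have h0 : (x₀ : Subgroup.centralizer ({z} : Set G)) = 1 :=
        congrArg (fun w : Subgroup.center ↥D => ((w : ↥D) : Subgroup.centralizer ({z} : Set G))) e
      rw [hXz, h0, zpowers_one_eq_bot, Subgroup.card_bot] at hX
      norm_num at hX
  have hsimple : IsSimpleGroup (↥D ⧸ Subgroup.center ↥D) := by
    haveI : Nontrivial (↥D ⧸ Subgroup.center ↥D) := iso.toEquiv.nontrivial
    exact IsSimpleGroup.isSimpleGroup_of_surjective iso.symm.toMonoidHom iso.symm.surjective
  refine ⟨⟨⟨hperf⟩, hsimple⟩, ?_, hcard6, ⟨iso⟩⟩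
  refine isCyclic_of_orderOf_eq_card
    ((⟨⟨z₀, hzmem⟩, hzcen⟩ : Subgroup.center ↥D) * ⟨⟨x₀, hxD⟩, hxcen⟩) ?_
  rw [Commute.orderOf_mul_eq_mul_orderOf_of_coprime ?_ (by rw [hzo, hxo]; decide), hzo, hxo, hcard6]
  exact Subtype.ext (Subgroup.mem_center_iff.1 hxcen _)

end CfsgLib.Trans3.FischerType
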