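import Cfsg.Agent.Lib.Trans3.FischerType.CenterFinal

/-!
The two statements from coordinates with the cover number `0`.
-/

set_option autoImplicit false

namespace CfsgLib.Trans3.FischerType

open Subgroup CfsgLib.Trans3.FiLarge
open CfsgLib.KnownA.U4ThreeSchur (GP)

variable {G : Type*} [Group G] [Finite G] {z : G} {Q : Subgroup (Subgroup.centralizer ({z} : Set G))}

/-- The statement on the local subgroup, given coordinates. -/
theorem elementary_eight_of_coord [Q.Normal] (hF : Cfsg.IsOfLargeFischerTypeAt z Q) (c : Coord z Q)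
    (hb : c.b = 0) (hconj : ∀ s ∈ Q, InBig c.b (c.pr s) → IsConj z (s : G)) :
    ∃ V : Subgroup G, Cfsg.IsElementaryAbelian 2 V ∧ Nat.card V = 8 ∧ z ∈ V ∧ ∃ R : Subgroup G,
      R = (Cfsg.pCore 2 ↥(Subgroup.normalizer (V : Set G))).map (Subgroup.normalizer (V : Set G)).subtype ∧
      Cfsg.IsSpecial 2 ↥R ∧ Nat.card R = 2 ^ 15 ∧ (Subgroup.center ↥R).map R.subtype = V ∧
      ∃ _ : (R.subgroupOf (Subgroup.normalizer (V : Set G))).Normal,
        Nonempty (↥(Subgroup.normalizer (V : Set G)) ⧸ R.subgroupOf (Subgroup.normalizer (V : Set G)) ≃*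
          Matrix.SpecialLinearGroup (Fin 3) (ZMod 2) × ↥(alternatingGroup (Fin 6))) :=
  elementary_eight_local hF c (v := CfsgLib.Chev.U43U6.vdec om bigRep) (hb.symm ▸ stabAt_bigRep)
    fun s hs e => hconj s hs ⟨1, one_mem _, by
      rw [mat_one_gs, Matrix.one_mulVec]; exact e.symm⟩

/-- The statement on the centraliser of the subgroup of order three, given coordinates. -/
theorem centralizer_three_of_coord [Q.Normal] (hF : Cfsg.IsOfLargeFischerTypeAt z Q) (c : Coord z Q)
    (hb : c.b = 0) (hconj : ∀ s ∈ Q, InBig c.b (c.pr s) → IsConj z (s : G))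
    (X : Subgroup (Subgroup.centralizer ({z} : Set G))) (hX : Nat.card X = 3) (hXQ : (X ⊔ Q).Normal) :
    Cfsg.IsQuasisimple ↥(Subgroup.centralizer (X : Set (Subgroup.centralizer ({z} : Set G)))) ∧
      IsCyclic ↥(Subgroup.center ↥(Subgroup.centralizer (X : Set (Subgroup.centralizer ({z} : Set G))))) ∧
      Nat.card ↥(Subgroup.center ↥(Subgroup.centralizer (X : Set (Subgroup.centralizer ({z} : Set G))))) = 6 ∧
      ∃ (K : Type) (_ : Field K) (_ : Fintype K), Fintype.card K = 9 ∧
        Nonempty (↥(Subgroup.centralizer (X : Set (Subgroup.centralizer ({z} : Set G)))) ⧸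
          Subgroup.center ↥(Subgroup.centralizer (X : Set (Subgroup.centralizer ({z} : Set G)))) ≃*
            Cfsg.PSU 4 K 3) := by
  obtain ⟨-, N, M, hN, -, -, -, -, ⟨K, fK, fintK, hK, -⟩, -⟩ := id hF
  obtain ⟨e⟩ := CfsgLib.KnownA.U4ThreeSchur.exists_equiv (F := K) hK
  haveI : IsSimpleGroup (Cfsg.PSU 4 K 3) :=
    CfsgLib.Classical.isSimpleGroup_psu (q := 3) (by rw [hK]; norm_num) (n := 4) (by norm_num) (by omega)
  haveI : IsSimpleGroup GP := by
    haveI : Nontrivial GP := e.toEquiv.nontrivial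
    exact IsSimpleGroup.isSimpleGroup_of_surjective e.symm.toMonoidHom e.symm.surjective
  obtain ⟨h1, h2, h3, ⟨i⟩⟩ := centralizer_scalar hF c hb (fun s hs e => hconj s hs ⟨1, one_mem _, by
    rw [mat_one_gs, Matrix.one_mulVec]; exact e.symm⟩) X hX hXQ
  exact ⟨h1, h2, h3, K, fK, fintK, hK, ⟨i.trans e⟩⟩

end CfsgLib.Trans3.FischerType
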