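import Cfsg.Agent.Lib.Trans3.FischerType.CenterX

/-!
The involution is a commutator in the centraliser of the scalar: the normaliser of the elementary group of
order eight moves a commutator relation at the point to one seen by the centraliser.
-/

set_option autoImplicit false
set_option linter.unusedSectionVars false
set_option maxHeartbeats 1000000

namespace CfsgLib.Trans3.FischerType

open scoped commutatorElement
open Subgroup Matrix CfsgLib.Chev.U43U6 CfsgLib.Trans3.FiLarge CfsgLib.PLocal.LargeExtra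

theorem f4_sq_sum : (om * om : F4) = 1 + om := by decide

theorem f4_ortho (u v : V6) (a : F4) (h : herm6 u v = 0) : herm6 u (a • v) = 0 := by
  rw [f4_smul_right, h, mul_zero]

theorem fix_calc {G : Type*} [Group G] {a p q : G} (h1 : p * a = a * p) (h2 : q * a = a * q) :
    p * a * (q * a) * a = a * (p * a) * (q * a) := by
  calc p * a * (q * a) * a = p * a * (a * q) * a := by rw [h2]
    _ = p * a * a * (q * a) := by group
    _ = a * p * a * (q * a) := by rw [h1]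
    _ = _ := by group

theorem mul_calc {G : Type*} [Group G] {a q : G} (h2 : q * a = a * q) (p : G) :
    a * (p * a) * (q * a) = a * (p * q * (a * a)) := by
  calc a * (p * a) * (q * a) = a * (p * (a * q)) * a := by group
    _ = a * (p * (q * a)) * a := by rw [h2]
    _ = _ := by group

variable {G : Type*} [Group G] [Finite G] {z : G} {Q : Subgroup (Subgroup.centralizer ({z} : Set G))}

/-- The centraliser of the scalar lies in `M` and `z` lies in its commutator subgroup. -/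
theorem central_mem_commutator (c : Coord z Q) (hb : c.b = 0) (hQ : Q.Normal)
    (hP : Pack (Q.map (centralizer ({z} : Set G)).subtype) z) (hcard : Nat.card Q = 2 ^ 13)
    (s₀ : Subgroup.centralizer ({z} : Set G)) (hs : s₀ ∈ Q) (hpr : c.pr s₀ = vdec om bigRep) {g : G}
    (hg : g * z * g⁻¹ = (s₀ : G)) (x₀ : c.M)
    (hx₀ : mat (c.act x₀) = om • (1 : Matrix (Fin 6) (Fin 6) F4))
    (hx3 : (x₀ : Subgroup.centralizer ({z} : Set G)) ^ 3 = 1)
    {D : Subgroup (Subgroup.centralizer ({z} : Set G))}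
    (hD : ∀ h, h ∈ D ↔ h * (x₀ : Subgroup.centralizer ({z} : Set G)) = x₀ * h) :
    D ≤ c.M ∧ (⟨z, mem_centralizer_singleton_iff.2 rfl⟩ : Subgroup.centralizer ({z} : Set G)) ∈ ⁅D, D⁆ := by
  haveI : Fact (Nat.Prime 2) := ⟨Nat.prime_two⟩
  obtain ⟨v, hv⟩ : ∃ v, v = vdec om bigRep := ⟨_, rfl⟩
  rw [← hv] at hpr
  have hst : StabAt c.b v := hb ▸ hv ▸ stabAt_bigRep
  obtain ⟨x, hx⟩ : ∃ x, x = ((x₀ : Subgroup.centralizer ({z} : Set G)) : G) := ⟨_, rfl⟩
  obtain ⟨s, hsd⟩ : ∃ s, s = (s₀ : G) := ⟨_, rfl⟩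
  have d := pointFacts_of_scalar c hP hcard hst s₀ hs hpr hg x₀ hx₀
  rw [← hx, ← hsd] at d
  obtain ⟨S, R, t⟩ := d.exists_data
  obtain ⟨y, hyd⟩ : ∃ y, y = x * s * x⁻¹ := ⟨_, rfl⟩
  rw [← hyd] at t
  obtain ⟨V, hVd⟩ : ∃ V, V = closure (Set.range ![z, s, y]) := ⟨_, rfl⟩
  have hne : v ≠ 0 := hst.ne
  have hax : ActAt c x (c.act x₀) := ⟨x₀, hx.symm, rfl⟩
  have hxz : x * z = z * x := hax.comm_z
  have hxcube : x * x * x = 1 := by
    have := congrArg Subtype.val hx3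
    push_cast at this
    rw [hx, ← this, pow_succ, pow_two]
  have hz2 : z * z = 1 := hP.z_mul_z
  have hzP : PrAt c z 0 := by
    obtain ⟨a, ha, e⟩ := hP.mem
    exact ⟨a, ha, e, (c.pr_eq_zero a ha).2 (Or.inr e)⟩
  have hsP : PrAt c s v := ⟨s₀, hs, hsd.symm, hpr⟩
  have hxmul : ∀ t : V6, mat (c.act x₀) *ᵥ t = om • t := fun t => by
    rw [hx₀, Matrix.smul_mulVec, Matrix.one_mulVec]
  have hyP : PrAt c y (om • v) := by
    rw [hyd, ← hxmul]; exact hsP.conj hax hQ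
  have hV : z ∈ V ∧ s ∈ V ∧ y ∈ V :=
    ⟨hVd ▸ subset_closure ⟨0, rfl⟩, hVd ▸ subset_closure ⟨1, rfl⟩, hVd ▸ subset_closure ⟨2, rfl⟩⟩
  have hVc : ∀ {a b : G}, a ∈ V → b ∈ V → a * b = b * a := fun {a b} ha hb =>
    congrArg Subtype.val (t.tri.elementary.1.1.1 (⟨a, hVd ▸ ha⟩ : ↥(closure (Set.range ![z, s, y])))
      ⟨b, hVd ▸ hb⟩)
  have hV2 : ∀ {a : G}, a ∈ V → a * a = 1 := fun {a} ha => by
    rw [← pow_two]; exact t.tri.elementary.2 a (hVd ▸ ha)
  have hVQ : ∀ {a : G}, a ∈ V → a ∈ Q.map (centralizer ({z} : Set G)).subtype := fun {a} ha => by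
    have := t.tri.le_pack 0 (hVd ▸ ha)
    exact this
  have hVR : ∀ {a : G}, a ∈ V → a ∈ R := fun {a} ha => t.V_le_R (hVd ▸ ha)
  have hRV : ∀ {r a : G}, r ∈ R → a ∈ V → a * r = r * a := fun {r a} hr ha => t.R_comm_V hr (hVd ▸ ha)
  have hRC : ∀ {r : G}, r ∈ R → r ∈ centralizer (V : Set G) := fun {r} hr => hVd ▸ t.R_le hr
  have hCmem : ∀ w : G, w * z = z * w → w * s = s * w → w * y = y * w → w ∈ centralizer (V : Set G) :=
    fun w h1 h2 h3 => mem_centralizer_iff.2 fun u hu => by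
      have hle : V ≤ centralizer ({w} : Set G) := by
        rw [hVd, closure_le]
        rintro _ ⟨i, rfl⟩
        fin_cases i
        exacts [mem_centralizer_singleton_iff.2 h1.symm, mem_centralizer_singleton_iff.2 h2.symm,
          mem_centralizer_singleton_iff.2 h3.symm]
      exact mem_centralizer_singleton_iff.1 (hle hu)
  -- the element outside `M` inverting the scalar
  obtain ⟨l₁, hl₁T, hl₁y, hl₁k⟩ := t.tri.exists_elementary 1 2 (by decide)
  have hl₁z : l₁ * z * l₁⁻¹ = z := hl₁k 0 (by decide)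
  have hl₁s : l₁ * s * l₁⁻¹ = s := hl₁k 1 (by decide)
  have hl₁y' : l₁ * y * l₁⁻¹ = s * y := hl₁y
  obtain ⟨l₀, hl₀⟩ : ∃ l₀ : Subgroup.centralizer ({z} : Set G), (l₀ : G) = l₁ :=
    ⟨⟨l₁, mem_centralizer_singleton_iff.2 (mul_inv_eq_iff_eq_mul.1 hl₁z)⟩, rfl⟩
  have hDM : D ≤ c.M := by
    intro h hh
    refine mem_M_of_comm hQ x₀ hx₀ (l := l₀) hs (by rw [hpr]; exact hne) ?_ ?_ h ((hD h).1 hh)
    · refine congrArg c.pr (Subtype.ext ?_)
      push_cast
      rw [hl₀, ← hsd, hl₁s]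
    · intro r hr hrp
      have hrP : PrAt c (r : G) (om • v) := ⟨r, hr, rfl, by rw [hrp, hpr]⟩
      have hconj : PrAt c (l₁ * r * l₁⁻¹) (c.pr (l₀ * r * l₀⁻¹)) :=
        ⟨_, hQ.conj_mem r hr l₀, by push_cast; rw [hl₀], rfl⟩
      rw [hrp, hpr]
      rcases hrP.cases hyP with e | e
      · rw [e, hl₁y'] at hconj
        rw [hconj.unique (hsP.mul hyP), add_comm]
      · rw [e, show l₁ * (z * y) * l₁⁻¹ = l₁ * z * l₁⁻¹ * (l₁ * y * l₁⁻¹) by group, hl₁z, hl₁y'] at hconj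
        rw [hconj.unique (hzP.mul (hsP.mul hyP)), zero_add, add_comm]
  refine ⟨hDM, ?_⟩
  -- elements of `C(V)` act on the point as the stabiliser
  have hMofC : ∀ {w : G}, w ∈ centralizer (V : Set G) →
      ∃ k, ActAt c w k ∧ k ∈ FiLarge.K c.b ∧ mat k *ᵥ v = v := by
    intro w hw
    have hwz : w * z = z * w := (mem_centralizer_iff.1 hw z hV.1).symm
    obtain ⟨w₀, hw₀⟩ : ∃ w₀ : Subgroup.centralizer ({z} : Set G), (w₀ : G) = w :=
      ⟨⟨w, mem_centralizer_singleton_iff.2 hwz⟩, rfl⟩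
    have hwM : w₀ ∈ c.M := by
      by_contra hwM
      have hl : l₀ ∉ c.M := fun hl => by
        have h1 := hsP.conj (k := c.act ⟨l₀, hl⟩) ⟨⟨l₀, hl⟩, hl₀, rfl⟩ hQ
        have h2 := hyP.conj (k := c.act ⟨l₀, hl⟩) ⟨⟨l₀, hl⟩, hl₀, rfl⟩ hQ
        rw [hl₁s] at h1
        rw [hl₁y', Matrix.mulVec_smul, h1.unique hsP] at h2
        exact hne (add_eq_right.1 ((hsP.mul hyP).unique h2))
      have hm : l₀ * w₀ ∈ c.M := (Subgroup.mul_mem_iff_of_index_two c.index_M).2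
        ⟨fun h' => absurd h' hl, fun h' => absurd h' hwM⟩
      have hk : ActAt c (l₁ * w) (c.act ⟨l₀ * w₀, hm⟩) :=
        ⟨⟨l₀ * w₀, hm⟩, by push_cast; rw [hl₀, hw₀], rfl⟩
      have h1 := hsP.conj hk hQ
      have h2 := hyP.conj hk hQ
      rw [show l₁ * w * s * (l₁ * w)⁻¹ = l₁ * (w * s * w⁻¹) * l₁⁻¹ by group,
        mul_inv_eq_iff_eq_mul.2 (mem_centralizer_iff.1 hw s hV.2.1).symm, hl₁s] at h1
      rw [show l₁ * w * y * (l₁ * w)⁻¹ = l₁ * (w * y * w⁻¹) * l₁⁻¹ by group,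
        mul_inv_eq_iff_eq_mul.2 (mem_centralizer_iff.1 hw y hV.2.2).symm, hl₁y', Matrix.mulVec_smul,
        h1.unique hsP] at h2
      exact hne (add_eq_right.1 ((hsP.mul hyP).unique h2))
    obtain ⟨k, hk⟩ : ∃ k, ActAt c w k := ⟨_, ⟨w₀, hwM⟩, hw₀, rfl⟩
    refine ⟨k, hk, hk.mem_K, ?_⟩
    have h := hsP.conj hk hQ
    rw [mul_inv_eq_iff_eq_mul.2 (mem_centralizer_iff.1 hw s hV.2.1).symm] at h
    exact h.unique hsP
  -- lifts in `D` of elements fixing the point centralise `V`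
  have hlift : ∀ {k : GS F4}, k ∈ FiLarge.K c.b → mat k *ᵥ v = v →
      ∃ w : G, ActAt c w k ∧ w * x = x * w ∧ w ∈ centralizer (V : Set G) := by
    intro k hk hkv
    obtain ⟨w, hw, hwx⟩ := exists_comm_lift hQ x₀ hx₀ hx3 hzP hP.z_ne hz2 hk
    rw [← hx] at hwx
    refine ⟨w, hw, hwx, ?_⟩
    have hwz : w * z = z * w := hw.comm_z
    have h1 := hsP.conj hw hQ
    rw [hkv] at h1
    have hy' : w * y * w⁻¹ = x * (w * s * w⁻¹) * x⁻¹ := by
      rw [hyd, show w * (x * s * x⁻¹) * w⁻¹ = w * x * s * (w * x)⁻¹ by group, hwx]; group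
    rcases h1.cases hsP with e | e
    · refine hCmem w hwz (mul_inv_eq_iff_eq_mul.1 e) (mul_inv_eq_iff_eq_mul.1 ?_)
      rw [hy', e, ← hyd]
    · exfalso
      -- `w` would move all three conjugates of `s` under `x`
      have e2 : w * y * w⁻¹ = z * y := by
        rw [hy', e, show x * (z * s) * x⁻¹ = x * z * x⁻¹ * (x * s * x⁻¹) by group,
          mul_inv_eq_iff_eq_mul.2 hxz, ← hyd]
      have e3 : w * (x * y * x⁻¹) * w⁻¹ = z * (x * y * x⁻¹) := by
        rw [show w * (x * y * x⁻¹) * w⁻¹ = w * x * y * (w * x)⁻¹ by group, hwx,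
          show x * w * y * (x * w)⁻¹ = x * (w * y * w⁻¹) * x⁻¹ by group, e2,
          show x * (z * y) * x⁻¹ = x * z * x⁻¹ * (x * y * x⁻¹) by group, mul_inv_eq_iff_eq_mul.2 hxz]
      have hy2 : PrAt c (x * y * x⁻¹) (v + om • v) := by
        have := hyP.conj hax hQ
        rw [hxmul, smul_smul, f4_sq_sum, add_smul, one_smul] at this
        exact this
      rcases hy2.cases (hsP.mul hyP) with e4 | e4 <;> rw [e4] at e3
      · rw [show w * (s * y) * w⁻¹ = w * s * w⁻¹ * (w * y * w⁻¹) by group, e, e2] at e3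
        have : z * s * (z * y) = s * y := by
          rw [show z * s * (z * y) = z * (s * z) * y by group, hVc hV.2.1 hV.1,
            show z * (z * s) * y = z * z * (s * y) by group, hz2, one_mul]
        rw [this] at e3
        exact hP.z_ne (mul_eq_right.1 e3.symm)
      · rw [show w * (z * (s * y)) * w⁻¹ = w * z * w⁻¹ * (w * s * w⁻¹ * (w * y * w⁻¹)) by group, e, e2,
          mul_inv_eq_iff_eq_mul.2 hwz] at e3
        have : z * s * (z * y) = s * y := by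
          rw [show z * s * (z * y) = z * (s * z) * y by group, hVc hV.2.1 hV.1,
            show z * (z * s) * y = z * z * (s * y) by group, hz2, one_mul]
        rw [this, ← mul_assoc z z, hz2, one_mul] at e3
        exact hP.z_ne (mul_eq_right.1 e3)
  -- the image of `R`
  obtain ⟨Mv, hMv⟩ : ∃ Mv : Subgroup (GS F4), ∀ k, k ∈ Mv ↔ ∃ r ∈ R, ActAt c r k := by
    refine ⟨{ carrier := {k | ∃ r ∈ R, ActAt c r k}, mul_mem' := ?_, one_mem' := ?_, inv_mem' := ?_ },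
      fun k => Iff.rfl⟩
    · rintro a b ⟨r, hr, ha⟩ ⟨r', hr', hb'⟩
      exact ⟨r * r', mul_mem hr hr', ha.mul hb'⟩
    · exact ⟨1, one_mem _, actAt_of_mem (one_mem _)⟩
    · rintro a ⟨r, hr, ha⟩
      exact ⟨r⁻¹, inv_mem hr, ha.inv⟩
  have hRN : ∀ {r : G} {k : GS F4}, r ∈ R → ActAt c r k → k ∈ Nsub isOmega_om card_F4 := by
    intro r k hr hk
    refine le_Nsub isOmega_om card_F4 ?_ ?_ ?_ ((hMv k).2 ⟨r, hr, hk⟩)
    · intro k hk
      obtain ⟨r, hr, hk⟩ := (hMv k).1 hk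
      obtain ⟨k', hk', hK, hv'⟩ := hMofC (hRC hr)
      obtain rfl := hk.unique hk'
      rw [hb] at hK
      rw [hv] at hv'
      exact ⟨hK, hv'⟩
    · intro k
      obtain ⟨r, hr, hk⟩ := (hMv k).1 k.2
      obtain ⟨n, hn⟩ := t.pGroup_R ⟨r, hr⟩
      refine ⟨n, Subtype.ext ?_⟩
      have hp : ∀ j : ℕ, ActAt c (r ^ j) ((k : GS F4) ^ j) := fun j => by
        induction j with
        | zero => rw [pow_zero, pow_zero]; exact actAt_of_mem (one_mem _)
        | succ j ih => rw [pow_succ, pow_succ]; exact ih.mul hk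
      have := hp (2 ^ n)
      rw [show r ^ 2 ^ n = 1 from congrArg Subtype.val hn] at this
      exact this.unique (actAt_of_mem (one_mem _))
    · intro k hk n hn
      obtain ⟨r, hr, hn⟩ := (hMv n).1 hn
      obtain ⟨w, hw, -, hwV⟩ := hlift (k := k) (by rw [hb]; exact hk.1) (by rw [hv]; exact hk.2)
      exact (hMv _).2 ⟨w * r * w⁻¹, t.R_normal (TriData.C_le_L (hVd ▸ hwV)) hr, (hw.mul hn).mul hw.inv⟩
  -- elements of `Q` over vectors moved only along `v`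
  have hsmall : ∀ {a : G} {w : V6}, PrAt c a w → herm6 w v = 0 →
      (∀ n ∈ Nsub isOmega_om card_F4, mat n *ᵥ w = w ∨ mat n *ᵥ w = w + v) →
      a ∈ R ∧ ∀ r ∈ R, r * a * r⁻¹ * a⁻¹ = 1 ∨ r * a * r⁻¹ * a⁻¹ = z ∨
        r * a * r⁻¹ * a⁻¹ = s ∨ r * a * r⁻¹ * a⁻¹ = z * s := by
    intro a w ha hort hmov
    have haV : a ∈ centralizer (V : Set G) := hCmem a (hP.comm_z ha.mem) (ha.comm hsP hort)
      (ha.comm hyP (f4_ortho _ _ _ hort))
    refine ⟨t.P_inf_le 0 ⟨ha.mem, hVd ▸ haV⟩, fun r hr => ?_⟩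
    obtain ⟨k, hk, -, -⟩ := hMofC (hRC hr)
    have h := (ha.conj hk hQ).mul ha.inv
    rcases hmov k (hRN hr hk) with e | e <;> rw [e] at h
    · rw [v6_add_self] at h
      rcases h.zero with e | e
      exacts [Or.inl e, Or.inr (Or.inl e)]
    · rw [show w + v + w = v by rw [add_comm w v, add_assoc, v6_add_self, add_zero]] at h
      rcases h.cases hsP with e | e
      exacts [Or.inr (Or.inr (Or.inl e)), Or.inr (Or.inr (Or.inr e))]
  obtain ⟨g₁, g₂, w₁, w₂, hg₁, hg₂, ho₁, ho₂, hm₁, hm₂, hsum⟩ := exists_witness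
  rw [← hv] at hg₁ hg₂ ho₁ ho₂ hm₁ hm₂ hsum
  rw [← hb] at hg₁ hg₂
  obtain ⟨c₁, hc₁, -, hc₁V⟩ := hlift hg₁.1 hg₁.2
  obtain ⟨c₂, hc₂, -, hc₂V⟩ := hlift hg₂.1 hg₂.2
  obtain ⟨a₁, ha₁⟩ := PrAt.exists_elt c w₁
  obtain ⟨a₂, ha₂⟩ := PrAt.exists_elt c w₂
  obtain ⟨hR₁, hcom₁⟩ := hsmall ha₁ ho₁ hm₁
  obtain ⟨hR₂, hcom₂⟩ := hsmall ha₂ ho₂ hm₂
  obtain ⟨P, hPd⟩ : ∃ P, P = c₁ * a₁ * c₁⁻¹ * a₁⁻¹ * (c₂ * a₂ * c₂⁻¹ * a₂⁻¹) := ⟨_, rfl⟩
  have hPv : PrAt c P ((om * om) • v) :=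
    hPd ▸ hsum ▸ ((ha₁.conj hc₁ hQ).mul ha₁.inv).mul ((ha₂.conj hc₂ hQ).mul ha₂.inv)
  -- the conjugates
  obtain ⟨u, hu⟩ : ∃ u, u = y * s := ⟨_, rfl⟩
  obtain ⟨u', hu'⟩ : ∃ u', u' = x * u * x⁻¹ := ⟨_, rfl⟩
  have hxL : x ∈ normalizer (V : Set G) := by
    have := d.xnorm
    rw [← hyd, ← hVd] at this
    exact this
  have huV : u ∈ V := hu ▸ mul_mem hV.2.2 hV.2.1
  have hu'V : u' ∈ V := hu' ▸ (mem_normalizer_iff.1 hxL u).1 huV
  have hu'' : u' = s ∨ u' = z * s := by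
    refine PrAt.cases ?_ hsP
    have h := ((hyP.mul hsP).conj hax hQ)
    rw [← hu, ← hu', hxmul, smul_add, smul_smul] at h
    rwa [show (om * om) • v + om • v = v by
      rw [f4_sq_sum, add_smul, one_smul, add_assoc, v6_add_self, add_zero]] at h
  -- the element moving `{z, s}` to `{u, u'}`
  obtain ⟨l, hlL, hlz, hls⟩ : ∃ l : G, l ∈ normalizer (V : Set G) ∧ l * z * l⁻¹ = u ∧ l * s * l⁻¹ = u' := by
    have hstep : ∀ i j : Fin 3, i ≠ j → ∃ q ∈ normalizer (V : Set G),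
        q * ![z, s, y] j * q⁻¹ = ![z, s, y] i * ![z, s, y] j ∧
        ∀ k, k ≠ j → q * ![z, s, y] k * q⁻¹ = ![z, s, y] k := fun i j hij => by
      obtain ⟨q, hq, h1, h2⟩ := t.tri.exists_elementary i j hij
      exact ⟨q, hVd ▸ t.tri.pack_le_normalizer i hq, h1, h2⟩
    obtain ⟨p20, m20, e20, f20⟩ := hstep 2 0 (by decide)
    obtain ⟨p02, m02, e02, f02⟩ := hstep 0 2 (by decide)
    obtain ⟨p12, m12, e12, f12⟩ := hstep 1 2 (by decide)
    obtain ⟨p01, m01, e01, f01⟩ := hstep 0 1 (by decide)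
    have a20 : p20 * z * p20⁻¹ = y * z := e20
    have b20 : p20 * s * p20⁻¹ = s := f20 1 (by decide)
    have a12 : p12 * y * p12⁻¹ = s * y := e12
    have b12 : p12 * s * p12⁻¹ = s := f12 1 (by decide)
    have c12 : p12 * z * p12⁻¹ = z := f12 0 (by decide)
    have a02 : p02 * y * p02⁻¹ = z * y := e02
    have b02 : p02 * s * p02⁻¹ = s := f02 1 (by decide)
    have c02 : p02 * z * p02⁻¹ = z := f02 0 (by decide)
    have a01 : p01 * s * p01⁻¹ = z * s := e01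
    have b01 : p01 * z * p01⁻¹ = z := f01 0 (by decide)
    have c01 : p01 * y * p01⁻¹ = y := f01 2 (by decide)
    have cj : ∀ p a b : G, p * (a * b) * p⁻¹ = p * a * p⁻¹ * (p * b * p⁻¹) := fun p a b => by group
    have cc : ∀ p q a : G, p * q * a * (p * q)⁻¹ = p * (q * a * q⁻¹) * p⁻¹ := fun p q a => by group
    rcases hu'' with e | e
    · refine ⟨p12 * (p02 * p20), mul_mem m12 (mul_mem m02 m20), ?_, ?_⟩
      · rw [cc, cc, a20, cj p02, a02, c02, hVc hV.1 hV.2.2, mul_assoc y z z, hz2, mul_one, a12, hu,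
          hVc hV.2.2 hV.2.1]
      · rw [cc, cc, b20, b02, b12, e]
    · refine ⟨p01 * (p12 * p20), mul_mem m01 (mul_mem m12 m20), ?_, ?_⟩
      · rw [cc, cc, a20, cj p12, a12, c12, cj p01, cj p01, a01, c01, b01, hu]
        rw [show z * s * y * z = z * (s * y * z) by group, hVc (mul_mem hV.2.1 hV.2.2) hV.1, ← mul_assoc,
          hz2, one_mul, hVc hV.2.2 hV.2.1]
      · rw [cc, cc, b20, b12, a01, e]
  -- the four elements and their closure properties
  obtain ⟨H, hH⟩ : ∃ H, H = closure ({u, u'} : Set G) := ⟨_, rfl⟩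
  have hHV : H ≤ V := by
    rw [hH, closure_le]
    rintro _ (rfl | rfl)
    exacts [huV, hu'V]
  have hHl : ∀ {w : G}, w = 1 ∨ w = z ∨ w = s ∨ w = z * s → l * w * l⁻¹ ∈ H := by
    intro w hw
    rw [hH]
    rcases hw with rfl | rfl | rfl | rfl
    · rw [mul_one, mul_inv_cancel]; exact one_mem _
    · rw [hlz]; exact subset_closure (by simp)
    · rw [hls]; exact subset_closure (by simp)
    · rw [show l * (z * s) * l⁻¹ = l * z * l⁻¹ * (l * s * l⁻¹) by group, hlz, hls]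
      exact mul_mem (subset_closure (by simp)) (subset_closure (by simp))
  have hzH : z ∉ H := by
    intro h
    have h2 : u * u' = u' * u := hVc huV hu'V
    rw [hH] at h
    have hu2 := hV2 huV
    have hu2' := hV2 hu'V
    have hpu : PrAt c u (om • v + v) := hu ▸ hyP.mul hsP
    have hpu' : PrAt c u' (om • (om • v + v)) := by rw [hu', ← hxmul]; exact hpu.conj hax hQ
    obtain ⟨i, hi⟩ : ∃ i, v i ≠ 0 := by
      by_contra hn; push Not at hn; exact hne (funext hn)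
    rcases (mem_four hu2 hu2' h2.symm).1 h with e | e | e | e
    · exact hP.z_ne e
    · rw [← e] at hpu
      have := congrFun (hzP.unique hpu) i
      simp only [Pi.zero_apply, Pi.add_apply, Pi.smul_apply, smul_eq_mul] at this
      revert this hi; generalize v i = p; revert p; decide
    · rw [← e] at hpu'
      have := congrFun (hzP.unique hpu') i
      simp only [Pi.zero_apply, Pi.add_apply, Pi.smul_apply, smul_eq_mul] at this
      revert this hi; generalize v i = p; revert p; decide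
    · have h3 := hpu.mul hpu'
      rw [← e] at h3
      have := congrFun (hzP.unique h3) i
      simp only [Pi.zero_apply, Pi.add_apply, Pi.smul_apply, smul_eq_mul] at this
      revert this hi; generalize v i = p; revert p; decide
  have hback : ∀ {w : G}, w ∈ H → l⁻¹ * w * l ∈ closure ({z, s} : Set G) := by
    intro w hw
    have hle : H ≤ (closure ({z, s} : Set G)).map (MulAut.conj l).toMonoidHom := by
      rw [hH, closure_le]
      rintro _ (rfl | rfl)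
      exacts [⟨z, subset_closure (by simp), hlz⟩, ⟨s, subset_closure (by simp), hls⟩]
    obtain ⟨w', hw', rfl⟩ := hle hw
    rw [show l⁻¹ * (MulAut.conj l).toMonoidHom w' * l = l⁻¹ * (l * w' * l⁻¹) * l from rfl,
      show l⁻¹ * (l * w' * l⁻¹) * l = w' by group]
    exact hw'
  have hlR : ∀ {r : G}, r ∈ R → l * r * l⁻¹ ∈ R := fun hr => t.R_normal (hVd ▸ hlL) hr
  have hlR' : ∀ {r : G}, r ∈ R → l⁻¹ * r * l ∈ R := fun {r} hr => by
    simpa using t.R_normal (inv_mem (hVd ▸ hlL)) hr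
  have hxR : ∀ {r : G}, r ∈ R → x * r * x⁻¹ ∈ R := fun hr => t.R_normal (hVd ▸ hxL) hr
  have hxR' : ∀ {r : G}, r ∈ R → x⁻¹ * r * x ∈ R := fun {r} hr => by
    simpa using t.R_normal (inv_mem (hVd ▸ hxL)) hr
  have hxH : ∀ {w : G}, w ∈ H → x * w * x⁻¹ ∈ H := by
    intro w hw
    have hle : H.map (MulAut.conj x).toMonoidHom ≤ H := by
      rw [hH, MonoidHom.map_closure, closure_le]
      rintro _ ⟨w', (hw' | hw'), rfl⟩ <;> rw [hw']
      · show x * _ * x⁻¹ ∈ _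
        rw [← hu']; exact subset_closure (by simp)
      · show x * _ * x⁻¹ ∈ _
        -- the cube of `x` is one
        have e : x * u' * x⁻¹ = u * u' := by
          have hy3 : x * (x * y * x⁻¹) * x⁻¹ = s := by
            rw [hyd, show x * (x * (x * s * x⁻¹) * x⁻¹) * x⁻¹ = x * x * x * s * (x * x * x)⁻¹ by group, hxcube]
            group
          obtain ⟨y', hy'⟩ : ∃ y', y' = x * y * x⁻¹ := ⟨_, rfl⟩
          have hy'V : y' ∈ V := hy' ▸ (mem_normalizer_iff.1 hxL y).1 hV.2.2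
          have hu'e : u' = y' * y := by
            rw [hu', hu, hy', hyd]; group
          rw [hu'e, show x * (y' * y) * x⁻¹ = x * y' * x⁻¹ * (x * y * x⁻¹) by group, ← hy', show x * y' * x⁻¹ = s by
            rw [hy']; exact hy3, hu, hVc hy'V hV.2.2, show y * s * (y * y') = y * (s * y) * y' by group,
            hVc hV.2.1 hV.2.2, ← mul_assoc y y, hV2 hV.2.2, one_mul]
        rw [e]
        exact mul_mem (subset_closure (by simp)) (subset_closure (by simp))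
    exact hle ⟨w, hw, rfl⟩
  -- commutators of a moved element with `R`
  have hmoved : ∀ {a : G}, a ∈ R →
      (∀ r ∈ R, r * a * r⁻¹ * a⁻¹ = 1 ∨ r * a * r⁻¹ * a⁻¹ = z ∨
        r * a * r⁻¹ * a⁻¹ = s ∨ r * a * r⁻¹ * a⁻¹ = z * s) →
      ∀ r ∈ R, r * (l * a * l⁻¹) * r⁻¹ * (l * a * l⁻¹)⁻¹ ∈ H := by
    intro a _ hcom r hr
    have := hHl (hcom _ (hlR' hr))
    rwa [show l * (l⁻¹ * r * l * a * (l⁻¹ * r * l)⁻¹ * a⁻¹) * l⁻¹ =
      r * (l * a * l⁻¹) * r⁻¹ * (l * a * l⁻¹)⁻¹ by group] at this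
  -- decomposition of a moved element
  have hfix : ∀ {a' : G}, a' ∈ R → (∀ r ∈ R, r * a' * r⁻¹ * a'⁻¹ ∈ H) →
      ∃ f : G, f ∈ R ∧ f * x = x * f ∧ ∃ w ∈ V, a' = f * w := by
    intro a' ha hcom
    obtain ⟨k, hk, -, -⟩ := hMofC (hRC ha)
    obtain ⟨e, he⟩ : ∃ e, e = x * a' * x⁻¹ * a'⁻¹ := ⟨_, rfl⟩
    have heR : e ∈ R := he ▸ mul_mem (hxR ha) (inv_mem ha)
    have heQ : e ∈ Q.map (centralizer ({z} : Set G)).subtype := by
      refine ActAt.mem_Q (c := c) ?_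
      have h := ((hax.mul hk).mul hax.inv).mul hk.inv
      rwa [scalar_comm hx₀ (k := k), mul_assoc k, mul_inv_cancel, mul_one, mul_inv_cancel, ← he] at h
    have heV : e ∈ V := by
      rw [hVd]
      refine t.cenR e heR fun b hb hbC => ?_
      have hbR : b ∈ R := t.P_inf_le 0 ⟨hb, hbC⟩
      obtain ⟨b', hb'⟩ : ∃ b', b' = x⁻¹ * b * x := ⟨_, rfl⟩
      have h1 : x * (b' * a' * b'⁻¹ * a'⁻¹) * x⁻¹ ∈ H := hxH (hcom _ (hb' ▸ hxR' hbR))
      rw [show x * (b' * a' * b'⁻¹ * a'⁻¹) * x⁻¹ = b * (x * a' * x⁻¹) * b⁻¹ * (x * a' * x⁻¹)⁻¹ by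
        rw [hb']; group] at h1
      have hxa : x * a' * x⁻¹ = e * a' := by rw [he]; group
      rw [hxa] at h1
      have hcb := hcom b hbR
      obtain ⟨h₂, hh₂⟩ : ∃ h₂, h₂ = b * a' * b⁻¹ * a'⁻¹ := ⟨_, rfl⟩
      rw [← hh₂] at hcb
      have h3 : b * (e * a') * b⁻¹ * (e * a')⁻¹ = b * e * b⁻¹ * e⁻¹ * h₂ := by
        rw [show b * (e * a') * b⁻¹ * (e * a')⁻¹ = b * e * b⁻¹ * (b * a' * b⁻¹ * a'⁻¹) * e⁻¹ by group, ← hh₂,
          mul_assoc (b * e * b⁻¹), hRV (inv_mem heR) (hHV hcb), ← mul_assoc]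
      rw [h3] at h1
      have h4 := mul_mem h1 (inv_mem hcb)
      rw [mul_inv_cancel_right] at h4
      have h5 : b * e = e * b ∨ b * e * b⁻¹ * e⁻¹ = z := by
        rcases hP.conj_cases hb heQ with e' | e'
        · exact Or.inl (mul_inv_eq_iff_eq_mul.1 e')
        · exact Or.inr (by rw [e', mul_inv_cancel_right])
      rcases h5 with h5 | h5
      · exact h5.symm
      · exact absurd (h5 ▸ h4) hzH
    have hxa : x * a' * x⁻¹ = e * a' := by rw [he]; group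
    obtain ⟨e', he'⟩ : ∃ e', e' = x * e * x⁻¹ := ⟨_, rfl⟩
    have he'V : e' ∈ V := he' ▸ (mem_normalizer_iff.1 hxL e).1 heV
    have hxa2 : x * (x * a' * x⁻¹) * x⁻¹ = e' * (e * a') := by
      rw [hxa, show x * (e * a') * x⁻¹ = x * e * x⁻¹ * (x * a' * x⁻¹) by group, ← he', hxa]
    have hb2 : e' * e ∈ V := mul_mem he'V heV
    refine ⟨a' * (x * a' * x⁻¹) * (x * (x * a' * x⁻¹) * x⁻¹),
      mul_mem (mul_mem ha (hxR ha)) (hxR (hxR ha)), ?_, ?_⟩
    · refine (mul_inv_eq_iff_eq_mul.1 ?_).symm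
      rw [show x * (a' * (x * a' * x⁻¹) * (x * (x * a' * x⁻¹) * x⁻¹)) * x⁻¹ =
        x * a' * x⁻¹ * (x * (x * a' * x⁻¹) * x⁻¹) * (x * x * x * a' * (x * x * x)⁻¹) by group, hxcube,
        one_mul, inv_one, mul_one]
      rw [hxa2, hxa, show e' * (e * a') = e' * e * a' by group]
      exact fix_calc (hRV ha heV) (hRV ha hb2)
    · obtain ⟨a₂, ha₂⟩ : ∃ a₂, a₂ = a' * a' := ⟨_, rfl⟩
      have ha2V : a₂ ∈ V := ha₂ ▸ hVd ▸ t.sq_mem ha
      refine ⟨(e * (e' * e) * a₂)⁻¹, inv_mem (mul_mem (mul_mem heV hb2) ha2V), ?_⟩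
      rw [hxa2, hxa, eq_mul_inv_iff_mul_eq, show e' * (e * a') = e' * e * a' by group,
        mul_calc (hRV ha hb2) e, ← ha₂]
  -- transport
  have htransport : ∀ {cc a : G} {k : GS F4}, cc ∈ centralizer (V : Set G) → ActAt c cc k → a ∈ R →
      (∀ r ∈ R, r * a * r⁻¹ * a⁻¹ = 1 ∨ r * a * r⁻¹ * a⁻¹ = z ∨
        r * a * r⁻¹ * a⁻¹ = s ∨ r * a * r⁻¹ * a⁻¹ = z * s) →
      ∃ h ∈ H, ∃ p : Subgroup.centralizer ({z} : Set G), p ∈ ⁅D, D⁆ ∧
        l * (cc * a * cc⁻¹ * a⁻¹) * l⁻¹ = h * p := by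
    intro cc a k hcc _ ha hcom
    obtain ⟨f, hfR, hfx, w, hwV, haf⟩ := hfix (hlR ha) (hmoved ha hcom)
    obtain ⟨g', hg'⟩ : ∃ g', g' = l * cc * l⁻¹ := ⟨_, rfl⟩
    have hg'C : g' ∈ centralizer (V : Set G) := by
      rw [hg', hVd]; exact TriData.conj_mem_C (hVd ▸ hlL) (hVd ▸ hcc)
    obtain ⟨k', hk', hk'K, hk'v⟩ := hMofC hg'C
    obtain ⟨e, he, hex, heV⟩ := hlift hk'K hk'v
    obtain ⟨r, hr⟩ : ∃ r, r = e⁻¹ * g' := ⟨_, rfl⟩
    have hrR : r ∈ R := by
      have hrC : r ∈ centralizer (V : Set G) := by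
        rw [hr]; exact Subgroup.mul_mem _ (Subgroup.inv_mem _ heV) hg'C
      refine t.P_inf_le 0 ⟨?_, hVd ▸ hrC⟩
      have := he.inv.mul hk'
      rw [inv_mul_cancel, ← hr] at this
      exact this.mem_Q
    have hcomr : r * f * r⁻¹ * f⁻¹ ∈ H := by
      have := hmoved ha hcom r hrR
      rw [haf] at this
      rwa [show r * (f * w) * r⁻¹ * (f * w)⁻¹ = r * f * (w * r⁻¹) * w⁻¹ * f⁻¹ by group,
        hRV (inv_mem hrR) hwV, ← mul_assoc, mul_inv_cancel_right] at this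
    have hfz : f * z = z * f := (mem_centralizer_iff.1 (hRC hfR) z hV.1).symm
    have hez : e * z = z * e := he.comm_z
    obtain ⟨e₀, he₀⟩ : ∃ e₀ : Subgroup.centralizer ({z} : Set G), (e₀ : G) = e :=
      ⟨⟨e, mem_centralizer_singleton_iff.2 hez⟩, rfl⟩
    obtain ⟨f₀, hf₀⟩ : ∃ f₀ : Subgroup.centralizer ({z} : Set G), (f₀ : G) = f :=
      ⟨⟨f, mem_centralizer_singleton_iff.2 hfz⟩, rfl⟩
    have heD : e₀ ∈ D := (hD _).2 (Subtype.ext (by push_cast; rw [he₀, ← hx]; exact hex))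
    have hfD : f₀ ∈ D := (hD _).2 (Subtype.ext (by push_cast; rw [hf₀, ← hx]; exact hfx))
    refine ⟨r * f * r⁻¹ * f⁻¹, hcomr, ⁅e₀, f₀⁆, Subgroup.commutator_mem_commutator heD hfD, ?_⟩
    rw [commutatorElement_def]
    push_cast
    rw [he₀, hf₀, show l * (cc * a * cc⁻¹ * a⁻¹) * l⁻¹ = g' * (l * a * l⁻¹) * g'⁻¹ * (l * a * l⁻¹)⁻¹ by
      rw [hg']; group, haf, show g' * (f * w) * g'⁻¹ * (f * w)⁻¹ = g' * f * (w * g'⁻¹) * w⁻¹ * f⁻¹ by group,
      mem_centralizer_iff.1 (Subgroup.inv_mem _ hg'C) w hwV, ← mul_assoc, mul_inv_cancel_right,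
      show g' = e * r by rw [hr]; group,
      show e * r * f * (e * r)⁻¹ * f⁻¹ = e * (r * f * r⁻¹ * f⁻¹) * (f * e⁻¹ * f⁻¹) by group,
      ← mem_centralizer_iff.1 heV _ (hHV hcomr)]
    group
  obtain ⟨h₁, hh₁, p₁, hp₁, e₁⟩ := htransport hc₁V hc₁ hR₁ hcom₁
  obtain ⟨h₂, hh₂, p₂, hp₂, e₂⟩ := htransport hc₂V hc₂ hR₂ hcom₂
  have hmemD : ∀ p, p ∈ ⁅D, D⁆ → p ∈ D := fun p hp =>
    (Subgroup.commutator_le.2 fun a ha b hb => by
      rw [commutatorElement_def]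
      exact mul_mem (mul_mem (mul_mem ha hb) (inv_mem ha)) (inv_mem hb)) hp
  have hPV : P ∈ V := by
    rcases hPv.cases (hsP.mul hyP |>.congr (by rw [f4_sq_sum, add_smul, one_smul])) with e | e <;> rw [e]
    exacts [mul_mem hV.2.1 hV.2.2, mul_mem hV.1 (mul_mem hV.2.1 hV.2.2)]
  have hPl : l * P * l⁻¹ = h₁ * p₁ * (h₂ * p₂) := by
    rw [hPd, ← e₁, ← e₂]; group
  have hp₁V : (p₁ : G) * h₂ = h₂ * p₁ := by
    have h1 : c₁ * a₁ * c₁⁻¹ * a₁⁻¹ ∈ centralizer (V : Set G) :=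
      mul_mem (mul_mem (mul_mem hc₁V (hRC hR₁)) (inv_mem hc₁V)) (inv_mem (hRC hR₁))
    have h2 : l * (c₁ * a₁ * c₁⁻¹ * a₁⁻¹) * l⁻¹ ∈ centralizer (V : Set G) := by
      rw [hVd]; exact TriData.conj_mem_C (hVd ▸ hlL) (hVd ▸ h1)
    rw [e₁] at h2
    have h3 := mul_mem (inv_mem (mem_centralizer_iff.2 fun u hu => hVc hu (hHV hh₁) :
      h₁ ∈ centralizer (V : Set G))) h2
    rw [inv_mul_cancel_left] at h3
    exact (mem_centralizer_iff.1 h3 h₂ (hHV hh₂)).symm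
  obtain ⟨kk, hkk⟩ : ∃ kk, kk = p₁ * p₂ := ⟨_, rfl⟩
  have hkC : kk ∈ ⁅D, D⁆ := hkk ▸ mul_mem hp₁ hp₂
  have hPl' : l * P * l⁻¹ = h₁ * h₂ * kk := by
    rw [hPl, hkk]; push_cast
    rw [show h₁ * (p₁ : G) * (h₂ * (p₂ : G)) = h₁ * ((p₁ : G) * h₂) * p₂ by group, hp₁V]
    group
  have hkV : (kk : G) ∈ V := by
    have h := mul_mem (inv_mem (mul_mem (hHV hh₁) (hHV hh₂))) ((mem_normalizer_iff.1 hlL P).1 hPV)
    rwa [hPl', inv_mul_cancel_left] at h
  obtain ⟨w, hw⟩ := exists_pr_of_mem (c := c) (hVQ hkV)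
  have hkx : x * kk * x⁻¹ = kk := mul_inv_eq_iff_eq_mul.2 (by
    have h := congrArg Subtype.val ((hD kk).1 (hmemD _ hkC))
    push_cast at h
    rw [hx]; exact h.symm)
  have hw0 : w = 0 := by
    have h := hw.conj hax hQ
    rw [hkx, hxmul] at h
    funext i
    have := congrFun (hw.unique h) i
    simp only [Pi.smul_apply, smul_eq_mul] at this
    revert this
    show w i = om * w i → w i = 0
    generalize w i = p; revert p; decide
  rw [hw0] at hw
  rcases hw.zero with e | e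
  · exfalso
    rw [e, mul_one] at hPl'
    have hin : P ∈ closure ({z, s} : Set G) := by
      have := hback (hPl' ▸ mul_mem hh₁ hh₂ : l * P * l⁻¹ ∈ H)
      rwa [show l⁻¹ * (l * P * l⁻¹) * l = P by group] at this
    obtain ⟨i, hi⟩ : ∃ i, v i ≠ 0 := by
      by_contra hn; push Not at hn; exact hne (funext hn)
    have hcases : ∃ q : V6, PrAt c P q ∧ (q = 0 ∨ q = v) := by
      rcases (mem_four hz2 (hV2 hV.2.1) (hVc hV.2.1 hV.1)).1 hin with e | e | e | e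
      · exact ⟨0, e ▸ PrAt.one, Or.inl rfl⟩
      · exact ⟨0, e ▸ hzP, Or.inl rfl⟩
      · exact ⟨v, e ▸ hsP, Or.inr rfl⟩
      · exact ⟨v, by rw [e]; exact (hzP.mul hsP).congr (zero_add v), Or.inr rfl⟩
    obtain ⟨q, hq, hq'⟩ := hcases
    rcases hq' with h | h <;> rw [h] at hq <;>
    · have := congrFun (hPv.unique hq) i
      simp only [Pi.zero_apply, Pi.smul_apply, smul_eq_mul] at this
      revert this hi; generalize v i = p; revert p; decide
  · exact (Subtype.ext e : kk = ⟨z, mem_centralizer_singleton_iff.2 rfl⟩) ▸ hkC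

end CfsgLib.Trans3.FischerType
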