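import Cfsg.Agent.Lib.Trans3.FischerType.CenterAct
import Cfsg.Agent.Lib.KnownA.U4ThreeSchur.Model
import Cfsg.Agent.Lib.Classical.UnitaryGen

/-!
The subgroup of order three over the scalars and its centraliser.
-/

set_option autoImplicit false
set_option linter.unusedSectionVars false

namespace CfsgLib.Trans3.FischerType

open Subgroup Matrix CfsgLib.Chev.U43U6 CfsgLib.Trans3.FiLarge CfsgLib.PLocal.LargeExtra

variable {G : Type*} [Group G] [Finite G] {z : G} {Q : Subgroup (Subgroup.centralizer ({z} : Set G))}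

theorem f4_cube_one : ∀ a : F4, a * a * a = 1 → a = 1 ∨ a = om ∨ a = om * om := by decide

/-- A subgroup of order three normal modulo `Q` is generated by an element acting as a primitive scalar. -/
theorem exists_scalar_generator [IsSimpleGroup CfsgLib.KnownA.U4ThreeSchur.GP] (c : Coord z Q) [Q.Normal]
    (hQp : IsPGroup 2 Q) (X : Subgroup (Subgroup.centralizer ({z} : Set G))) (hX : Nat.card X = 3)
    (hXQ : (X ⊔ Q).Normal) :
    ∃ x₀ : c.M, X = zpowers (x₀ : Subgroup.centralizer ({z} : Set G)) ∧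
      mat (c.act x₀) = om • (1 : Matrix (Fin 6) (Fin 6) F4) ∧ (x₀ : Subgroup.centralizer ({z} : Set G)) ^ 3 = 1 := by
  haveI : Fact (Nat.Prime 3) := ⟨Nat.prime_three⟩
  obtain ⟨x, hxX, hx1⟩ : ∃ x ∈ X, x ≠ 1 := X.ne_bot_iff_exists_ne_one.1 (fun h => by
    rw [h, Subgroup.card_bot] at hX; norm_num at hX) |>.elim fun a ha => ⟨a, a.2, fun e => ha (Subtype.ext e)⟩
  have hx3 : x ^ 3 = 1 := by
    have h := pow_card_eq_one' (x := (⟨x, hxX⟩ : X))
    rw [hX] at h
    exact congrArg Subtype.val h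
  have hord : orderOf x = 3 := (orderOf_eq_prime hx3 hx1)
  have hXz : X = zpowers x := by
    refine (eq_of_le_of_card_ge (zpowers_le.2 hxX) ?_).symm
    rw [Nat.card_zpowers, hord, hX]
  have hxM : x ∈ c.M := by
    have h2 := Subgroup.sq_mem_of_index_two c.index_M x
    rw [show x = (x ^ 2)⁻¹ by rw [eq_inv_iff_mul_eq_one, ← pow_succ', hx3]]
    exact inv_mem h2
  obtain ⟨k, hk⟩ : ∃ k, c.act ⟨x, hxM⟩ = k := ⟨_, rfl⟩
  have hk3 : k * k * k = 1 := by
    rw [← hk, ← map_mul, ← map_mul]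
    refine (congrArg c.act (Subtype.ext ?_)).trans (map_one c.act)
    show x * x * x = 1
    rw [← hx3, pow_succ, pow_two]
  have hk1 : k ≠ 1 := fun e => hx1 (by
    have hxQ := (c.ker_act _).1 (hk.trans e)
    obtain ⟨n, hn⟩ := hQp ⟨x, hxQ⟩
    have h2 : x ^ 2 ^ n = 1 := congrArg Subtype.val hn
    have := orderOf_dvd_of_pow_eq_one h2
    rw [hord] at this
    exact absurd (Nat.prime_three.dvd_of_dvd_pow this) (by norm_num))
  -- the image of `x` is normal in the cover
  have hnorm : ∀ g : c.M, c.act g * k * (c.act g)⁻¹ ∈ zpowers k := by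
    intro g
    let P : Subgroup (Subgroup.centralizer ({z} : Set G)) := ((zpowers k).comap c.act).map c.M.subtype
    have hle : X ⊔ Q ≤ P := by
      rw [hXz]
      exact sup_le (zpowers_le.2 ⟨⟨x, hxM⟩, by rw [SetLike.mem_coe, mem_comap, hk]; exact mem_zpowers k, rfl⟩)
        fun q hq => ⟨⟨q, c.le_M hq⟩, by
          rw [SetLike.mem_coe, mem_comap, (c.ker_act _).2 hq]; exact one_mem _, rfl⟩
    obtain ⟨m, hm, e⟩ := hle (hXQ.conj_mem x (mem_sup_left hxX) g)
    rw [← hk, ← map_mul, ← map_inv, ← map_mul, show g * ⟨x, hxM⟩ * g⁻¹ = m from Subtype.ext e.symm, hk]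
    exact hm
  have hkK : k ∈ FiLarge.K c.b := hk ▸ c.range_act ▸ ⟨⟨x, hxM⟩, rfl⟩
  obtain ⟨a, ha⟩ : ∃ a : F4, mat k = a • (1 : Matrix (Fin 6) (Fin 6) F4) := by
    have hnorm' : ((zpowers k).subgroupOf (FiLarge.K c.b)).Normal := by
      refine ⟨fun n hn g => ?_⟩
      obtain ⟨i, hi⟩ := hn
      obtain ⟨g', hg'⟩ : (g : GS F4) ∈ c.act.range := c.range_act.symm ▸ g.2
      show (g : GS F4) * n * (g : GS F4)⁻¹ ∈ zpowers k
      rw [← hg', show (n : GS F4) = k ^ i from hi.symm, ← conj_zpow]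
      exact zpow_mem (hnorm g') i
    have hmap := hnorm'.map (toGP isOmega_om card_F4 c.b) (toGP_surjective isOmega_om card_F4 c.b)
    have hcardz : Nat.card ((zpowers k).subgroupOf (FiLarge.K c.b)) ≤ 3 := by
      rw [Nat.card_congr (Subgroup.subgroupOfEquivOfLe (zpowers_le.2 hkK)).toEquiv, Nat.card_zpowers]
      exact Nat.le_of_dvd (by norm_num) (orderOf_dvd_of_pow_eq_one (by rw [pow_succ, pow_two, hk3]))
    rcases hmap.eq_bot_or_eq_top with hb | ht
    · have : (⟨k, hkK⟩ : FiLarge.K c.b) ∈ (toGP isOmega_om card_F4 c.b).ker :=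
        (Subgroup.map_eq_bot_iff _).1 hb (mem_subgroupOf.2 (mem_zpowers k))
      rw [ker_toGP] at this
      exact this
    · exfalso
      have h1 : Nat.card CfsgLib.KnownA.U4ThreeSchur.GP ≤ 3 := by
        rw [← Subgroup.card_top, ← ht]
        exact le_trans (Nat.card_le_card_of_surjective _ (MonoidHom.subgroupMap_surjective
          (toGP isOmega_om card_F4 c.b) ((zpowers k).subgroupOf (FiLarge.K c.b)))) hcardz
      rw [CfsgLib.KnownA.U4ThreeSchur.card_GP] at h1
      norm_num at h1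
  have ha3 : a * a * a = 1 := by
    have h : mat k * mat k * mat k = 1 := congrArg mat hk3
    rw [ha, Matrix.smul_mul, Matrix.one_mul, smul_smul, Matrix.smul_mul, Matrix.one_mul, smul_smul] at h
    simpa [Matrix.smul_apply] using congrFun (congrFun h 0) 0
  rcases f4_cube_one a ha3 with rfl | rfl | rfl
  · exact absurd (Subtype.ext (Subtype.ext (ha.trans (one_smul _ _)))) hk1
  · exact ⟨⟨x, hxM⟩, hXz, by rw [hk]; exact ha, hx3⟩
  · refine ⟨⟨x, hxM⟩⁻¹, by rw [hXz]; exact (zpowers_inv).symm, ?_, ?_⟩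
    · rw [map_inv, hk, show k⁻¹ = k * k from inv_eq_of_mul_eq_one_left hk3]
      show mat k * mat k = _
      rw [ha, Matrix.smul_mul, Matrix.one_mul, smul_smul]
      congr 1
    · rw [Subgroup.coe_inv, inv_pow, hx3, inv_one]

variable {c : Coord z Q}

/-- With an element swapping the two multiples, everything commuting with the scalar lies in `M`. -/
theorem mem_M_of_comm (hQ : Q.Normal) (x₀ : c.M) (hx₀ : mat (c.act x₀) = om • (1 : Matrix (Fin 6) (Fin 6) F4))
    {l : Subgroup.centralizer ({z} : Set G)} {q : Subgroup.centralizer ({z} : Set G)} (hq : q ∈ Q)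
    (hqv : c.pr q ≠ 0) (hl1 : c.pr (l * q * l⁻¹) = c.pr q)
    (hl2 : ∀ r ∈ Q, c.pr r = om • c.pr q → c.pr (l * r * l⁻¹) = c.pr r + c.pr q) :
    ∀ h, h * (x₀ : Subgroup.centralizer ({z} : Set G)) = x₀ * h → h ∈ c.M := by
  intro h hcomm
  by_contra hM
  obtain ⟨e, he, hsemi, -⟩ := c.semi l
  obtain ⟨r, hr, hrp⟩ := c.pr_surj (om • c.pr q)
  obtain ⟨i, hi⟩ : ∃ i, c.pr q i ≠ 0 := by
    by_contra hn; push Not at hn; exact hqv (funext hn)
  have h1 := hsemi q hq r hr om hrp
  rw [hl1, hl2 r hr hrp, hrp] at h1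
  have h1' := congrFun h1 i
  simp only [Pi.add_apply, Pi.smul_apply, smul_eq_mul] at h1'
  rcases he with rfl | rfl
  · revert h1' hi
    generalize c.pr q i = p
    revert p
    decide
  · have hlM : l ∉ c.M := fun hl => by
      have h3 := c.conj_pr ⟨l, hl⟩ r hr
      rw [hrp, Matrix.mulVec_smul, ← c.conj_pr ⟨l, hl⟩ q hq, hl1] at h3
      have := congrFun (hrp ▸ (hl2 r hr hrp).symm.trans h3) i
      simp only [Pi.add_apply, Pi.smul_apply, smul_eq_mul] at this
      revert this hi
      generalize c.pr q i = p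
      revert p
      decide
    have hm : l * h ∈ c.M := (Subgroup.mul_mem_iff_of_index_two c.index_M).2
      ⟨fun h' => absurd h' hlM, fun h' => absurd h' hM⟩
    -- `l` inverts the scalar on the quotient, `l * h` commutes with it
    have hlq : ∀ a ∈ Q, c.pr ((x₀ : Subgroup.centralizer ({z} : Set G)) * a *
        (x₀ : Subgroup.centralizer ({z} : Set G))⁻¹) = om • c.pr a := fun a ha => by
      rw [c.conj_pr x₀ a ha, hx₀, Matrix.smul_mulVec, Matrix.one_mulVec]
    have hmx : ∀ a ∈ Q, c.pr (l * h * a * (l * h)⁻¹) = mat (c.act ⟨l * h, hm⟩) *ᵥ c.pr a :=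
      fun a ha => c.conj_pr ⟨l * h, hm⟩ a ha
    have hxq := hQ.conj_mem q hq (x₀ : Subgroup.centralizer ({z} : Set G))
    obtain ⟨q', hq'⟩ : ∃ q', q' = h * q * h⁻¹ := ⟨_, rfl⟩
    have hq'Q : q' ∈ Q := hq' ▸ hQ.conj_mem q hq h
    have hxq' := hQ.conj_mem q' hq'Q (x₀ : Subgroup.centralizer ({z} : Set G))
    have e2 : h * ((x₀ : Subgroup.centralizer ({z} : Set G)) * q * (x₀ : Subgroup.centralizer ({z} : Set G))⁻¹) * h⁻¹ =
        x₀ * q' * (x₀ : Subgroup.centralizer ({z} : Set G))⁻¹ := by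
      rw [hq', show h * ((x₀ : Subgroup.centralizer ({z} : Set G)) * q * (x₀ : Subgroup.centralizer ({z} : Set G))⁻¹) * h⁻¹
        = h * (x₀ : Subgroup.centralizer ({z} : Set G)) * q * (h * (x₀ : Subgroup.centralizer ({z} : Set G)))⁻¹ by group,
        hcomm]
      group
    have h4 : c.pr (l * h * ((x₀ : Subgroup.centralizer ({z} : Set G)) * q *
        (x₀ : Subgroup.centralizer ({z} : Set G))⁻¹) * (l * h)⁻¹) = (om ^ 2) • c.pr (l * h * q * (l * h)⁻¹) := by
      have := hsemi q' hq'Q _ hxq' om (hlq q' hq'Q)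
      rw [show l * h * ((x₀ : Subgroup.centralizer ({z} : Set G)) * q * (x₀ : Subgroup.centralizer ({z} : Set G))⁻¹) *
          (l * h)⁻¹ = l * (h * ((x₀ : Subgroup.centralizer ({z} : Set G)) * q *
            (x₀ : Subgroup.centralizer ({z} : Set G))⁻¹) * h⁻¹) * l⁻¹ by group,
        e2, this, show l * h * q * (l * h)⁻¹ = l * q' * l⁻¹ by rw [hq']; group]
    rw [hmx _ hxq, hlq q hq, Matrix.mulVec_smul, ← hmx q hq] at h4
    have hne : c.pr (l * h * q * (l * h)⁻¹) ≠ 0 := fun e0 => hqv ((c.pr_eq_zero q hq).2 (by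
      have h5 := (c.pr_eq_zero _ (hQ.conj_mem q hq (l * h))).1 e0
      push_cast at h5
      rcases h5 with h5 | h5
      · exact Or.inl (conj_eq_one_iff.1 h5)
      · refine Or.inr ?_
        have hz : ((l * h : Subgroup.centralizer ({z} : Set G)) : G) * z = z * ((l * h : Subgroup.centralizer ({z} : Set G)) : G) :=
          mem_centralizer_singleton_iff.1 (l * h).2
        push_cast at hz
        rw [mul_inv_eq_iff_eq_mul, ← hz] at h5
        exact mul_left_cancel h5))
    obtain ⟨j, hj⟩ : ∃ j, c.pr (l * h * q * (l * h)⁻¹) j ≠ 0 := by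
      by_contra hn; push Not at hn; exact hne (funext hn)
    have := congrFun h4 j
    simp only [Pi.smul_apply, smul_eq_mul] at this
    revert this hj
    generalize c.pr (l * h * q * (l * h)⁻¹) j = p
    revert p
    decide

/-- The centraliser of the scalar covers the cover. -/
theorem exists_comm_lift (hQ : Q.Normal) (x₀ : c.M) (hx₀ : mat (c.act x₀) = om • (1 : Matrix (Fin 6) (Fin 6) F4))
    (hx3 : (x₀ : Subgroup.centralizer ({z} : Set G)) ^ 3 = 1) (hzQ : PrAt c z 0) (hz1 : z ≠ 1) (hz2 : z * z = 1)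
    {k : GS F4} (hk : k ∈ FiLarge.K c.b) :
    ∃ d : G, ActAt c d k ∧ d * ((x₀ : Subgroup.centralizer ({z} : Set G)) : G) =
      ((x₀ : Subgroup.centralizer ({z} : Set G)) : G) * d := by
  obtain ⟨x, hx⟩ : ∃ x, x = ((x₀ : Subgroup.centralizer ({z} : Set G)) : G) := ⟨_, rfl⟩
  rw [← hx]
  have hax : ActAt c x (c.act x₀) := ⟨x₀, hx.symm, rfl⟩
  have hxcube : x * x * x = 1 := by
    have := congrArg Subtype.val hx3
    push_cast at this
    rw [hx, ← this, pow_succ, pow_two]
  obtain ⟨m, hm⟩ := ActAt.exists_elt hk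
  have hd : ActAt c (m * x * m⁻¹ * x⁻¹) 1 := by
    have := ((hm.mul hax).mul hm.inv).mul hax.inv
    rwa [← scalar_comm hx₀ (k := k), mul_assoc (c.act x₀), mul_inv_cancel, mul_one, mul_inv_cancel] at this
  obtain ⟨t, ht⟩ := exists_pr_of_mem (c := c) hd.mem_Q
  obtain ⟨q, hq⟩ := PrAt.exists_elt c (om • t)
  have hqa := actAt_of_mem (c := c) hq.mem
  refine ⟨q * m, by simpa using hqa.mul hm, ?_⟩
  have hxq : PrAt c (x * q⁻¹ * x⁻¹) (om • om • t) := by
    have := hq.inv.conj hax hQ
    rwa [hx₀, Matrix.smul_mulVec, Matrix.one_mulVec] at this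
  have he : PrAt c (q * m * x * (q * m)⁻¹ * x⁻¹) 0 := by
    have h := (hq.mul ht).mul hxq
    rw [show om • t + t + om • om • t = 0 from funext fun i => by
      simp only [Pi.add_apply, Pi.smul_apply, smul_eq_mul, Pi.zero_apply]
      exact (by decide : ∀ a : F4, om * a + a + om * (om * a) = 0) _,
      show q * (m * x * m⁻¹ * x⁻¹) * (x * q⁻¹ * x⁻¹) = q * m * x * (q * m)⁻¹ * x⁻¹ by group] at h
    exact h
  rcases he.zero with e | e
  · exact mul_inv_eq_iff_eq_mul.1 (mul_inv_eq_one.1 e)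
  · exfalso
    have e' : q * m * x * (q * m)⁻¹ = z * x := mul_inv_eq_iff_eq_mul.1 e
    have hcube : (q * m * x * (q * m)⁻¹) * (q * m * x * (q * m)⁻¹) * (q * m * x * (q * m)⁻¹) = 1 := by
      rw [show (q * m * x * (q * m)⁻¹) * (q * m * x * (q * m)⁻¹) * (q * m * x * (q * m)⁻¹) =
        q * m * (x * x * x) * (q * m)⁻¹ by group, hxcube]
      group
    rw [e'] at hcube
    have hxz : x * z = z * x := hax.comm_z
    have : z = 1 := by
      calc z = z * (x * x * x) := by rw [hxcube, mul_one]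
        _ = z * (z * z) * (x * x * x) := by rw [hz2, mul_one]
        _ = z * x * (z * x) * (z * x) := by
              have h : Commute x z := hxz
              calc z * (z * z) * (x * x * x) = z * (z * (z * x)) * (x * x) := by group
                _ = z * (z * (x * z)) * (x * x) := by rw [hxz]
                _ = z * (z * x) * (z * x) * x := by group
                _ = z * (x * z) * (z * x) * x := by rw [hxz]
                _ = z * x * (z * (z * x)) * x := by group
                _ = z * x * (z * (x * z)) * x := by rw [hxz]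
                _ = z * x * (z * x) * (z * x) := by group
        _ = 1 := hcube
    exact hz1 this

end CfsgLib.Trans3.FischerType
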