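import Cfsg.Agent.Lib.Trans3.FischerType.MaxFacts
import Cfsg.Agent.Lib.Trans3.FiLarge.Setting
import Cfsg.Agent.Lib.Trans3.ExtraAbelian

/-!
# The elementary abelian subgroup of order `2¹¹`

From coordinates with cover number `0`, the module facts and semilinearity outside the subgroup of index two:
the centraliser of `U` over `W` is elementary abelian of order `2¹¹` and is the only elementary abelian subgroup
of that order or more in every 2-subgroup of the centraliser of `z` containing it.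
-/

set_option autoImplicit false
set_option linter.unusedSectionVars false
set_option linter.style.haveILetI false

namespace CfsgLib.Trans3.FischerType.PairCode

open Matrix CfsgLib.Chev.U43U6 CfsgLib.Trans3.FiLarge
open CfsgLib.Trans3.FischerType (fixV ea_Kb unique_wide app app_inv mat_mul_gs f4_smul_right mat_injective
  exists_scalar)
open Cfsg (IsExtraspecialCentralizerSetting)

/-- The facts used about the pair. -/
structure UWFacts {b : Fin 3} (f : WFacts b) : Prop where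
  le : f.W ≤ K b
  elem : Cfsg.IsElementaryAbelian 2 f.W
  iso : ∀ u ∈ f.U, herm6 u u = 0
  perp : ∀ v, (∀ u ∈ f.U, bform v u = 0) → v ∈ f.U
  smul : ∀ u ∈ f.U, ∀ a : F4, a • u ∈ f.U
  fixed : ∀ v, (∀ w ∈ f.W, mat w *ᵥ v = v) → v ∈ f.U
  char : ∀ χ : f.U → F4, (∀ u, χ u = 0 ∨ χ u = 1) → (∀ u u', χ (u + u') = χ u + χ u') →
    ∃ v : V6, ∀ u : f.U, bform v u = χ u
  small : ∀ A : Subgroup (GS F4), A ≤ K b → Cfsg.IsElementaryAbelian 2 A → 16 ≤ Nat.card A →
    Nat.card A = 16 ∧ (fixV (A : Set (GS F4))).ncard ≤ 64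
  unique : ∀ S A : Subgroup (GS F4), S ≤ K b → IsPGroup 2 S → f.W ≤ S → A ≤ S →
    Cfsg.IsElementaryAbelian 2 A → 16 ≤ Nat.card A → 4 < (fixV (A : Set (GS F4))).ncard → A = f.W

theorem uwFacts {b : Fin 3} (f : WFacts b) (hb : b = 0) : UWFacts f := by
  subst hb
  refine ⟨f.W_le_K, f.W_elem, fun u hu => f.U_iso hu, fun v h => f.perp h, fun u hu a => f.smul_mem hu a,
    fun v h => f.mem_U_of_fix h, f.exists_char,
    fun A hA he hc => ⟨(ea_Kb isOmega_om card_F4 hA he hc).1, (ea_Kb isOmega_om card_F4 hA he hc).2.1⟩,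
    fun S A hS h2 hWS hAS he hc hf => unique_wide isOmega_om card_F4 hS h2 hAS hWS he f.W_elem hc f.card_W.ge hf
      ?_⟩
  have hsub : (f.U : Set V6) ⊆ fixV (f.W : Set (GS F4)) := fun u hu w hw => f.W_fix w hw u hu
  have hU : (f.U : Set V6).ncard = 64 := by rw [← Nat.card_coe_set_eq]; exact f.card_U
  have := Set.ncard_le_ncard hsub (Set.toFinite _)
  omega

variable {G : Type*} [Group G] {z : G} {Q : Subgroup (Subgroup.centralizer ({z} : Set G))}
  (c : Coord z Q) (f : WFacts c.b)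

/-- The centraliser of the preimage of `U` over `W`. -/
def maxA : Subgroup (Subgroup.centralizer ({z} : Set G)) where
  carrier := {h | ∃ hm : h ∈ c.M, c.act ⟨h, hm⟩ ∈ f.W ∧ ∀ q ∈ Q, c.pr q ∈ f.U → h * q = q * h}
  one_mem' := ⟨one_mem _, by
    rw [show (⟨1, one_mem _⟩ : c.M) = 1 from rfl, map_one]; exact one_mem _, fun q _ _ => by simp⟩
  mul_mem' := by
    rintro a b ⟨ha, haW, hac⟩ ⟨hb, hbW, hbc⟩
    refine ⟨mul_mem ha hb, ?_, fun q hq hu => ?_⟩
    · rw [show (⟨a * b, mul_mem ha hb⟩ : c.M) = ⟨a, ha⟩ * ⟨b, hb⟩ from rfl, map_mul]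
      exact mul_mem haW hbW
    · rw [mul_assoc, hbc q hq hu, ← mul_assoc, hac q hq hu, mul_assoc]
  inv_mem' := by
    rintro a ⟨ha, haW, hac⟩
    refine ⟨inv_mem ha, ?_, fun q hq hu => (Commute.inv_left (hac q hq hu)).eq⟩
    rw [show (⟨a⁻¹, inv_mem ha⟩ : c.M) = (⟨a, ha⟩ : c.M)⁻¹ from rfl, map_inv]
    exact inv_mem haW

theorem maxA_le : maxA c f ≤ c.M := fun _ h => h.1

theorem act_maxA {m : c.M} (h : (m : Subgroup.centralizer ({z} : Set G)) ∈ maxA c f) : c.act m ∈ f.W := by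
  obtain ⟨hm, hW, -⟩ := h
  exact hW

theorem maxA_comm {a q : Subgroup.centralizer ({z} : Set G)} (h : a ∈ maxA c f) (hq : q ∈ Q)
    (hu : c.pr q ∈ f.U) : a * q = q * a := h.2.2 q hq hu

/-- The intersection with `Q`. -/
theorem mem_maxA_iff (uw : UWFacts f) {q : Subgroup.centralizer ({z} : Set G)} (hq : q ∈ Q) :
    q ∈ maxA c f ↔ c.pr q ∈ f.U := by
  constructor
  · intro h
    refine uw.perp _ fun u hu => ?_
    obtain ⟨r, hr, rfl⟩ := c.pr_surj u
    exact (c.comm_iff q hq r hr).1 (maxA_comm c f h hr hu)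
  · intro hu
    refine ⟨c.le_M hq, ?_, fun r hr hru => (c.comm_iff q hq r hr).2 (f.U_bform _ hu _ hru)⟩
    rw [(c.ker_act ⟨q, c.le_M hq⟩).2 hq]
    exact one_mem _

theorem zC_pr (hzQ : zC z ∈ Q) : c.pr (zC z) = 0 := (c.pr_eq_zero _ hzQ).2 (Or.inr rfl)

theorem pr_one : c.pr 1 = 0 := (c.pr_eq_zero 1 (one_mem _)).2 (Or.inl rfl)

theorem pr_inv {q : Subgroup.centralizer ({z} : Set G)} (hq : q ∈ Q) : c.pr q⁻¹ = c.pr q := by
  have h := c.pr_mul q hq _ (inv_mem hq)
  rw [mul_inv_cancel, pr_one] at h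
  exact (pf_eq_of_add _ _ h.symm).symm

theorem eq_cases {q r : Subgroup.centralizer ({z} : Set G)} (hq : q ∈ Q) (hr : r ∈ Q)
    (e : c.pr q = c.pr r) : q = r ∨ q = zC z * r := by
  have h0 : c.pr (q * r⁻¹) = 0 := by rw [c.pr_mul q hq _ (inv_mem hr), pr_inv c hr, e, pf_self]
  rcases (c.pr_eq_zero _ (mul_mem hq (inv_mem hr))).1 h0 with h | h <;> push_cast at h
  · exact Or.inl (Subtype.ext (mul_inv_eq_one.1 h))
  · exact Or.inr (Subtype.ext (mul_inv_eq_iff_eq_mul.1 h))

theorem zC_ne_one (hz : z ≠ 1) : zC z ≠ 1 := fun e => hz (congrArg Subtype.val e)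

theorem zC_sq (hz2 : z * z = 1) : zC z * zC z = 1 := Subtype.ext hz2

variable [Finite G]

theorem zC_conj (h : Subgroup.centralizer ({z} : Set G)) : h * zC z * h⁻¹ = zC z := by
  rw [← zC_central, mul_inv_cancel_right]

/-- An elementary abelian preimage doubles the number of vectors. -/
theorem card_prImage (hz : z ≠ 1) {S : Subgroup (Subgroup.centralizer ({z} : Set G))} (hS : S ≤ Q)
    (hzS : zC z ∈ S) : Nat.card S = 2 * (c.pr '' (S : Set (Subgroup.centralizer ({z} : Set G)))).ncard := by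
  let φ : S →* Multiplicative V6 := MonoidHom.mk' (fun s => Multiplicative.ofAdd (c.pr s.1))
    fun a b => by
      show Multiplicative.ofAdd (c.pr (a.1 * b.1)) = _
      rw [c.pr_mul _ (hS a.2) _ (hS b.2)]; rfl
  have hker : Nat.card φ.ker = 2 := by
    rw [← SetLike.coe_sort_coe, Nat.card_coe_set_eq]
    have : (φ.ker : Set S) = {1, ⟨zC z, hzS⟩} := by
      ext s
      simp only [SetLike.mem_coe, MonoidHom.mem_ker, Set.mem_insert_iff, Set.mem_singleton_iff]
      show c.pr s.1 = 0 ↔ _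
      rw [c.pr_eq_zero _ (hS s.2)]
      exact or_congr ⟨fun h => Subtype.ext (Subtype.ext h), fun h => by rw [h]; rfl⟩
        ⟨fun h => Subtype.ext (Subtype.ext h), fun h => by rw [h]; rfl⟩
    rw [this, Set.ncard_pair fun e => zC_ne_one hz (congrArg Subtype.val e).symm]
  have hrange : Nat.card φ.range = (c.pr '' (S : Set (Subgroup.centralizer ({z} : Set G)))).ncard := by
    rw [← Nat.card_coe_set_eq, ← SetLike.coe_sort_coe, MonoidHom.coe_range]
    refine Nat.card_congr (Equiv.subtypeEquiv Multiplicative.toAdd fun v => ?_)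
    constructor
    · rintro ⟨s, rfl⟩; exact ⟨s, s.2, rfl⟩
    · rintro ⟨s, hs, e⟩; exact ⟨⟨s, hs⟩, Multiplicative.toAdd.injective e⟩
  rw [← φ.ker.card_mul_index, Subgroup.index_ker, hker, hrange]

/-- The kernel and image of the action on a subgroup of `c.M`. -/
theorem card_actImage {S : Subgroup (Subgroup.centralizer ({z} : Set G))} (hS : S ≤ c.M) :
    Nat.card S = Nat.card ↥((S.subgroupOf c.M).map c.act) * Nat.card ↥(S ⊓ Q) := by
  obtain ⟨S', hS'⟩ : ∃ S', S' = S.subgroupOf c.M := ⟨_, rfl⟩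
  have hmul := (c.act.subgroupMap S').ker.card_mul_index
  rw [Subgroup.index_ker, MonoidHom.range_eq_top.2 (c.act.subgroupMap_surjective S'), Subgroup.card_top] at hmul
  have hker : Nat.card (c.act.subgroupMap S').ker = Nat.card ↥(S ⊓ Q) := by
    refine Nat.card_congr
      { toFun := fun x => ⟨x.1.1.1, by
          refine ⟨?_, (c.ker_act _).1 (congrArg Subtype.val x.2)⟩
          have h : (x.1.1 : c.M) ∈ S.subgroupOf c.M := hS' ▸ x.1.2
          exact h⟩
        invFun := fun x => ⟨⟨⟨x.1, hS x.2.1⟩, by rw [hS', Subgroup.mem_subgroupOf]; exact x.2.1⟩,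
          Subtype.ext ((c.ker_act _).2 x.2.2)⟩
        left_inv := fun x => rfl
        right_inv := fun x => rfl }
  rw [← hS', ← hker, mul_comm, hmul, hS', Nat.card_congr (Subgroup.subgroupOfEquivOfLe hS).toEquiv]

variable [Q.Normal]

/-- Over every element of `W` lies an element of the centraliser of `U`. -/
theorem exists_lift_maxA (uw : UWFacts f) (hz : z ≠ 1) (hz2 : z * z = 1) (hzQ : zC z ∈ Q) {w : GS F4}
    (hw : w ∈ f.W) : ∃ m : c.M, (m : Subgroup.centralizer ({z} : Set G)) ∈ maxA c f ∧ c.act m = w := by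
  classical
  obtain ⟨y, hy⟩ : w ∈ c.act.range := c.range_act.symm ▸ uw.le hw
  choose q hq hqu using fun u : f.U => c.pr_surj (u : V6)
  obtain ⟨yh, hyh⟩ : ∃ yh, yh = (y : Subgroup.centralizer ({z} : Set G)) := ⟨_, rfl⟩
  have hcases : ∀ r ∈ Q, c.pr r ∈ f.U → yh * r * yh⁻¹ = r ∨ yh * r * yh⁻¹ = zC z * r := by
    intro r hr hru
    refine eq_cases c (hyh ▸ (inferInstance : Q.Normal).conj_mem r hr _) hr ?_
    rw [hyh, c.conj_pr y r hr, hy, f.W_fix w hw _ hru]
  have hne : ∀ r : Subgroup.centralizer ({z} : Set G), zC z * r ≠ r := fun r e =>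
    zC_ne_one hz (mul_eq_right.1 e)
  set χ : f.U → F4 := fun u => if yh * q u * yh⁻¹ = q u then 0 else 1 with hχ
  have hkey : ∀ r ∈ Q, ∀ hru : c.pr r ∈ f.U, (yh * r * yh⁻¹ = r ↔ χ ⟨c.pr r, hru⟩ = 0) := by
    intro r hr hru
    have hiff : yh * r * yh⁻¹ = r ↔ yh * q ⟨c.pr r, hru⟩ * yh⁻¹ = q ⟨c.pr r, hru⟩ := by
      rcases eq_cases c hr (hq ⟨c.pr r, hru⟩) (hqu ⟨c.pr r, hru⟩).symm with e | e
      · rw [← e]
      · conv_lhs => rw [e]
        rw [show yh * (zC z * q ⟨c.pr r, hru⟩) * yh⁻¹ =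
          (yh * zC z * yh⁻¹) * (yh * q ⟨c.pr r, hru⟩ * yh⁻¹) by group, zC_conj, mul_right_inj]
    rw [hiff]
    simp only [hχ]
    split_ifs with h
    · exact iff_of_true h rfl
    · exact iff_of_false h one_ne_zero
  have hadd : ∀ u u', χ (u + u') = χ u + χ u' := by
    intro u u'
    have hpr : c.pr (q u * q u') = ((u + u' : f.U) : V6) := by
      rw [c.pr_mul _ (hq u) _ (hq u'), hqu, hqu]; rfl
    have hmem : c.pr (q u * q u') ∈ f.U := hpr ▸ (u + u').2
    have h1 := hkey _ (mul_mem (hq u) (hq u')) hmem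
    rw [show (⟨c.pr (q u * q u'), hmem⟩ : f.U) = u + u' from Subtype.ext hpr] at h1
    have h01 : ∀ v, χ v = 0 ∨ χ v = 1 := fun v => by rw [hχ]; dsimp only; split <;> simp
    have hprod : yh * (q u * q u') * yh⁻¹ = (yh * q u * yh⁻¹) * (yh * q u' * yh⁻¹) := by group
    rw [hprod] at h1
    rcases hcases _ (hq u) (by rw [hqu]; exact u.2) with e | e <;>
      rcases hcases _ (hq u') (by rw [hqu]; exact u'.2) with e' | e' <;> rw [e, e'] at h1
    · rw [show χ u = 0 by simp [hχ, e], show χ u' = 0 by simp [hχ, e'], h1.1 rfl, add_zero]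
    · rw [show χ u = 0 by simp [hχ, e], show χ u' = 1 by simp [hχ, e', hne], zero_add]
      refine (h01 _).resolve_left fun h => hne (q u') ?_
      exact mul_left_cancel (h1.2 h)
    · rw [show χ u = 1 by simp [hχ, e, hne], show χ u' = 0 by simp [hχ, e'], add_zero]
      refine (h01 _).resolve_left fun h => hne (q u) ?_
      exact mul_right_cancel (h1.2 h)
    · rw [show χ u = 1 by simp [hχ, e, hne], show χ u' = 1 by simp [hχ, e', hne], f4_two]
      refine h1.1 ?_
      calc zC z * q u * (zC z * q u') = zC z * (q u * zC z) * q u' := by group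
        _ = zC z * zC z * (q u * q u') := by rw [← zC_central]; group
        _ = q u * q u' := by rw [zC_sq hz2, one_mul]
  obtain ⟨v, hv⟩ := uw.char χ (fun u => by rw [hχ]; dsimp only; split <;> simp) hadd
  obtain ⟨q0, hq0, hq0v⟩ := c.pr_surj v
  refine ⟨⟨q0, c.le_M hq0⟩ * y, ⟨mul_mem (c.le_M hq0) y.2, ?_, fun r hr hru => ?_⟩, ?_⟩
  · show c.act (⟨q0, c.le_M hq0⟩ * y) ∈ f.W
    rw [map_mul, (c.ker_act ⟨q0, c.le_M hq0⟩).2 hq0, one_mul, hy]; exact hw
  · show q0 * (y : Subgroup.centralizer ({z} : Set G)) * r = r * (q0 * y)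
    rw [← hyh]
    have hb : bform v (c.pr r) = χ ⟨c.pr r, hru⟩ := hv ⟨c.pr r, hru⟩
    suffices h : q0 * (yh * r * yh⁻¹) * q0⁻¹ = r by
      calc q0 * yh * r = (q0 * (yh * r * yh⁻¹) * q0⁻¹) * (q0 * yh) := by group
        _ = r * (q0 * yh) := by rw [h]
    rcases hcases r hr hru with e | e
    · have h0 : bform v (c.pr r) = 0 := hb.trans ((hkey r hr hru).1 e)
      rw [e, (c.comm_iff q0 hq0 r hr).2 (by rw [hq0v]; exact h0), mul_inv_cancel_right]
    · have h1 : bform v (c.pr r) ≠ 0 := fun h0 => hne r (by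
        rw [← e]; exact (hkey r hr hru).2 (hb.symm.trans h0))
      have hq0r : q0 * r * q0⁻¹ = zC z * r := by
        refine (eq_cases c ((inferInstance : Q.Normal).conj_mem r hr _) hr ?_).resolve_left fun h' => h1 ?_
        · rw [c.pr_mul _ (mul_mem hq0 hr) _ (inv_mem hq0), c.pr_mul _ hq0 _ hr, pr_inv c hq0,
            add_right_comm, pf_self, zero_add]
        · have := (c.comm_iff q0 hq0 r hr).1 (mul_inv_eq_iff_eq_mul.1 h')
          rwa [hq0v] at this
      rw [e, show q0 * (zC z * r) * q0⁻¹ = (q0 * zC z * q0⁻¹) * (q0 * r * q0⁻¹) by group, zC_conj, hq0r,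
        ← mul_assoc, zC_sq hz2, one_mul]
  · rw [map_mul, (c.ker_act ⟨q0, c.le_M hq0⟩).2 hq0, one_mul, hy]

/-- Conjugation by elements preserving the pair. -/
theorem conj_maxA {n : c.M} (hW : ∀ w ∈ f.W, c.act n * w * (c.act n)⁻¹ ∈ f.W)
    (hU : ∀ u ∈ f.U, mat (c.act n)⁻¹ *ᵥ u ∈ f.U) {a : Subgroup.centralizer ({z} : Set G)}
    (ha : a ∈ maxA c f) : (n : Subgroup.centralizer ({z} : Set G)) * a *
      (n : Subgroup.centralizer ({z} : Set G))⁻¹ ∈ maxA c f := by
  obtain ⟨hm, haW, hac⟩ := ha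
  refine ⟨mul_mem (mul_mem n.2 hm) (inv_mem n.2), ?_, fun q hq hu => ?_⟩
  · show c.act (n * ⟨a, hm⟩ * n⁻¹) ∈ f.W
    rw [map_mul, map_mul, map_inv]
    exact hW _ haW
  · have hq' : (n⁻¹ : c.M).1 * q * (n⁻¹ : c.M).1⁻¹ ∈ Q := (inferInstance : Q.Normal).conj_mem q hq _
    have hu' : c.pr ((n⁻¹ : c.M).1 * q * (n⁻¹ : c.M).1⁻¹) ∈ f.U := by
      rw [c.conj_pr n⁻¹ q hq, map_inv]; exact hU _ hu
    have h := hac _ hq' hu'
    push_cast at h
    rw [inv_inv] at h
    calc n.1 * a * n.1⁻¹ * q = n.1 * (a * (n.1⁻¹ * q * n.1)) * n.1⁻¹ := by group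
      _ = n.1 * ((n.1⁻¹ * q * n.1) * a) * n.1⁻¹ := by rw [h]
      _ = q * (n.1 * a * n.1⁻¹) := by group

/-- The centraliser of `U` over `W` is elementary abelian. -/
theorem elem_maxA (uw : UWFacts f) (hz : z ≠ 1) (hz2 : z * z = 1) (hzQ : zC z ∈ Q) :
    Cfsg.IsElementaryAbelian 2 (maxA c f) := by
  have hzA : zC z ∈ maxA c f := (mem_maxA_iff c f uw hzQ).2 (by rw [zC_pr c hzQ]; exact f.U.zero_mem)
  have hk2 : ∀ k ∈ maxA c f, k ∈ Q → k * k = 1 := fun k hk hkQ =>
    (c.sq_iff k hkQ).2 (uw.iso _ ((mem_maxA_iff c f uw hkQ).1 hk))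
  have hkc : ∀ a ∈ maxA c f, ∀ k ∈ maxA c f, k ∈ Q → a * k = k * a := fun a ha k hk hkQ =>
    maxA_comm c f ha hkQ ((mem_maxA_iff c f uw hkQ).1 hk)
  have hshift : ∀ a ∈ maxA c f, ∀ k ∈ maxA c f, k ∈ Q → (k * a) * (k * a) = a * a := fun a ha k hk hkQ => by
    calc (k * a) * (k * a) = k * (a * k) * a := by group
      _ = k * k * (a * a) := by rw [hkc a ha k hk hkQ]; group
      _ = a * a := by rw [hk2 k hk hkQ, one_mul]
  have hdiff : ∀ a b : c.M, (a : Subgroup.centralizer ({z} : Set G)) ∈ maxA c f →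
      (b : Subgroup.centralizer ({z} : Set G)) ∈ maxA c f → c.act a = c.act b →
      a.1 * a.1 = b.1 * b.1 := by
    intro a b ha hb e
    have hk : a.1 * b.1⁻¹ ∈ Q := by
      have := (c.ker_act (a * b⁻¹)).1 (by rw [map_mul, map_inv, e, mul_inv_cancel])
      exact this
    have := hshift _ hb _ (mul_mem ha (inv_mem hb)) hk
    rwa [inv_mul_cancel_right] at this
  -- squares are central
  have hsq : ∀ a ∈ maxA c f, a * a = 1 ∨ a * a = zC z := by
    intro a ha
    obtain ⟨sc, hsc, hscm⟩ := exists_scalar c.b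
    obtain ⟨x, hx⟩ : sc ∈ c.act.range := c.range_act.symm ▸ hsc
    have hcomm : ∀ w : GS F4, sc * w = w * sc := fun w => mat_injective (by
      rw [mat_mul_gs, mat_mul_gs, hscm, Matrix.smul_mul, Matrix.mul_smul, one_mul, mul_one])
    have hinvU : ∀ u ∈ f.U, mat (c.act x)⁻¹ *ᵥ u ∈ f.U := fun u hu => by
      have e : u = app sc (om ^ 2 • u) := by
        rw [app, hscm, Matrix.smul_mulVec, Matrix.one_mulVec, smul_smul,
          show om * om ^ 2 = 1 by decide +kernel, one_smul]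
      rw [hx]
      show app sc⁻¹ u ∈ f.U
      rw [e, app_inv]
      exact uw.smul u hu _
    have hxa := conj_maxA c f (n := x) (fun w hw => by rw [hx, hcomm w, mul_inv_cancel_right]; exact hw)
      hinvU ha
    obtain ⟨hm, haW, hac⟩ := ha
    have e1 := hdiff ⟨_, maxA_le c f hxa⟩ ⟨a, hm⟩ hxa ⟨hm, haW, hac⟩ (by
      show c.act (x * ⟨a, hm⟩ * x⁻¹) = _
      rw [map_mul, map_mul, map_inv, hx, hcomm, mul_inv_cancel_right])
    have haQ : a * a ∈ Q := by
      have := (c.ker_act (⟨a, hm⟩ * ⟨a, hm⟩)).1 (by rw [map_mul]; exact (pow_two _).symm.trans (uw.elem.2 _ haW))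
      exact this
    have e2 := c.conj_pr x (a * a) haQ
    rw [show x.1 * (a * a) * x.1⁻¹ = a * a from (by group : x.1 * (a * a) * x.1⁻¹ =
      (x.1 * a * x.1⁻¹) * (x.1 * a * x.1⁻¹)).trans e1, hx, hscm, Matrix.smul_mulVec, Matrix.one_mulVec] at e2
    have h0 : c.pr (a * a) = 0 := funext fun i =>
      (by decide +kernel : ∀ t : F4, t = om * t → t = 0) _ (congrFun e2 i)
    rcases (c.pr_eq_zero _ haQ).1 h0 with h | h
    · exact Or.inl (Subtype.ext h)
    · exact Or.inr (Subtype.ext h)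
  -- they are all trivial
  have hone : ∀ a ∈ maxA c f, a * a = 1 := by
    intro a ha
    obtain ⟨hm, haW, hac⟩ := ha
    by_cases haQ : a ∈ Q
    · exact hk2 a ⟨hm, haW, hac⟩ haQ
    rcases hsq a ⟨hm, haW, hac⟩ with h | h
    · exact h
    exfalso
    have hall : ∀ b : c.M, (b : Subgroup.centralizer ({z} : Set G)) ∈ maxA c f → c.act b ≠ 1 →
        b.1 * b.1 = zC z := by
      intro b hb hb1
      obtain ⟨g, hg, e⟩ := f.trans_W _ haW (fun e => haQ ((c.ker_act _).1 e)) _ (act_maxA c f hb) hb1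
      obtain ⟨n, hn⟩ : g ∈ c.act.range := c.range_act.symm ▸ f.N_le hg
      have hna := conj_maxA c f (n := n) (fun w hw => hn.symm ▸ f.N_norm g hg w hw)
        (fun u hu => by rw [hn]; exact f.N_U _ (inv_mem hg) u hu) ⟨hm, haW, hac⟩
      rw [hdiff b (n * ⟨a, hm⟩ * n⁻¹) hb hna (by rw [map_mul, map_mul, map_inv, hn, e])]
      push_cast
      rw [show n.1 * a * n.1⁻¹ * (n.1 * a * n.1⁻¹) = n.1 * (a * a) * n.1⁻¹ by group, h, zC_conj]
    have hpair : ∀ p q : c.M, (p : Subgroup.centralizer ({z} : Set G)) ∈ maxA c f →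
        (q : Subgroup.centralizer ({z} : Set G)) ∈ maxA c f → c.act p ≠ 1 → c.act q ≠ 1 →
        c.act (p * q) ≠ 1 → p.1 * q.1 * p.1⁻¹ = zC z * q.1 := by
      intro p q hp hq hp1 hq1 hpq1
      have h := hall _ (mul_mem hp hq) hpq1
      push_cast at h
      calc p.1 * q.1 * p.1⁻¹ = (p.1 * q.1 * (p.1 * q.1)) * q.1⁻¹ * (p.1 * p.1)⁻¹ := by group
        _ = zC z * q.1⁻¹ * (zC z)⁻¹ := by rw [h, hall p hp hp1]
        _ = q.1⁻¹ := by rw [zC_central, mul_inv_cancel_right]
        _ = zC z * q.1 := by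
          have hq2 := hall q hq hq1
          refine inv_eq_of_mul_eq_one_right ?_
          rw [← mul_assoc, ← zC_central, mul_assoc, hq2, zC_sq hz2]
    obtain ⟨w1, hw1⟩ : ∃ w1, w1 = c.act ⟨a, hm⟩ := ⟨_, rfl⟩
    have hw1W : w1 ∈ f.W := hw1 ▸ haW
    have hw11 : w1 ≠ 1 := fun e => haQ ((c.ker_act _).1 (hw1 ▸ e))
    classical
    have hex : ∀ L : Finset (GS F4), L.card < 16 → ∃ w ∈ f.W, w ∉ L := by
      intro L hL
      by_contra hno
      push Not at hno
      have := Nat.card_le_card_of_injective (fun w : f.W => (⟨w, hno w w.2⟩ : L))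
        (fun x y e => Subtype.ext (congrArg (fun t : L => (t : GS F4)) e))
      rw [f.card_W, Nat.card_eq_fintype_card, Fintype.card_coe] at this
      omega
    obtain ⟨w2, hw2W, hw2⟩ := hex {1, w1} (lt_of_le_of_lt Finset.card_le_two (by norm_num))
    obtain ⟨w3, hw3W, hw3⟩ := hex {1, w1, w2, w1 * w2}
      (lt_of_le_of_lt Finset.card_le_four (by norm_num))
    simp only [Finset.mem_insert, Finset.mem_singleton, not_or] at hw2 hw3
    obtain ⟨p, hp, hp'⟩ := exists_lift_maxA c f uw hz hz2 hzQ hw2W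
    obtain ⟨r, hr, hr'⟩ := exists_lift_maxA c f uw hz hz2 hzQ hw3W
    have hmul1 : ∀ x y : GS F4, x ∈ f.W → x * y = 1 → y = x := fun x y hx e => by
      have h2 : x * x = 1 := (pow_two x).symm.trans (uw.elem.2 x hx)
      exact mul_left_cancel (e.trans h2.symm)
    have n12 : w1 * w2 ≠ 1 := fun e => hw2.2 (hmul1 _ _ hw1W e)
    have n13 : w1 * w3 ≠ 1 := fun e => hw3.2.1 (hmul1 _ _ hw1W e)
    have n23 : w2 * w3 ≠ 1 := fun e => hw3.2.2.1 (hmul1 _ _ hw2W e)
    have n123 : w1 * (w2 * w3) ≠ 1 := fun e => hw3.2.2.2 (hmul1 _ _ (mul_mem hw1W hw2W) (by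
      rwa [mul_assoc]))
    have e12 := hpair ⟨a, hm⟩ p ⟨hm, haW, hac⟩ hp (hw1 ▸ hw11) (hp'.symm ▸ hw2.1)
      (by rw [map_mul, ← hw1, hp']; exact n12)
    have e13 := hpair ⟨a, hm⟩ r ⟨hm, haW, hac⟩ hr (hw1 ▸ hw11) (hr'.symm ▸ hw3.1)
      (by rw [map_mul, ← hw1, hr']; exact n13)
    have e123 := hpair ⟨a, hm⟩ (p * r) ⟨hm, haW, hac⟩ (mul_mem hp hr) (hw1 ▸ hw11)
      (by rw [map_mul, hp', hr']; exact n23) (by rw [map_mul, map_mul, ← hw1, hp', hr']; exact n123)
    push_cast at e12 e13 e123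
    have hfalse : zC z * (p.1 * r.1) = p.1 * r.1 := by
      calc zC z * (p.1 * r.1) = a * (p.1 * r.1) * a⁻¹ := e123.symm
        _ = (a * p.1 * a⁻¹) * (a * r.1 * a⁻¹) := by group
        _ = zC z * (p.1 * zC z) * r.1 := by rw [e12, e13]; group
        _ = zC z * zC z * (p.1 * r.1) := by rw [← zC_central]; group
        _ = p.1 * r.1 := by rw [zC_sq hz2, one_mul]
    exact zC_ne_one hz (mul_eq_right.1 hfalse)
  refine ⟨⟨⟨fun a b => Subtype.ext ?_⟩⟩, fun a ha => by rw [pow_two]; exact hone a ha⟩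
  show a.1 * b.1 = b.1 * a.1
  calc a.1 * b.1 = (a.1 * b.1)⁻¹ := (inv_eq_of_mul_eq_one_right (hone _ (mul_mem a.2 b.2))).symm
    _ = b.1 * a.1 := by
      rw [_root_.mul_inv_rev, inv_eq_of_mul_eq_one_right (hone _ a.2), inv_eq_of_mul_eq_one_right (hone _ b.2)]

theorem card_inter_maxA (uw : UWFacts f) (hz : z ≠ 1) (hzQ : zC z ∈ Q) :
    Nat.card ↥(maxA c f ⊓ Q) = 2 ^ 7 := by
  rw [card_prImage c hz (S := maxA c f ⊓ Q) inf_le_right
    ⟨(mem_maxA_iff c f uw hzQ).2 (by rw [zC_pr c hzQ]; exact f.U.zero_mem), hzQ⟩]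
  have : c.pr '' ((maxA c f ⊓ Q : Subgroup (Subgroup.centralizer ({z} : Set G))) :
      Set (Subgroup.centralizer ({z} : Set G))) = (f.U : Set V6) := by
    ext v
    constructor
    · rintro ⟨q, ⟨hqA, hqQ⟩, rfl⟩; exact (mem_maxA_iff c f uw hqQ).1 hqA
    · intro hv
      obtain ⟨q, hq, rfl⟩ := c.pr_surj v
      exact ⟨q, ⟨(mem_maxA_iff c f uw hq).2 hv, hq⟩, rfl⟩
  rw [this, ← Nat.card_coe_set_eq, show Nat.card ↥(f.U : Set V6) = 64 from f.card_U]
  norm_num

theorem card_maxA (uw : UWFacts f) (hz : z ≠ 1) (hz2 : z * z = 1) (hzQ : zC z ∈ Q) :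
    ((maxA c f).subgroupOf c.M).map c.act = f.W ∧ Nat.card (maxA c f) = 2 ^ 11 := by
  have hmap : ((maxA c f).subgroupOf c.M).map c.act = f.W := by
    refine le_antisymm ?_ fun w hw => ?_
    · rintro _ ⟨m, hm, rfl⟩; exact act_maxA c f hm
    · obtain ⟨m, hm, e⟩ := exists_lift_maxA c f uw hz hz2 hzQ hw
      exact ⟨m, hm, e⟩
  refine ⟨hmap, ?_⟩
  rw [card_actImage c (maxA_le c f), hmap, f.card_W, card_inter_maxA c f uw hz hzQ]
  norm_num

/-- Uniqueness. -/
theorem unique_maxA (uw : UWFacts f) (hs : IsExtraspecialCentralizerSetting z Q 6) (hz : z ≠ 1)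
    (hz2 : z * z = 1)
    (hsemi : ∀ h, h ∉ c.M → ∀ q ∈ Q, ∀ r ∈ Q, ∀ a : F4, c.pr r = a • c.pr q →
      c.pr (h * r * h⁻¹) = a ^ 2 • c.pr (h * q * h⁻¹))
    {T : Subgroup (Subgroup.centralizer ({z} : Set G))} (hT : IsPGroup 2 T) (hAT : maxA c f ≤ T)
    {B₀ : Subgroup (Subgroup.centralizer ({z} : Set G))} (hB₀T : B₀ ≤ T)
    (hB₀ : Cfsg.IsElementaryAbelian 2 B₀) (hB₀c : 2 ^ 11 ≤ Nat.card B₀) : B₀ = maxA c f := by
  have hzQ := zC_mem hs
  have hsqz := zC_sq hz2
  have hzA : zC z ∈ maxA c f := (mem_maxA_iff c f uw hzQ).2 (by rw [zC_pr c hzQ]; exact f.U.zero_mem)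
  obtain ⟨hmap, hcardA⟩ := card_maxA c f uw hz hz2 hzQ
  have h0comm : ∀ x ∈ B₀, ∀ y ∈ B₀, x * y = y * x := fun x hx y hy =>
    congrArg Subtype.val (hB₀.1.1.comm ⟨x, hx⟩ ⟨y, hy⟩)
  -- adjoin the central involution
  let B : Subgroup (Subgroup.centralizer ({z} : Set G)) :=
    { carrier := {b | b ∈ B₀ ∨ zC z * b ∈ B₀}
      one_mem' := Or.inl (one_mem _)
      mul_mem' := by
        rintro a b ha hb
        have e1 : zC z * (a * b) = (zC z * a) * b := (mul_assoc _ _ _).symm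
        have e2 : zC z * (a * b) = a * (zC z * b) := by rw [← mul_assoc, zC_central, mul_assoc]
        have e3 : a * b = (zC z * a) * (zC z * b) := by
          calc a * b = zC z * zC z * (a * b) := by rw [hsqz, one_mul]
            _ = zC z * (zC z * a) * b := by group
            _ = zC z * (a * zC z) * b := by rw [zC_central a]
            _ = zC z * a * (zC z * b) := by group
        rcases ha with ha | ha <;> rcases hb with hb | hb
        · exact Or.inl (mul_mem ha hb)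
        · exact Or.inr (e2 ▸ mul_mem ha hb)
        · exact Or.inr (e1 ▸ mul_mem ha hb)
        · exact Or.inl (e3 ▸ mul_mem ha hb)
      inv_mem' := by
        rintro a (ha | ha)
        · exact Or.inl (inv_mem ha)
        · refine Or.inr ?_
          have : zC z * a⁻¹ = (zC z * a)⁻¹ := by
            rw [_root_.mul_inv_rev, inv_eq_of_mul_eq_one_right hsqz, zC_central]
          rw [this]; exact inv_mem ha }
  have hBmem : ∀ b, b ∈ B ↔ b ∈ B₀ ∨ zC z * b ∈ B₀ := fun b => Iff.rfl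
  have hzB : zC z ∈ B := Or.inr (by rw [hsqz]; exact one_mem _)
  have hB₀B : B₀ ≤ B := fun b hb => Or.inl hb
  have hback : ∀ b, zC z * (zC z * b) = b := fun b => by rw [← mul_assoc, hsqz, one_mul]
  have hel : ∀ b ∈ B, b * b = 1 := by
    rintro b (hb | hb)
    · exact (pow_two b).symm.trans (hB₀.2 b hb)
    · calc b * b = zC z * zC z * (b * b) := by rw [hsqz, one_mul]
        _ = zC z * (zC z * b) * b := by group
        _ = zC z * (b * zC z) * b := by rw [zC_central b]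
        _ = zC z * b * (zC z * b) := by group
        _ = 1 := (pow_two _).symm.trans (hB₀.2 _ hb)
  have hcomm : ∀ x ∈ B, ∀ y ∈ B, x * y = y * x := fun x hx y hy => by
    calc x * y = (x * y)⁻¹ := (inv_eq_of_mul_eq_one_right (hel _ (mul_mem hx hy))).symm
      _ = y * x := by
        rw [_root_.mul_inv_rev, inv_eq_of_mul_eq_one_right (hel _ hx), inv_eq_of_mul_eq_one_right (hel _ hy)]
  have hBT : B ≤ T := by
    rintro b (hb | hb)
    · exact hB₀T hb
    · rw [← hback b]; exact mul_mem (hAT hzA) (hB₀T hb)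
  suffices hBA : B ≤ maxA c f by
    exact Subgroup.eq_of_le_of_card_ge (hB₀B.trans hBA) (hcardA ▸ hB₀c)
  have hBc : 2 ^ 11 ≤ Nat.card B := hB₀c.trans (Subgroup.card_le_of_le hB₀B)
  -- the part in `Q`
  obtain ⟨U', hU'⟩ : ∃ U', U' = c.pr '' ((B ⊓ Q : Subgroup (Subgroup.centralizer ({z} : Set G))) :
      Set (Subgroup.centralizer ({z} : Set G))) := ⟨_, rfl⟩
  have hBQ : Nat.card ↥(B ⊓ Q) = 2 * U'.ncard := hU' ▸ card_prImage c hz inf_le_right ⟨hzB, hzQ⟩
  have hBQ7 : Nat.card ↥(B ⊓ Q) ≤ 2 ^ 7 := by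
    have h := ex_abelian_sq_le hs.2.2.1 ((B ⊓ Q).subgroupOf Q) fun x hx y hy =>
      Subtype.ext (hcomm _ hx.1 _ hy.1)
    rw [Nat.card_congr (Subgroup.subgroupOfEquivOfLe inf_le_right).toEquiv, hs.2.2.2.1] at h
    by_contra hh
    push Not at hh
    have := Nat.pow_le_pow_left hh.le 2
    have := Nat.pow_lt_pow_left hh (two_ne_zero)
    norm_num at *
    omega
  -- the part in `c.M` and its image
  obtain ⟨Wb, hWb⟩ : ∃ Wb, Wb = ((B ⊓ c.M).subgroupOf c.M).map c.act := ⟨_, rfl⟩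
  have hBM : Nat.card ↥(B ⊓ c.M) = Nat.card Wb * Nat.card ↥(B ⊓ Q) := by
    rw [hWb, card_actImage c inf_le_right]
    congr 1
    rw [inf_assoc, inf_eq_right.2 c.le_M]
  have hWbK : Wb ≤ K c.b := by
    rw [hWb]; rintro _ ⟨m, -, rfl⟩; exact c.range_act ▸ ⟨m, rfl⟩
  have hWbel : Cfsg.IsElementaryAbelian 2 Wb := by
    subst hWb
    refine ⟨⟨⟨fun x y => Subtype.ext ?_⟩⟩, ?_⟩
    · obtain ⟨a, ha, e⟩ := x.2
      obtain ⟨b, hb, e'⟩ := y.2
      push_cast
      rw [← e, ← e', ← map_mul, ← map_mul]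
      exact congrArg _ (Subtype.ext (hcomm _ ha.1 _ hb.1))
    · rintro _ ⟨a, ha, rfl⟩
      rw [← map_pow, show a ^ 2 = 1 from Subtype.ext ((pow_two _).trans (hel _ ha.1)), map_one]
  have hfix : U' ⊆ fixV (Wb : Set (GS F4)) := by
    subst hWb hU'
    rintro _ ⟨q, ⟨hqB, hqQ⟩, rfl⟩ _ ⟨m, hm, rfl⟩
    show mat (c.act m) *ᵥ c.pr q = c.pr q
    rw [← c.conj_pr m q hqQ]
    show c.pr (m.1 * q * m.1⁻¹) = c.pr q
    rw [hcomm m.1 hm.1 q hqB, mul_inv_cancel_right]
  by_cases hout : B ≤ c.M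
  · rw [inf_eq_left.2 hout] at hBM
    have hW16 : 16 ≤ Nat.card Wb := by
      by_contra hh
      push Not at hh
      have : Nat.card Wb * Nat.card ↥(B ⊓ Q) ≤ 15 * 2 ^ 7 := Nat.mul_le_mul (by omega) hBQ7
      omega
    have hW := (uw.small Wb hWbK hWbel hW16).1
    have hU64 : U'.ncard = 64 := by
      rw [hW, hBQ] at hBM
      omega
    have hWeq : Wb = f.W := by
      refine uw.unique ((T.subgroupOf c.M).map c.act) Wb ?_ ?_ ?_ ?_ hWbel hW16 ?_
      · rintro _ ⟨m, -, rfl⟩; exact c.range_act ▸ ⟨m, rfl⟩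
      · refine IsPGroup.map ?_ _
        exact (hT.comap_of_injective _ (Subgroup.subtype_injective _))
      · rw [← hmap]; exact Subgroup.map_mono fun m hm => hAT hm
      · rw [hWb]; exact Subgroup.map_mono fun m hm => hBT hm.1
      · have := Set.ncard_le_ncard hfix (Set.toFinite _)
        omega
    have hU'U : U' = (f.U : Set V6) := by
      refine Set.eq_of_subset_of_ncard_le (fun v hv => uw.fixed v fun w hw => hfix hv w (hWeq ▸ hw)) ?_
        (Set.toFinite _)
      rw [← Nat.card_coe_set_eq, hU64]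
      exact f.card_U.le
    intro b hb
    refine ⟨hout hb, ?_, fun q hq hu => ?_⟩
    · rw [← hWeq, hWb]
      exact ⟨⟨b, hout hb⟩, ⟨hb, hout hb⟩, rfl⟩
    · obtain ⟨r, ⟨hrB, hrQ⟩, hr⟩ : ∃ r ∈ (B ⊓ Q : Subgroup (Subgroup.centralizer ({z} : Set G))),
          c.pr r = c.pr q := by
        have h : c.pr q ∈ U' := hU'U ▸ hu
        rw [hU'] at h
        exact h
      rcases eq_cases c hq hrQ hr.symm with e | e <;> rw [e]
      · exact hcomm b hb r hrB
      · exact hcomm b hb _ (mul_mem hzB hrB)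
  · exfalso
    obtain ⟨e, heB, heM⟩ := SetLike.not_le_iff_exists.1 hout
    have h2 : Nat.card B ≤ 2 * Nat.card ↥(B ⊓ c.M) := by
      classical
      let φ : B → Bool × ↥(B ⊓ c.M) := fun b =>
        if h : b.1 ∈ c.M then (true, ⟨b.1, b.2, h⟩) else (false, ⟨e * b.1, mul_mem heB b.2,
          (Subgroup.mul_mem_iff_of_index_two c.index_M).2 ⟨fun h' => absurd h' heM, fun h' => absurd h' h⟩⟩)
      have hφ : Function.Injective φ := by
        intro x y hxy
        simp only [φ] at hxy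
        split at hxy <;> split at hxy <;> simp only [Prod.mk.injEq, Subtype.mk.injEq] at hxy
        · exact Subtype.ext (congrArg Subtype.val hxy.2 :)
        · exact Bool.noConfusion hxy.1
        · exact Bool.noConfusion hxy.1
        · exact Subtype.ext (mul_left_cancel (congrArg Subtype.val hxy.2 :))
      have := Nat.card_le_card_of_injective φ hφ
      rw [Nat.card_prod, Nat.card_eq_fintype_card (α := Bool), Fintype.card_bool] at this
      exact this
    rw [hBM, hBQ] at h2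
    have hadd : ∀ x ∈ U', ∀ y ∈ U', x + y ∈ U' := by
      subst hU'
      rintro _ ⟨x, hx, rfl⟩ _ ⟨y, hy, rfl⟩
      exact ⟨x * y, mul_mem hx hy, c.pr_mul x hx.2 y hy.2⟩
    have hindep : ∀ x ∈ U', ∀ y ∈ U', x = om • y → y = 0 := by
      subst hU'
      rintro _ ⟨r, ⟨hrB, hrQ⟩, rfl⟩ _ ⟨q, ⟨hqB, hqQ⟩, rfl⟩ he
      have h := hsemi e heM q hqQ r hrQ om he
      rw [hcomm e heB r hrB, hcomm e heB q hqB, mul_inv_cancel_right, mul_inv_cancel_right, he] at h
      exact funext fun i => (by decide +kernel : ∀ t : F4, om * t = om ^ 2 * t → t = 0) _ (congrFun h i)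
    have hbig : U'.ncard * U'.ncard ≤ (fixV (Wb : Set (GS F4))).ncard := by
      rw [← Set.ncard_prod]
      refine Set.ncard_le_ncard_of_injOn (fun p : V6 × V6 => p.1 + om • p.2) ?_ ?_ (Set.toFinite _)
      · rintro ⟨x, y⟩ ⟨hx, hy⟩ w hw
        show mat w *ᵥ (x + om • y) = x + om • y
        rw [Matrix.mulVec_add, Matrix.mulVec_smul, show mat w *ᵥ x = x from hfix hx w hw,
          show mat w *ᵥ y = y from hfix hy w hw]
      · rintro ⟨x, y⟩ ⟨hx, hy⟩ ⟨x', y'⟩ ⟨hx', hy'⟩ he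
        have he' : x + om • y = x' + om • y' := he
        have h1 : x + x' = om • (y + y') := by
          calc x + x' = (x + om • y) + (x' + om • y) := by
                rw [add_add_add_comm, pf_self, add_zero]
            _ = (x' + om • y') + (x' + om • y) := by rw [he']
            _ = om • (y + y') := by rw [add_add_add_comm, pf_self, zero_add, ← smul_add, add_comm y']
        have hy0 := pf_eq_of_add _ _ (hindep _ (hadd _ hx _ hx') _ (hadd _ hy _ hy') h1)
        subst hy0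
        rw [add_left_inj] at he'
        subst he'
        rfl
    have hU64 : U'.ncard ≤ 64 := by omega
    have hdvd : U'.ncard ∣ 64 := by
      have h2p : IsPGroup 2 ↥(B ⊓ Q) := fun x => ⟨1, Subtype.ext (by
        rw [pow_one, pow_two]; exact hel _ x.2.1)⟩
      obtain ⟨k, hk⟩ := IsPGroup.iff_card.1 h2p
      have hk7 : k ≤ 7 := (Nat.pow_le_pow_iff_right (by norm_num : 1 < 2)).1 (hk ▸ hBQ7)
      have : 2 * U'.ncard ∣ 2 * 64 := by
        rw [← hBQ, hk]; exact pow_dvd_pow 2 hk7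
      exact (Nat.mul_dvd_mul_iff_left (by norm_num)).1 this
    by_cases hall : U'.ncard = 64
    · have hV : Nat.card V6 = 4096 := by
        rw [Nat.card_eq_fintype_card, Fintype.card_fun, card_F4, Fintype.card_fin]; norm_num
      have huniv : fixV (Wb : Set (GS F4)) = Set.univ := Set.eq_of_subset_of_ncard_le (Set.subset_univ _)
        (by rw [Set.ncard_univ, hV]; rw [hall] at hbig; omega) (Set.toFinite _)
      have hbot : Wb = ⊥ := (Subgroup.eq_bot_iff_forall _).2 fun w hw => CfsgLib.Trans3.FischerType.ext_app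
        fun v => by
          have : v ∈ fixV (Wb : Set (GS F4)) := huniv ▸ Set.mem_univ v
          rw [this w hw, CfsgLib.Trans3.FischerType.app_one]
      rw [hbot, Subgroup.card_bot, hall] at h2
      omega
    · have h32 : U'.ncard ≤ 32 := by
        obtain ⟨k, hk, e'⟩ := (Nat.dvd_prime_pow Nat.prime_two (m := 6)).1 hdvd
        rw [e'] at hall ⊢
        have : k ≤ 5 := by
          by_contra hh
          exact hall (by rw [show k = 6 by omega]; norm_num)
        exact (Nat.pow_le_pow_right (by norm_num) this).trans (by norm_num)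
      have hW16 : 16 ≤ Nat.card Wb := by
        by_contra hh
        push Not at hh
        have : Nat.card Wb * (2 * U'.ncard) ≤ 15 * (2 * 32) := Nat.mul_le_mul (by omega) (by omega)
        omega
      obtain ⟨h16, hle64⟩ := uw.small Wb hWbK hWbel hW16
      rw [h16] at h2
      have : 32 * 32 ≤ U'.ncard * U'.ncard := Nat.mul_le_mul (by omega) (by omega)
      omega

include c in
/-- A Sylow 2-subgroup of the centraliser is one of the whole group. -/
theorem sylow_of_centralizer (hs : IsExtraspecialCentralizerSetting z Q 6)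
    (T : Sylow 2 ↥(Subgroup.centralizer ({z} : Set G))) :
    ∃ P : Sylow 2 G, (P : Subgroup G) =
      (T : Subgroup (Subgroup.centralizer ({z} : Set G))).map (Subgroup.centralizer ({z} : Set G)).subtype := by
  haveI : Fact (Nat.Prime 2) := ⟨Nat.prime_two⟩
  have hQT : Q ≤ (T : Subgroup (Subgroup.centralizer ({z} : Set G))) := by
    have hQ2 : IsPGroup 2 Q := IsPGroup.of_card (n := 13) hs.2.2.2.1
    have h := T.is_maximal' (hQ2.to_sup_of_normal_left T.isPGroup') le_sup_right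
    rw [← h]; exact le_sup_left
  obtain ⟨T', hT'⟩ : ∃ T', T' =
    (T : Subgroup (Subgroup.centralizer ({z} : Set G))).map (Subgroup.centralizer ({z} : Set G)).subtype :=
    ⟨_, rfl⟩
  obtain ⟨P, hP⟩ := (hT' ▸ T.isPGroup'.map _ : IsPGroup 2 T').exists_le_sylow
  refine ⟨P, ?_⟩
  rw [← hT']
  by_contra hne
  have hlt : T'.subgroupOf (P : Subgroup G) < ⊤ := lt_of_le_of_ne le_top fun e =>
    hne (le_antisymm (Subgroup.subgroupOf_eq_top.1 e) hP)
  haveI := P.isPGroup'.isNilpotent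
  obtain ⟨n, hn, hnot⟩ := SetLike.exists_of_lt
    (Group.normalizerCondition_of_isNilpotent (T'.subgroupOf (P : Subgroup G)) hlt)
  have hzT : zC z ∈ (T : Subgroup (Subgroup.centralizer ({z} : Set G))) := hQT (zC_mem hs)
  have hzT' : z ∈ T' := hT' ▸ ⟨zC z, hzT, rfl⟩
  -- `n` normalises the centre of the Sylow subgroup
  have hnorm : ∀ x ∈ T', (n : G) * x * (n : G)⁻¹ ∈ T' := fun x hx =>
    (Subgroup.mem_normalizer_iff.1 hn ⟨x, hP hx⟩).1 hx
  have hnorm' : ∀ x ∈ T', (n : G)⁻¹ * x * (n : G) ∈ T' := fun x hx => by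
    have h := (Subgroup.mem_normalizer_iff.1 (inv_mem hn) ⟨x, hP hx⟩).1 hx
    change (n : G)⁻¹ * x * (n : G)⁻¹⁻¹ ∈ T' at h
    rwa [inv_inv] at h
  obtain ⟨y, hyT, hy⟩ : ∃ y ∈ (T : Subgroup (Subgroup.centralizer ({z} : Set G))), (y : G) = n * z * (n : G)⁻¹ :=
    by
      have := hnorm z hzT'
      rw [hT'] at this
      exact this
  have hycent : ∀ q ∈ Q, y * q = q * y := fun q hq => Subtype.ext (by
    push_cast
    rw [hy]
    have hq' : (q : G) ∈ T' := hT' ▸ ⟨q, hQT hq, rfl⟩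
    have h' := hnorm' _ hq'
    rw [hT'] at h'
    obtain ⟨r, -, hr⟩ := h'
    have hc := Subgroup.mem_centralizer_singleton_iff.1 r.2
    rw [show (r : G) = (n : G)⁻¹ * q * n from hr] at hc
    calc (n : G) * z * (n : G)⁻¹ * q = n * (z * ((n : G)⁻¹ * q * n)) * (n : G)⁻¹ := by group
      _ = n * ((n : G)⁻¹ * q * n * z) * (n : G)⁻¹ := by rw [hc]
      _ = q * (n * z * (n : G)⁻¹) := by group)
  have hyQ : y ∈ Q := cent_le hs (Subgroup.mem_centralizer_iff.2 fun q hq => (hycent q hq).symm)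
  have hy0 : c.pr y = 0 := by
    by_contra h0
    obtain ⟨v, hv⟩ := bform_nondeg h0
    obtain ⟨q, hq, rfl⟩ := c.pr_surj v
    exact zero_ne_one (((c.comm_iff y hyQ q hq).1 (hycent q hq)).symm.trans hv)
  have hnH : (n : G) ∈ Subgroup.centralizer ({z} : Set G) := by
    rw [Subgroup.mem_centralizer_singleton_iff, ← mul_inv_eq_iff_eq_mul, ← hy]
    refine ((c.pr_eq_zero y hyQ).1 hy0).resolve_left fun h1 => ?_
    rw [hy, mul_inv_eq_one, mul_eq_left] at h1
    have := hs.1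
    simp [h1] at this
  have h2 : IsPGroup 2 ((P : Subgroup G).comap (Subgroup.centralizer ({z} : Set G)).subtype) :=
    P.isPGroup'.comap_of_injective _ (Subgroup.subtype_injective _)
  have hmax := T.is_maximal' h2 fun t ht => hP (hT' ▸ ⟨t, ht, rfl⟩)
  refine hnot ?_
  show (n : G) ∈ T'
  rw [hT']
  exact ⟨⟨n, hnH⟩, hmax ▸ n.2, rfl⟩

end CfsgLib.Trans3.FischerType.PairCode
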