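import Cfsg.Agent.Lib.Trans3.FischerType.WDef
import Mathlib.Algebra.BigOperators.Ring.Finset

/-!
The alternating form on the six-dimensional space takes the values 0, 1, is additive in each variable and
separates two different vectors.
-/

set_option autoImplicit false

namespace CfsgLib.Trans3.FischerType.PairCode

open Matrix CfsgLib.Trans3.FiLarge

theorem f4_tr_range : ∀ x : F4, x + x ^ 2 = 0 ∨ x + x ^ 2 = 1 := by decide

theorem f4_sq_add : ∀ a b : F4, (a + b) ^ 2 = a ^ 2 + b ^ 2 := by decide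

theorem f4_two : ∀ a : F4, a + a = 0 := by decide

theorem f4_tr_surj : ∀ x : F4, x ≠ 0 → ∃ a : F4, x * a ^ 2 + (x * a ^ 2) ^ 2 = 1 := by decide

theorem pf_self (x : V6) : x + x = 0 := funext fun _ => f4_two _

theorem pf_eq_of_add (x y : V6) (h : x + y = 0) : x = y := by
  calc x = x + (y + y) := by rw [pf_self, add_zero]
    _ = y := by rw [← add_assoc, h, zero_add]

theorem bform_01 (u v : V6) : bform u v = 0 ∨ bform u v = 1 := f4_tr_range _

theorem bform_add_left (u u' v : V6) : bform (u + u') v = bform u v + bform u' v := by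
  have h : herm6 (u + u') v = herm6 u v + herm6 u' v := by
    simp only [herm6, Cfsg.hermForm, Pi.add_apply, add_mul, Finset.sum_add_distrib]
  rw [bform, h, f4_sq_add, bform, bform]
  abel

theorem bform_add_right (u v v' : V6) : bform u (v + v') = bform u v + bform u v' := by
  have h : herm6 u (v + v') = herm6 u v + herm6 u v' := by
    simp only [herm6, Cfsg.hermForm, Pi.add_apply, f4_sq_add, mul_add, Finset.sum_add_distrib]
  rw [bform, h, f4_sq_add, bform, bform]
  abel

theorem bform_nondeg {u : V6} (hu : u ≠ 0) : ∃ v, bform u v = 1 := by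
  obtain ⟨i, hi⟩ := Function.ne_iff.1 hu
  obtain ⟨a, ha⟩ := f4_tr_surj (u i) hi
  refine ⟨Pi.single i a, ?_⟩
  have h : herm6 u (Pi.single i a) = u i * a ^ 2 := by
    simp only [herm6, Cfsg.hermForm]
    rw [Finset.sum_eq_single i (fun j _ hj => by rw [Pi.single_eq_of_ne hj]; simp) (by simp),
      Pi.single_eq_same]
  rw [bform, h, ha]

theorem bform_sep {u u' : V6} (hu : u ≠ 0) (hne : u' ≠ u) : ∃ v, bform u v = 1 ∧ bform u' v = 0 := by
  by_contra h
  have h1 : ∀ v, bform u v = 1 → bform u' v = 1 := fun v hv =>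
    (bform_01 u' v).resolve_left fun h' => h ⟨v, hv, h'⟩
  obtain ⟨v₁, hv₁⟩ := bform_nondeg hu
  have hall : ∀ v, bform (u + u') v = 0 := by
    intro v
    rw [bform_add_left]
    rcases bform_01 u v with hv | hv
    · have h2 := h1 (v + v₁) (by rw [bform_add_right, hv, hv₁, zero_add])
      rw [bform_add_right, h1 v₁ hv₁, add_eq_right] at h2
      rw [hv, h2, add_zero]
    · rw [hv, h1 v hv, f4_two]
  by_cases h0 : u + u' = 0
  · exact hne (pf_eq_of_add u u' h0).symm
  · obtain ⟨v, hv⟩ := bform_nondeg h0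
    exact zero_ne_one ((hall v).symm.trans hv)

theorem bform_pair {u u' : V6} (hu : u ≠ 0) (hu' : u' ≠ 0) (hne : u' ≠ u) (e e' : F4) (he : e = 0 ∨ e = 1)
    (he' : e' = 0 ∨ e' = 1) : ∃ v, bform u v = e ∧ bform u' v = e' := by
  obtain ⟨v, h1, h2⟩ := bform_sep hu hne
  obtain ⟨w, h3, h4⟩ := bform_sep hu' hne.symm
  have h0 : ∀ x, bform x 0 = 0 := fun x => by
    have h := bform_add_right x 0 0
    rw [add_zero, f4_two] at h
    exact h
  rcases he with rfl | rfl <;> rcases he' with rfl | rfl
  · exact ⟨0, h0 _, h0 _⟩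
  · exact ⟨w, h4, h3⟩
  · exact ⟨v, h1, h2⟩
  · exact ⟨v + w, by rw [bform_add_right, h1, h4, add_zero], by rw [bform_add_right, h2, h3, zero_add]⟩

end CfsgLib.Trans3.FischerType.PairCode
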