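import Cfsg.Agent.Lib.Trans3.FischerType.Sylow
import Cfsg.Agent.Lib.Trans3.FischerType.PairForm
import Cfsg.Agent.Lib.Trans3.FischerType.TripleCoord
import Cfsg.Agent.Lib.Trans3.InnerCentral
import Mathlib.GroupTheory.Perm.Cycle.Type

/-!
# Consequences of the module facts for the cover number `0`

`W` is elementary abelian, its fixed space is `U`, `U` is totally singular, equal to its orthogonal, every
character of `U` comes from the form, and `W` is the whole pointwise stabiliser of `U`.
-/

set_option autoImplicit false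
set_option linter.unusedSectionVars false
set_option linter.style.haveILetI false

namespace CfsgLib.Trans3.FischerType.PairCode

open Matrix CfsgLib.Chev.U43U6 CfsgLib.Trans3.FiLarge
open CfsgLib.Trans3.FischerType (app fixV ea_Kb app_mul app_one app_inv ext_app f4_smul_right)

namespace WFacts

variable (f : WFacts 0)

theorem W_le_K : f.W ≤ K 0 := f.W_le.trans f.N_le

theorem W_sq : ∀ w ∈ f.W, w * w = 1 := by
  haveI : Fact (Nat.Prime 2) := ⟨Nat.prime_two⟩
  obtain ⟨x, hx⟩ := exists_prime_orderOf_dvd_card' (G := f.W) 2 (by rw [f.card_W]; norm_num)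
  have hx1 : (x : GS F4) ≠ 1 := fun e => by
    rw [show x = 1 from Subtype.ext e, orderOf_one] at hx
    norm_num at hx
  have hxx : (x : GS F4) * x = 1 := by
    have := pow_orderOf_eq_one x
    rw [hx, pow_two] at this
    exact congrArg Subtype.val this
  intro w hw
  by_cases h : w = 1
  · rw [h, mul_one]
  · obtain ⟨g, -, rfl⟩ := f.trans_W _ x.2 hx1 w hw h
    rw [show g * (x : GS F4) * g⁻¹ * (g * x * g⁻¹) = g * (x * x) * g⁻¹ by group, hxx, mul_one,
      mul_inv_cancel]

theorem W_elem : Cfsg.IsElementaryAbelian 2 f.W := by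
  refine ⟨⟨⟨fun a b => Subtype.ext ?_⟩⟩, fun a ha => by rw [pow_two]; exact f.W_sq a ha⟩
  show (a : GS F4) * b = b * a
  have h := f.W_sq _ (mul_mem a.2 b.2)
  have ha := f.W_sq _ a.2
  have hb := f.W_sq _ b.2
  calc (a : GS F4) * b = ((a : GS F4) * b)⁻¹ := (inv_eq_of_mul_eq_one_right h).symm
    _ = (b : GS F4) * a := by rw [_root_.mul_inv_rev, inv_eq_of_mul_eq_one_right ha, inv_eq_of_mul_eq_one_right hb]

/-- The vectors fixed by `W` are those of `U`. -/
theorem mem_U_of_fix {v : V6} (h : ∀ w ∈ f.W, mat w *ᵥ v = v) : v ∈ f.U := by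
  have hsub : (f.U : Set V6) ⊆ fixV (f.W : Set (GS F4)) := fun u hu w hw => f.W_fix w hw u hu
  have hle := (ea_Kb isOmega_om card_F4 f.W_le_K f.W_elem f.card_W.ge).2.1
  have hU : (f.U : Set V6).ncard = 64 := by rw [← Nat.card_coe_set_eq]; exact f.card_U
  have := Set.eq_of_subset_of_ncard_le hsub (by omega) (Set.toFinite _)
  rw [← SetLike.mem_coe, this]
  exact h

theorem smul_mem {u : V6} (hu : u ∈ f.U) (a : F4) : a • u ∈ f.U :=
  f.mem_U_of_fix fun w hw => by rw [Matrix.mulVec_smul, f.W_fix w hw u hu]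

theorem U_iso {u : V6} (hu : u ∈ f.U) : herm6 u u = 0 := by
  have h1 := f.U_bform u hu u hu
  have h2 := f.U_bform u hu _ (f.smul_mem hu om)
  rw [bform, f4_smul_right] at h2
  rw [bform] at h1
  exact (by decide +kernel : ∀ x : F4, x + x ^ 2 = 0 → om ^ 2 * x + (om ^ 2 * x) ^ 2 = 0 → x = 0) _ h1 h2

/-- The bit of an element of the prime field. -/
def bitF (x : F4) : Multiplicative (ZMod 2) := Multiplicative.ofAdd (if x = 1 then 1 else 0)

theorem bitF_add {x y : F4} (hx : x = 0 ∨ x = 1) (hy : y = 0 ∨ y = 1) :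
    bitF (x + y) = bitF x * bitF y := by
  rcases hx with rfl | rfl <;> rcases hy with rfl | rfl <;> decide +kernel

theorem bitF_eq_one {x : F4} (hx : x = 0 ∨ x = 1) : bitF x = 1 ↔ x = 0 := by
  rcases hx with rfl | rfl <;> decide +kernel

/-- The pairing with `U`. -/
noncomputable def pairHom : Multiplicative V6 →* (Multiplicative f.U →* Multiplicative (ZMod 2)) :=
  MonoidHom.mk' (fun v => MonoidHom.mk' (fun u => bitF (bform v.toAdd (u.toAdd : V6)))
      fun u u' => by
        show bitF (bform _ ((u.toAdd : V6) + (u'.toAdd : V6))) = _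
        rw [bform_add_right, bitF_add (bform_01 _ _) (bform_01 _ _)])
    fun v v' => MonoidHom.ext fun u => by
      show bitF (bform (v.toAdd + v'.toAdd) _) = _
      rw [bform_add_left, bitF_add (bform_01 _ _) (bform_01 _ _)]
      rfl

theorem pairHom_apply (v : V6) (u : f.U) :
    f.pairHom (Multiplicative.ofAdd v) (Multiplicative.ofAdd u) = bitF (bform v u) := rfl

theorem bform_symm (u v : V6) : bform u v = bform v u := by
  have h : herm6 v u = herm6 u v ^ 2 := by
    simp only [herm6, Cfsg.hermForm]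
    rw [sum_sq]
    exact Finset.sum_congr rfl fun i _ =>
      (by decide +kernel : ∀ a b : F4, a * b ^ 2 = (b * a ^ 2) ^ 2) _ _
  rw [bform, bform, h]
  exact (by decide +kernel : ∀ x : F4, x + x ^ 2 = x ^ 2 + (x ^ 2) ^ 2) _
where
  sum_sq {g : Fin 6 → F4} : (∑ i, g i) ^ 2 = ∑ i, g i ^ 2 := by
    simp only [Fin.sum_univ_six, f4_sq_add]

theorem card_pairHom : Nat.card f.pairHom.ker = 64 ∧ Function.Surjective f.pairHom := by
  classical
  set Kr := f.pairHom.ker
  have hV : Nat.card (Multiplicative V6) = 4096 := by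
    rw [Nat.card_congr Multiplicative.toAdd, Nat.card_eq_fintype_card, Fintype.card_fun, card_F4,
      Fintype.card_fin]
    norm_num
  have hmul := Kr.card_mul_index
  rw [hV] at hmul
  have hUK : ∀ u ∈ f.U, Multiplicative.ofAdd u ∈ Kr := fun u hu => MonoidHom.ext fun u' => by
    show bitF (bform u _) = 1
    exact (bitF_eq_one (bform_01 _ _)).2 (f.U_bform u hu _ (Multiplicative.toAdd u').2)
  have h64 : 64 ≤ Nat.card Kr := by
    rw [← f.card_U]
    exact Nat.card_le_card_of_injective (fun u : f.U => (⟨Multiplicative.ofAdd (u : V6), hUK u u.2⟩ : Kr))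
      fun a b e => Subtype.ext (congrArg (fun x : Kr => Multiplicative.toAdd (x : Multiplicative V6)) e)
  have hidx : 64 ≤ Kr.index := by
    let ψ : Multiplicative f.U → (Multiplicative V6 ⧸ Kr →* Multiplicative (ZMod 2)) := fun u =>
      QuotientGroup.lift Kr (f.pairHom.flip u) fun v hv => by
        show (f.pairHom v) u = 1
        rw [MonoidHom.mem_ker.1 hv]; rfl
    have hψ : Function.Injective ψ := by
      intro u u' e
      by_contra hne
      have hne' : ((Multiplicative.toAdd u : f.U) : V6) + ((Multiplicative.toAdd u' : f.U) : V6) ≠ 0 :=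
        fun h => hne (Multiplicative.toAdd.injective (Subtype.ext (pf_eq_of_add _ _ h)))
      obtain ⟨v, hv⟩ := bform_nondeg hne'
      have h := DFunLike.congr_fun e (QuotientGroup.mk (Multiplicative.ofAdd v))
      change bitF (bform v _) = bitF (bform v _) at h
      rw [bform_symm, bform_symm v] at h
      rw [bform_add_left] at hv
      rcases bform_01 ((Multiplicative.toAdd u : f.U) : V6) v with a | a <;>
        rcases bform_01 ((Multiplicative.toAdd u' : f.U) : V6) v with b | b <;>
        rw [a, b] at hv h <;> revert hv h <;> decide +kernel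
    haveI : Finite (Multiplicative V6 ⧸ Kr →* Multiplicative (ZMod 2)) :=
      Finite.of_injective _ DFunLike.coe_injective
    have h := (Nat.card_le_card_of_injective ψ hψ).trans
      (card_hom_to_order_two_le (H := Multiplicative V6 ⧸ Kr)
        (by rw [Nat.card_congr Multiplicative.toAdd, Nat.card_zmod]))
    rw [Nat.card_congr Multiplicative.toAdd, f.card_U] at h
    exact h
  have hK : Nat.card Kr = 64 ∧ Kr.index = 64 := by
    rcases Nat.lt_or_ge 64 (Nat.card Kr) with h | h
    · nlinarith
    · have hc : Nat.card Kr = 64 := by omega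
      rw [hc] at hmul
      exact ⟨hc, by omega⟩
  haveI : Finite (Multiplicative f.U →* Multiplicative (ZMod 2)) := Finite.of_injective _ DFunLike.coe_injective
  refine ⟨hK.1, MonoidHom.range_eq_top.1 (Subgroup.eq_top_of_le_card _ ?_)⟩
  refine (card_hom_to_order_two_le (H := Multiplicative f.U)
    (by rw [Nat.card_congr Multiplicative.toAdd, Nat.card_zmod])).trans ?_
  rw [Nat.card_congr Multiplicative.toAdd, f.card_U, ← Subgroup.index_ker]
  exact hK.2.ge

/-- `U` is its own orthogonal. -/
theorem perp {v : V6} (h : ∀ u ∈ f.U, bform v u = 0) : v ∈ f.U := by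
  have hsub : ((fun u : V6 => Multiplicative.ofAdd u) '' f.U) ⊆ (f.pairHom.ker : Set (Multiplicative V6)) := by
    rintro _ ⟨u, hu, rfl⟩
    exact MonoidHom.ext fun u' => (bitF_eq_one (bform_01 _ _)).2 (f.U_bform u hu _ (Multiplicative.toAdd u').2)
  have heq := Set.eq_of_subset_of_ncard_le hsub (by
    rw [Set.ncard_image_of_injective _ Multiplicative.ofAdd.injective, ← Nat.card_coe_set_eq,
      ← Nat.card_coe_set_eq]
    exact (f.card_pairHom.1.trans f.card_U.symm).le) (Set.toFinite _)
  have hv : Multiplicative.ofAdd v ∈ (f.pairHom.ker : Set (Multiplicative V6)) :=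
    MonoidHom.ext fun u' => (bitF_eq_one (bform_01 _ _)).2 (h _ (Multiplicative.toAdd u').2)
  rw [← heq] at hv
  obtain ⟨u, hu, e⟩ := hv
  exact Multiplicative.ofAdd.injective e ▸ hu

/-- Every character of `U` is given by the form. -/
theorem exists_char (χ : f.U → F4) (h01 : ∀ u, χ u = 0 ∨ χ u = 1) (hadd : ∀ u u', χ (u + u') = χ u + χ u') :
    ∃ v : V6, ∀ u : f.U, bform v u = χ u := by
  obtain ⟨v, hv⟩ := f.card_pairHom.2 (MonoidHom.mk' (fun u => bitF (χ (Multiplicative.toAdd u)))
    fun u u' => by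
      show bitF (χ (Multiplicative.toAdd u + Multiplicative.toAdd u')) = _
      rw [hadd, bitF_add (h01 _) (h01 _)])
  refine ⟨Multiplicative.toAdd v, fun u => ?_⟩
  have h := DFunLike.congr_fun hv (Multiplicative.ofAdd u)
  change bitF (bform (Multiplicative.toAdd v) (u : V6)) = bitF (χ u) at h
  rcases bform_01 (Multiplicative.toAdd v) u with a | a <;> rcases h01 u with b | b <;> rw [a, b] at h ⊢ <;>
    revert h <;> decide +kernel

/-- `W` is the pointwise stabiliser of `U`. -/
theorem fixer {g : GS F4} (hg : g ∈ K 0) (hfix : ∀ u ∈ f.U, mat g *ᵥ u = u) : g ∈ f.W := by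
  let Fx : Subgroup (GS F4) :=
    { carrier := {g | g ∈ K 0 ∧ ∀ u ∈ f.U, app g u = u}
      one_mem' := ⟨one_mem _, fun u _ => app_one u⟩
      mul_mem' := fun {a b} ha hb => ⟨mul_mem ha.1 hb.1, fun u hu => by rw [app_mul, hb.2 u hu, ha.2 u hu]⟩
      inv_mem' := fun {a} ha => ⟨inv_mem ha.1, fun u hu => by
        conv_lhs => rw [← ha.2 u hu]
        exact app_inv a u⟩ }
  have hd : ∀ a ∈ Fx, ∀ v, app a v + v ∈ f.U := fun a ha v => f.perp fun u hu => by
    have h1 : bform (app a v) u = bform v u := by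
      conv_lhs => rw [← ha.2 u hu]
      rw [bform, bform]
      have := herm_mat a v u
      simp only [app, herm6] at this ⊢
      rw [this]
    rw [bform_add_left, h1, f4_two]
  have hsplit : ∀ a ∈ Fx, ∀ b ∈ Fx, ∀ v, app (a * b) v = v + (app a v + v) + (app b v + v) := by
    intro a ha b hb v
    have e : app b v = v + (app b v + v) := by rw [add_left_comm, pf_self, add_zero]
    rw [app_mul]
    conv_lhs => rw [e]
    rw [app, Matrix.mulVec_add, ← app, ← app, ha.2 _ (hd b hb v)]
    conv_lhs => rw [show app a v = v + (app a v + v) by rw [add_left_comm, pf_self, add_zero]]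
  have hel : Cfsg.IsElementaryAbelian 2 Fx := by
    refine ⟨⟨⟨fun a b => Subtype.ext (ext_app fun v => ?_)⟩⟩, fun a ha => ext_app fun v => ?_⟩
    · show app (a.1 * b.1) v = app (b.1 * a.1) v
      rw [hsplit _ a.2 _ b.2, hsplit _ b.2 _ a.2, add_right_comm]
    · rw [pow_two, hsplit a ha a ha, add_assoc, pf_self, add_zero, app_one]
  have hW : f.W ≤ Fx := fun w hw => ⟨f.W_le_K hw, f.W_fix w hw⟩
  have h16 : 16 ≤ Nat.card Fx := f.card_W ▸ Subgroup.card_le_of_le hW
  have hc := (ea_Kb isOmega_om card_F4 (show Fx ≤ K 0 from fun a (ha : a ∈ Fx) => ha.1) hel h16).1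
  rw [Subgroup.eq_of_le_of_card_ge hW (by rw [hc, f.card_W])]
  exact ⟨hg, hfix⟩

end WFacts

end CfsgLib.Trans3.FischerType.PairCode
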