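import Cfsg.Agent.Lib.Trans3.FischerType.MaxBig
import Cfsg.Agent.Lib.Trans3.FischerType.PairWiring
import Cfsg.Agent.Lib.Trans3.FischerType.Reduce
import Cfsg.Agent.Lib.Trans3.FischerType.WModel
import Cfsg.Agent.Lib.Trans3.FiLarge.Model

/-!
# The largest elementary abelian 2-subgroup

In a group of large Fischer type every Sylow 2-subgroup of the centraliser of the involution has exactly one
elementary abelian subgroup of largest order, it has order `2¹¹`; the Thompson subgroup of a Sylow 2-subgroup of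
the group therefore satisfies the conclusions about the pair.
-/

set_option autoImplicit false
set_option linter.unusedSectionVars false
set_option linter.style.haveILetI false

namespace CfsgLib.Trans3.FischerType.PairCode

open Matrix CfsgLib.Chev.U43U6 CfsgLib.Trans3.FiLarge
open Cfsg (IsExtraspecialCentralizerSetting)

variable {G : Type*} [Group G] [Finite G] {z : G} {Q : Subgroup (Subgroup.centralizer ({z} : Set G))} [Q.Normal]

/-- Everything needed about the centraliser of the involution. -/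
structure MaxSetup (c : Coord z Q) (f : WFacts c.b) : Prop where
  setting : IsExtraspecialCentralizerSetting z Q 6
  uw : UWFacts f
  extra : WExtra f
  hb : c.b = 0
  semi : ∀ h, h ∉ c.M → ∀ q ∈ Q, ∀ r ∈ Q, ∀ a : F4, c.pr r = a • c.pr q →
      c.pr (h * r * h⁻¹) = a ^ 2 • c.pr (h * q * h⁻¹)

theorem extra_of_zero {b : Fin 3} (f : WFacts b) (hb : b = 0) : WExtra f := by
  subst hb
  exact ⟨fun v h => f.perp h, fun g hg h => f.fixer hg h, fun u hu a => f.smul_mem hu a⟩

/-- There are coordinates with the required facts. -/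
theorem exists_maxSetup (hF : Cfsg.IsOfLargeFischerTypeAt z Q) :
    ∃ (c : Coord z Q) (f : WFacts c.b), MaxSetup c f := by
  obtain ⟨c₀⟩ := exists_coord hF
  obtain ⟨f⟩ := wfacts
  obtain ⟨c, hb⟩ : ∃ c : Coord z Q, c.b = 0 := ⟨toZero c₀, rfl⟩
  obtain ⟨f', -⟩ : ∃ f' : WFacts c.b, True := ⟨hb ▸ f, trivial⟩
  refine ⟨c, f', hF.1, uwFacts f' hb, extra_of_zero f' hb, hb, ?_⟩
  obtain ⟨s, hs, hse⟩ := c.pr_surj (vdec om bigRep)
  have hsb : InBig c.b (c.pr s) := ⟨1, one_mem _, by rw [hse]; exact Matrix.one_mulVec _⟩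
  have hconj : IsConj z (s : G) := (big_iff_conj hF c hs (ne_z_of_orbit c hs (Or.inr hsb))).1 hsb
  intro h hh q hq r hr a e
  exact outer_semi hF c hb hs hsb hconj hh hq hr e

variable {c : Coord z Q} {f : WFacts c.b}

theorem MaxSetup.ne_one (S : MaxSetup c f) : z ≠ 1 := fun e => by
  have := S.setting.1
  simp [e] at this

theorem MaxSetup.sq (S : MaxSetup c f) : z * z = 1 := by
  rw [← pow_two, ← S.setting.1, pow_orderOf_eq_one]

theorem MaxSetup.card (S : MaxSetup c f) : Nat.card (maxA c f) = 2 ^ 11 :=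
  (card_maxA c f S.uw S.ne_one S.sq (zC_mem S.setting)).2

theorem MaxSetup.elem (S : MaxSetup c f) : Cfsg.IsElementaryAbelian 2 (maxA c f) :=
  elem_maxA c f S.uw S.ne_one S.sq (zC_mem S.setting)

theorem MaxSetup.isPGroup (S : MaxSetup c f) : IsPGroup 2 (maxA c f) :=
  fun a => ⟨1, Subtype.ext (by rw [pow_one]; exact S.elem.2 a.1 a.2)⟩

theorem MaxSetup.unique (S : MaxSetup c f) {T : Subgroup (Subgroup.centralizer ({z} : Set G))}
    (hT : IsPGroup 2 T) (hAT : maxA c f ≤ T)
    {B : Subgroup (Subgroup.centralizer ({z} : Set G))} (hBT : B ≤ T)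
    (hB : Cfsg.IsElementaryAbelian 2 B) (hBc : 2 ^ 11 ≤ Nat.card B) : B = maxA c f :=
  unique_maxA c f S.uw S.setting S.ne_one S.sq S.semi hT hAT hBT hB hBc

/-- In every Sylow 2-subgroup of the centraliser there is exactly one largest one. -/
theorem max_elementary_abelian_of_sylow (hF : Cfsg.IsOfLargeFischerTypeAt z Q)
    (T : Sylow 2 ↥(Subgroup.centralizer ({z} : Set G))) :
    ∃ A : Subgroup ↥(T : Subgroup (Subgroup.centralizer ({z} : Set G))),
      Cfsg.maxElementaryAbelianSubgroups 2 ↥(T : Subgroup (Subgroup.centralizer ({z} : Set G))) = {A} ∧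
      Nat.card A = 2 ^ 11 ∧
      Nat.card ↥(A.map (T : Subgroup (Subgroup.centralizer ({z} : Set G))).subtype ⊓ Q) = 2 ^ 7 ∧
      Nat.card ↥((A.map (T : Subgroup (Subgroup.centralizer ({z} : Set G))).subtype).map
        (QuotientGroup.mk' Q)) = 16 := by
  haveI : Fact (Nat.Prime 2) := ⟨Nat.prime_two⟩
  obtain ⟨c, f, S⟩ := exists_maxSetup hF
  obtain ⟨T₀, hT₀⟩ := S.isPGroup.exists_le_sylow
  obtain ⟨g, hg⟩ := MulAction.exists_smul_eq (Subgroup.centralizer ({z} : Set G)) T₀ T
  -- conjugation by `g` carries `T₀` to `T`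
  have hgT : (T₀ : Subgroup (Subgroup.centralizer ({z} : Set G))).map (MulAut.conj g).toMonoidHom =
      (T : Subgroup (Subgroup.centralizer ({z} : Set G))) := by rw [← hg]; rfl
  obtain ⟨A', hA'⟩ : ∃ A', A' = (maxA c f).map (MulAut.conj g).toMonoidHom := ⟨_, rfl⟩
  have hA'T : A' ≤ (T : Subgroup (Subgroup.centralizer ({z} : Set G))) :=
    hA' ▸ hgT ▸ Subgroup.map_mono hT₀
  have hcard' : Nat.card A' = 2 ^ 11 := by
    rw [hA', ← Nat.card_congr ((maxA c f).equivMapOfInjective _ (MulAut.conj g).injective).toEquiv, S.card]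
  refine ⟨A'.subgroupOf T, ?_, ?_, ?_, ?_⟩
  · have he' : Cfsg.IsElementaryAbelian 2 A' := hA' ▸ elem_map S.elem _
    have heA : Cfsg.IsElementaryAbelian 2 (A'.subgroupOf (T : Subgroup (Subgroup.centralizer ({z} : Set G)))) :=
      ⟨⟨⟨fun x y => Subtype.ext (Subtype.ext (congrArg Subtype.val (he'.1.1.comm ⟨x.1.1, x.2⟩ ⟨y.1.1, y.2⟩) :))⟩⟩,
        fun a ha => Subtype.ext (he'.2 a.1 ha)⟩
    have hcA : Nat.card (A'.subgroupOf (T : Subgroup (Subgroup.centralizer ({z} : Set G)))) = 2 ^ 11 := by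
      rw [Nat.card_congr (Subgroup.subgroupOfEquivOfLe hA'T).toEquiv, hcard']
    have huniq : ∀ B : Subgroup ↥(T : Subgroup (Subgroup.centralizer ({z} : Set G))),
        Cfsg.IsElementaryAbelian 2 B → 2 ^ 11 ≤ Nat.card B → B = A'.subgroupOf T := by
      intro B hB hBc
      obtain ⟨B', hB'⟩ : ∃ B', B' = ((B.map (T : Subgroup (Subgroup.centralizer ({z} : Set G))).subtype).map
        (MulAut.conj g⁻¹).toMonoidHom) := ⟨_, rfl⟩
      have hback : ∀ x : Subgroup.centralizer ({z} : Set G),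
          (MulAut.conj g).toMonoidHom ((MulAut.conj g⁻¹).toMonoidHom x) = x := fun x => by
        simp [mul_assoc]
      have h1 : B' ≤ (T₀ : Subgroup (Subgroup.centralizer ({z} : Set G))) := by
        rw [hB']
        rintro _ ⟨x, ⟨t, -, rfl⟩, rfl⟩
        have ht : t.1 ∈ (T : Subgroup (Subgroup.centralizer ({z} : Set G))) := t.2
        obtain ⟨u, hu, e⟩ := (hgT.symm ▸ ht : t.1 ∈
          (T₀ : Subgroup (Subgroup.centralizer ({z} : Set G))).map (MulAut.conj g).toMonoidHom)
        show (MulAut.conj g⁻¹).toMonoidHom t.1 ∈ _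
        rw [← e]
        have hv : (MulAut.conj g⁻¹).toMonoidHom ((MulAut.conj g).toMonoidHom u) = u := by simp [mul_assoc]
        rw [hv]; exact hu
      have h2 := S.unique T₀.isPGroup' hT₀ h1 (hB' ▸ elem_map (elem_map hB _) _) (by
        rw [hB', ← Nat.card_congr (Subgroup.equivMapOfInjective _ _ (MulAut.conj g⁻¹).injective).toEquiv,
          ← Nat.card_congr (Subgroup.equivMapOfInjective _ _ (Subgroup.subtype_injective _)).toEquiv]
        exact hBc)
      refine Subgroup.eq_of_le_of_card_ge (fun t ht => ?_) (hcA ▸ hBc)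
      show t.1 ∈ A'
      rw [hA', ← h2, hB', ← hback t.1]
      exact ⟨_, ⟨_, ⟨t, ht, rfl⟩, rfl⟩, rfl⟩
    ext B
    rw [Set.mem_singleton_iff]
    constructor
    · rintro ⟨hB, hmax⟩
      exact huniq B hB (hcA ▸ hmax _ heA)
    · rintro rfl
      refine ⟨heA, fun B hB => ?_⟩
      by_contra hlt
      push Not at hlt
      have := huniq B hB (hcA ▸ hlt.le)
      rw [this] at hlt
      exact lt_irrefl _ hlt
  · rw [Nat.card_congr (Subgroup.subgroupOfEquivOfLe hA'T).toEquiv, hcard']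
  · rw [Subgroup.map_subgroupOf_eq_of_le hA'T]
    have he : A' ⊓ Q = (maxA c f ⊓ Q).map (MulAut.conj g).toMonoidHom := by
      rw [Subgroup.map_inf_eq _ _ _ (MulAut.conj g).injective, hA']
      congr 1
      exact (Subgroup.Normal.map_conj_eq (H := Q) g).symm
    rw [he, ← Nat.card_congr (Subgroup.equivMapOfInjective _ _ (MulAut.conj g).injective).toEquiv,
      card_inter_maxA c f S.uw S.ne_one (zC_mem S.setting)]
  · rw [Subgroup.map_subgroupOf_eq_of_le hA'T, hA', Subgroup.map_map]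
    have hcomp : (QuotientGroup.mk' Q).comp (MulAut.conj g).toMonoidHom =
        (MulAut.conj (QuotientGroup.mk' Q g)).toMonoidHom.comp (QuotientGroup.mk' Q) := by
      ext x; simp
    rw [hcomp, ← Subgroup.map_map,
      ← Nat.card_congr (Subgroup.equivMapOfInjective _ _ (MulAut.conj (QuotientGroup.mk' Q g)).injective).toEquiv]
    have h1 := ((QuotientGroup.mk' Q).subgroupMap (maxA c f)).ker.card_mul_index
    rw [Subgroup.index_ker, MonoidHom.range_eq_top.2 ((QuotientGroup.mk' Q).subgroupMap_surjective _),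
      Subgroup.card_top, S.card] at h1
    have h2 : Nat.card ((QuotientGroup.mk' Q).subgroupMap (maxA c f)).ker = 2 ^ 7 := by
      rw [← card_inter_maxA c f S.uw S.ne_one (zC_mem S.setting)]
      refine Nat.card_congr
        { toFun := fun x => ⟨x.1.1, x.1.2, (QuotientGroup.eq_one_iff _).1 (congrArg Subtype.val x.2)⟩
          invFun := fun x => ⟨⟨x.1, x.2.1⟩, Subtype.ext ((QuotientGroup.eq_one_iff _).2 x.2.2)⟩
          left_inv := fun x => rfl
          right_inv := fun x => rfl }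
    rw [h2] at h1
    norm_num at h1 ⊢
    omega

/-- The largest elementary abelian subgroup of a Sylow 2-subgroup of the group inside the centraliser. -/
theorem exists_maxA (hF : Cfsg.IsOfLargeFischerTypeAt z Q) :
    ∃ (c : Coord z Q) (f : WFacts c.b), c.b = 0 ∧ WExtra f ∧ ∃ T₀ : Sylow 2 G,
      (T₀ : Subgroup G) ≤ Subgroup.centralizer ({z} : Set G) ∧ ∃ A : Subgroup G,
      IsUniqueMaxElem (T₀ : Subgroup G) A ∧ Nat.card A = 2 ^ 11 ∧
      (∀ a ∈ A, ∃ m : c.M, ((m : Subgroup.centralizer ({z} : Set G)) : G) = a) ∧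
      (∀ g ∈ qg Q, (g ∈ A ↔ prG c g ∈ f.U)) ∧
      (∀ a ∈ A, actG c a ∈ f.W) ∧ ∀ w ∈ f.W, ∃ a ∈ A, actG c a = w := by
  haveI : Fact (Nat.Prime 2) := ⟨Nat.prime_two⟩
  obtain ⟨c, f, S⟩ := exists_maxSetup hF
  obtain ⟨T₀, hT₀⟩ := S.isPGroup.exists_le_sylow
  obtain ⟨P, hP⟩ := sylow_of_centralizer c S.setting T₀
  obtain ⟨hmap, -⟩ := card_maxA c f S.uw S.ne_one S.sq (zC_mem S.setting)
  refine ⟨c, f, S.hb, S.extra, P, fun x hx => ?_, (maxA c f).map (Subgroup.centralizer ({z} : Set G)).subtype,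
    ⟨?_, elem_map S.elem _, fun B hBP hB hBc => ?_⟩, ?_, ?_, ?_, ?_, ?_⟩
  · rw [hP] at hx
    obtain ⟨y, -, rfl⟩ := hx
    exact y.2
  · rw [hP]; exact Subgroup.map_mono hT₀
  · rw [hP] at hBP
    have hle : B ≤ Subgroup.centralizer ({z} : Set G) := fun x hx => by
      obtain ⟨y, -, rfl⟩ := hBP hx
      exact y.2
    have hc : Nat.card (B.subgroupOf (Subgroup.centralizer ({z} : Set G))) = Nat.card B :=
      Nat.card_congr (Subgroup.subgroupOfEquivOfLe hle).toEquiv
    rw [← Nat.card_congr (Subgroup.equivMapOfInjective _ _ (Subgroup.subtype_injective _)).toEquiv, S.card,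
      ← hc] at hBc
    have h := S.unique T₀.isPGroup' hT₀ (B := B.subgroupOf (Subgroup.centralizer ({z} : Set G)))
      (fun x hx => by
        obtain ⟨y, hy, e⟩ := hBP hx
        rwa [← Subtype.ext e])
      ⟨⟨⟨fun x y => Subtype.ext (Subtype.ext (congrArg Subtype.val (hB.1.1.comm ⟨x.1.1, x.2⟩ ⟨y.1.1, y.2⟩) :))⟩⟩,
        fun a ha => Subtype.ext (hB.2 a.1 ha)⟩ hBc
    rw [← h, Subgroup.map_subgroupOf_eq_of_le hle]
  · rw [← Nat.card_congr (Subgroup.equivMapOfInjective _ _ (Subgroup.subtype_injective _)).toEquiv, S.card]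
  · rintro _ ⟨a, ha, rfl⟩
    exact ⟨⟨a, maxA_le c f ha⟩, rfl⟩
  · intro g hg
    obtain ⟨q, hq, rfl⟩ := hg
    simp only [Subgroup.coe_subtype, prG_coe]
    rw [← mem_maxA_iff c f S.uw hq]
    exact ⟨fun ⟨a, ha, e⟩ => Subtype.ext e ▸ ha, fun h => ⟨q, h, rfl⟩⟩
  · rintro _ ⟨a, ha, rfl⟩
    rw [show ((Subgroup.centralizer ({z} : Set G)).subtype a) =
      (((⟨a, maxA_le c f ha⟩ : c.M) : Subgroup.centralizer ({z} : Set G)) : G) from rfl, actG_coe]
    exact act_maxA c f ha
  · intro w hw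
    rw [← hmap] at hw
    obtain ⟨m, hm, rfl⟩ := hw
    exact ⟨_, ⟨m.1, hm, rfl⟩, actG_coe c m⟩

/-- The conclusions about the Thompson subgroup of a Sylow 2-subgroup. -/
theorem concl_thompson_of_type (hF : Cfsg.IsOfLargeFischerTypeAt z Q) (T : Sylow 2 G) :
    Concl z (Cfsg.thompsonSubgroupOf 2 (T : Subgroup G)) := by
  obtain ⟨c, f, hb, hex, T₀, hT, A, hu, hcard, hM, hQ, hW, hsurj⟩ := exists_maxA hF
  exact concl_of_coord hF c hb f hex A T₀ hT hu hcard hM hQ hW hsurj T

end CfsgLib.Trans3.FischerType.PairCode
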