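import Mathlib.GroupTheory.GroupAction.Quotient
import Mathlib.GroupTheory.Sylow
import Mathlib.Data.Set.Card
import Cfsg.Prelude.Def_Transfer

/-!
Conjugacy orbits of a subgroup, divisibility of invariant sets, fixed points of an automorphism of prime
order, and fusion in a subgroup that is the unique largest elementary abelian subgroup of a Sylow subgroup.
-/

set_option autoImplicit false
set_option linter.unusedSectionVars false

namespace CfsgLib.Trans3.FischerType.PairCode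

variable {G : Type*} [Group G]

theorem mem_normalizer_of_maps' [Finite G] {A : Subgroup G} {x : G} (h : ∀ a ∈ A, x * a * x⁻¹ ∈ A) :
    x ∈ Subgroup.normalizer (A : Set G) :=
  Subgroup.mem_normalizer_fintype h

/-- The conjugates of `a` under `S`. -/
def corb (S : Subgroup G) (a : G) : Set G := {b | ∃ s ∈ S, s * a * s⁻¹ = b}

theorem mem_corb_self (S : Subgroup G) (a : G) : a ∈ corb S a := ⟨1, one_mem S, by simp⟩

theorem corb_eq {S : Subgroup G} {a b : G} (h : b ∈ corb S a) : corb S b = corb S a := by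
  obtain ⟨s, hs, rfl⟩ := h
  ext c
  constructor
  · rintro ⟨t, ht, rfl⟩; exact ⟨t * s, mul_mem ht hs, by group⟩
  · rintro ⟨t, ht, rfl⟩; exact ⟨t * s⁻¹, mul_mem ht (inv_mem hs), by group⟩

theorem corb_mono {S R : Subgroup G} (h : S ≤ R) (a : G) : corb S a ⊆ corb R a :=
  fun _ ⟨s, hs, e⟩ => ⟨s, h hs, e⟩

/-- Orbit and stabiliser. -/
theorem ncard_corb_mul [Finite G] (S : Subgroup G) (a : G) :
    (corb S a).ncard * Nat.card ↥(S ⊓ Subgroup.centralizer ({a} : Set G) : Subgroup G) = Nat.card S := by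
  letI : MulAction ↥S G := MulAction.compHom G ((MulAut.conj : G →* MulAut G).comp S.subtype)
  have hsm : ∀ (s : ↥S) (x : G), s • x = (s : G) * x * (s : G)⁻¹ := fun s x => rfl
  have h1 : MulAction.orbit ↥S a = corb S a := by
    ext b
    simp only [MulAction.mem_orbit_iff, corb, Set.mem_ofPred_eq, hsm]
    exact ⟨fun ⟨s, e⟩ => ⟨s, s.2, e⟩, fun ⟨s, hs, e⟩ => ⟨⟨s, hs⟩, e⟩⟩
  have h2 : MulAction.stabilizer ↥S a = (S ⊓ Subgroup.centralizer ({a} : Set G)).subgroupOf S := by
    ext s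
    simp only [MulAction.mem_stabilizer_iff, Subgroup.mem_subgroupOf, Subgroup.mem_inf, s.2, true_and,
      Subgroup.mem_centralizer_singleton_iff, hsm, mul_inv_eq_iff_eq_mul]
  have h := MulAction.index_stabilizer ↥S a
  rw [h1, h2] at h
  rw [← h, ← Nat.card_congr (Subgroup.subgroupOfEquivOfLe
    (inf_le_left : S ⊓ Subgroup.centralizer ({a} : Set G) ≤ S)).toEquiv, mul_comm,
    Subgroup.card_mul_index]

/-- A set invariant under `S` all whose orbits have size divisible by `d` has size divisible by `d`. -/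
theorem dvd_ncard_of_invariant [Finite G] (S : Subgroup G) (d : ℕ) (X : Set G)
    (hinv : ∀ a ∈ X, ∀ s ∈ S, s * a * s⁻¹ ∈ X) (hd : ∀ a ∈ X, d ∣ (corb S a).ncard) : d ∣ X.ncard := by
  induction hX : X.ncard using Nat.strong_induction_on generalizing X with
  | _ n ih =>
    rcases X.eq_empty_or_nonempty with rfl | ⟨a, ha⟩
    · simp [← hX]
    have hsub : corb S a ⊆ X := by rintro b ⟨s, hs, rfl⟩; exact hinv a ha s hs
    have hdiff := Set.ncard_sdiff_add_ncard_of_subset hsub (Set.toFinite X)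
    have hpos : 0 < (corb S a).ncard := (Set.ncard_pos (Set.toFinite _)).2 ⟨a, mem_corb_self S a⟩
    have := ih (X \ corb S a).ncard (by omega) (X \ corb S a)
      (fun b hb s hs => ⟨hinv b hb.1 s hs, fun h => hb.2 ((corb_eq h) ▸ by
        exact ⟨s⁻¹, inv_mem hs, by group⟩)⟩)
      (fun b hb => hd b hb.1) rfl
    rw [← hX, ← hdiff]
    exact Nat.dvd_add this (hd a ha)

/-- The fixed points in `A` of an element of prime order normalising it. -/
theorem exists_fixed_card [Finite G] (A : Subgroup G) {n p : ℕ} [hp : Fact p.Prime]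
    (hA : Nat.card A = 2 ^ n) {x : G} (hx : ∀ a ∈ A, x * a * x⁻¹ ∈ A) (hxp : x ^ p = 1) :
    ∃ i ≤ n, Nat.card ↥(A ⊓ Subgroup.centralizer ({x} : Set G) : Subgroup G) = 2 ^ i ∧
      2 ^ i ≡ 2 ^ n [MOD p] := by
  obtain ⟨i, hi, e⟩ := (Nat.dvd_prime_pow Nat.prime_two).1
    (hA ▸ Subgroup.card_dvd_of_le (inf_le_left : A ⊓ Subgroup.centralizer ({x} : Set G) ≤ A))
  refine ⟨i, hi, e, ?_⟩
  set S := Subgroup.zpowers x
  have hS : IsPGroup p ↥S := by
    intro s
    refine ⟨1, Subtype.ext ?_⟩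
    obtain ⟨k, hk⟩ := Subgroup.mem_zpowers_iff.1 s.2
    rw [pow_one, Subgroup.coe_pow, ← hk, ← zpow_natCast (x ^ k), ← zpow_mul, mul_comm, zpow_mul,
      zpow_natCast, hxp, one_zpow]
    rfl
  have hSn : ∀ s ∈ S, ∀ a ∈ A, s * a * s⁻¹ ∈ A := by
    intro s hs a ha
    have hxn : x ∈ Subgroup.normalizer (A : Set G) :=
      mem_normalizer_of_maps' hx
    exact ((Subgroup.mem_normalizer_iff.1 ((Subgroup.zpowers_le.2 hxn) hs)) a).1 ha
  letI : MulAction ↥S ↥A :=
    { smul := fun s a => ⟨(s : G) * a * (s : G)⁻¹, hSn s s.2 a a.2⟩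
      one_smul := fun a => Subtype.ext (show ((1 : ↥S) : G) * a * ((1 : ↥S) : G)⁻¹ = a by simp)
      mul_smul := fun s t a => Subtype.ext (show ((s * t : ↥S) : G) * a * ((s * t : ↥S) : G)⁻¹ =
        (s : G) * ((t : G) * a * (t : G)⁻¹) * (s : G)⁻¹ by push_cast; group) }
  have h := hS.card_modEq_card_fixedPoints ↥A
  rw [hA] at h
  rw [← e]
  refine Nat.ModEq.trans ?_ h.symm
  show _ % p = _ % p
  refine congrArg (· % p) ?_
  refine Nat.card_congr ⟨fun a => ⟨⟨a.1, a.2.1⟩, fun s => Subtype.ext ?_⟩,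
    fun a => ⟨a.1.1, a.1.2, Subgroup.mem_centralizer_singleton_iff.2 ?_⟩, fun _ => rfl, fun _ => rfl⟩
  · show (s : G) * a.1 * (s : G)⁻¹ = a.1
    have hxa : x ∈ Subgroup.centralizer ({a.1} : Set G) :=
      Subgroup.mem_centralizer_singleton_iff.2 (Subgroup.mem_centralizer_singleton_iff.1 a.2.2).symm
    rw [Subgroup.mem_centralizer_singleton_iff.1 ((Subgroup.zpowers_le.2 hxa) s.2), mul_inv_cancel_right]
  · have h1 : x * a.1.1 * x⁻¹ = a.1.1 :=
      congrArg Subtype.val (a.2 ⟨x, Subgroup.mem_zpowers x⟩)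
    exact (mul_inv_eq_iff_eq_mul.1 h1).symm

/-- `A` is the unique largest elementary abelian subgroup of `T`. -/
def IsUniqueMaxElem (T A : Subgroup G) : Prop :=
  A ≤ T ∧ Cfsg.IsElementaryAbelian 2 A ∧
    ∀ B : Subgroup G, B ≤ T → Cfsg.IsElementaryAbelian 2 B → Nat.card A ≤ Nat.card B → B = A

/-- A subgroup that is the unique largest elementary abelian subgroup of some Sylow subgroup is so in
every Sylow subgroup containing it, and its normaliser controls fusion in it. -/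
theorem fusion_of_unique [Finite G] {T : Sylow 2 G} {A : Subgroup G}
    (h : IsUniqueMaxElem (T : Subgroup G) A) {a g : G} (ha : a ∈ A) (hga : g * a * g⁻¹ ∈ A) :
    ∃ m ∈ Subgroup.normalizer (A : Set G), m * a * m⁻¹ = g * a * g⁻¹ := by
  obtain ⟨hle, hel, huniq⟩ := h
  have conjcard : ∀ c : G, Nat.card (A.map (MulAut.conj c).toMonoidHom) = Nat.card A := fun c =>
    Nat.card_congr ((A.equivMapOfInjective _ (MulAut.conj c).injective).symm).toEquiv
  have conjel : ∀ c : G, Cfsg.IsElementaryAbelian 2 (A.map (MulAut.conj c).toMonoidHom) := by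
    intro c
    refine ⟨⟨⟨fun x y => ?_⟩⟩, fun x hx => ?_⟩
    · obtain ⟨_, x, hx, rfl⟩ := x; obtain ⟨_, y, hy, rfl⟩ := y
      apply Subtype.ext
      show (MulAut.conj c) x * (MulAut.conj c) y = (MulAut.conj c) y * (MulAut.conj c) x
      rw [← map_mul, ← map_mul]
      exact congrArg _ (congrArg Subtype.val (hel.1.1.1 ⟨x, hx⟩ ⟨y, hy⟩))
    · obtain ⟨y, hy, rfl⟩ := ‹_ ∈ A.map _›
      show ((MulAut.conj c) y) ^ 2 = 1
      rw [← map_pow, hel.2 y hy, map_one]
  have hcomm : ∀ x ∈ A, ∀ y ∈ A, x * y = y * x := fun x hx y hy =>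
    congrArg Subtype.val (hel.1.1.1 ⟨x, hx⟩ ⟨y, hy⟩)
  set b := g * a * g⁻¹ with hb
  set C := Subgroup.centralizer ({b} : Set G)
  have hA : A ≤ C := fun x hx => Subgroup.mem_centralizer_singleton_iff.2 (hcomm x hx b hga)
  have hAg : A.map (MulAut.conj g).toMonoidHom ≤ C := by
    rintro _ ⟨x, hx, rfl⟩
    refine Subgroup.mem_centralizer_singleton_iff.2 ?_
    show (MulAut.conj g) x * (MulAut.conj g) a = (MulAut.conj g) a * (MulAut.conj g) x
    rw [← map_mul, ← map_mul, hcomm x hx a ha]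
  have hP : ∀ B : Subgroup G, Cfsg.IsElementaryAbelian 2 B → IsPGroup 2 ↥B := fun B hB x =>
    ⟨1, Subtype.ext (by rw [pow_one, Subgroup.coe_pow]; exact hB.2 x x.2)⟩
  obtain ⟨P₁, hP₁⟩ := ((hP A hel).comap_of_injective C.subtype Subtype.val_injective).exists_le_sylow
  obtain ⟨P₂, hP₂⟩ :=
    ((hP _ (conjel g)).comap_of_injective C.subtype Subtype.val_injective).exists_le_sylow
  obtain ⟨c, hc⟩ := MulAction.exists_smul_eq ↥C P₂ P₁
  -- the conjugate of `A` by `c * g` and `A` lie in one 2-subgroup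
  have hAP : A ≤ (P₁ : Subgroup C).map C.subtype := fun x hx => ⟨⟨x, hA hx⟩, hP₁ hx, rfl⟩
  have hBP : A.map (MulAut.conj ((c : G) * g)).toMonoidHom ≤ (P₁ : Subgroup C).map C.subtype := by
    rintro _ ⟨x, hx, rfl⟩
    have h2 : (⟨_, hAg ⟨x, hx, rfl⟩⟩ : ↥C) ∈ (P₂ : Subgroup C) := hP₂ ⟨x, hx, rfl⟩
    refine ⟨c * ⟨_, hAg ⟨x, hx, rfl⟩⟩ * c⁻¹, ?_, ?_⟩
    · rw [← hc]
      exact ⟨_, h2, rfl⟩
    · show (c : G) * (g * x * g⁻¹) * (c : G)⁻¹ = (c : G) * g * x * ((c : G) * g)⁻¹
      group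
  obtain ⟨U, hU⟩ := (P₁.isPGroup'.map C.subtype).exists_le_sylow
  obtain ⟨d, hd⟩ := MulAction.exists_smul_eq G U T
  have hmapT : ∀ B : Subgroup G, B ≤ (P₁ : Subgroup C).map C.subtype →
      B.map (MulAut.conj d).toMonoidHom ≤ (T : Subgroup G) := by
    intro B hB
    rw [← hd]
    exact Subgroup.map_mono (hB.trans hU)
  have e1 : A.map (MulAut.conj d).toMonoidHom = A :=
    huniq _ (hmapT A hAP) (conjel d) (conjcard d).ge
  have e2 : (A.map (MulAut.conj ((c : G) * g)).toMonoidHom).map (MulAut.conj d).toMonoidHom = A := by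
    have e : (A.map (MulAut.conj ((c : G) * g)).toMonoidHom).map (MulAut.conj d).toMonoidHom =
        A.map (MulAut.conj (d * ((c : G) * g))).toMonoidHom := by
      rw [Subgroup.map_map]; congr 1; ext x; simp [mul_assoc]
    exact huniq _ (hmapT _ hBP) (e ▸ conjel _) (e ▸ (conjcard _).ge)
  have e3 : A.map (MulAut.conj ((c : G) * g)).toMonoidHom = A :=
    Subgroup.map_injective (MulAut.conj d).injective (e2.trans e1.symm)
  refine ⟨(c : G) * g, mem_normalizer_of_maps' fun x hx => e3 ▸ ⟨x, hx, rfl⟩, ?_⟩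
  have hcb : (c : G) * b = b * (c : G) := Subgroup.mem_centralizer_singleton_iff.1 c.2
  calc (c : G) * g * a * ((c : G) * g)⁻¹ = (c : G) * b * (c : G)⁻¹ := by rw [hb]; group
    _ = b := by rw [hcb, mul_inv_cancel_right]

end CfsgLib.Trans3.FischerType.PairCode
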