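import Cfsg.Agent.Lib.Trans3.FischerType.PairForm
import Cfsg.Agent.Lib.Trans3.FischerType.PairOrbit
import Cfsg.Agent.Lib.Chev.U43InU6.Kernel
import Mathlib.Algebra.Group.Subgroup.Pointwise

/-!
Coordinates on the central quotient of `Q`, read on the ambient group, and the order of the centraliser.
-/

set_option autoImplicit false
set_option linter.unusedSectionVars false

namespace CfsgLib.Trans3.FischerType.PairCode

open Matrix CfsgLib.Chev.U43U6 CfsgLib.Trans3.FiLarge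

variable {G : Type*} [Group G] {z : G} {Q : Subgroup (Subgroup.centralizer ({z} : Set G))}

/-- `Q` in the ambient group. -/
def qg (Q : Subgroup (Subgroup.centralizer ({z} : Set G))) : Subgroup G :=
  Q.map (Subgroup.centralizer ({z} : Set G)).subtype

theorem qg_le {g : G} (h : g ∈ qg Q) : g ∈ Subgroup.centralizer ({z} : Set G) := by
  obtain ⟨q, -, rfl⟩ := h
  exact q.2

theorem mem_qg {q : Subgroup.centralizer ({z} : Set G)} : (q : G) ∈ qg Q ↔ q ∈ Q :=
  ⟨fun ⟨_, hr, e⟩ => Subtype.ext e ▸ hr, fun h => ⟨q, h, rfl⟩⟩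

variable (c : Coord z Q)

open _root_.Classical in
/-- The projection on the ambient group. -/
noncomputable def prG (g : G) : V6 :=
  if h : g ∈ Subgroup.centralizer ({z} : Set G) then c.pr ⟨g, h⟩ else 0

theorem prG_coe (q : Subgroup.centralizer ({z} : Set G)) : prG c (q : G) = c.pr q := by
  rw [prG, dif_pos q.2]

open _root_.Classical in
/-- The action on the ambient group. -/
noncomputable def actG (g : G) : GS F4 :=
  if h : ∃ m : c.M, ((m : Subgroup.centralizer ({z} : Set G)) : G) = g then c.act h.choose else 1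

theorem actG_coe (m : c.M) : actG c ((m : Subgroup.centralizer ({z} : Set G)) : G) = c.act m := by
  have h : ∃ k : c.M, ((k : Subgroup.centralizer ({z} : Set G)) : G) =
      ((m : Subgroup.centralizer ({z} : Set G)) : G) := ⟨m, rfl⟩
  rw [actG, dif_pos h, show h.choose = m from Subtype.ext (Subtype.ext h.choose_spec)]

theorem prG_mul {g h : G} (hg : g ∈ qg Q) (hh : h ∈ qg Q) : prG c (g * h) = prG c g + prG c h := by
  obtain ⟨q, hq, rfl⟩ := hg
  obtain ⟨r, hr, rfl⟩ := hh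
  simp only [Subgroup.coe_subtype]
  rw [← Subgroup.coe_mul, prG_coe, prG_coe, prG_coe, c.pr_mul q hq r hr]

theorem prG_eq_zero {g : G} (hg : g ∈ qg Q) : prG c g = 0 ↔ g = 1 ∨ g = z := by
  obtain ⟨q, hq, rfl⟩ := hg
  simp only [Subgroup.coe_subtype, prG_coe]
  exact c.pr_eq_zero q hq

theorem prG_surj (v : V6) : ∃ g ∈ qg Q, prG c g = v := by
  obtain ⟨q, hq, h⟩ := c.pr_surj v
  exact ⟨q, mem_qg.2 hq, by rw [prG_coe, h]⟩

theorem prG_one : prG c (1 : G) = 0 := (prG_eq_zero c (one_mem _)).2 (Or.inl rfl)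

theorem prG_inv {g : G} (hg : g ∈ qg Q) : prG c g⁻¹ = prG c g := by
  have h := prG_mul c (inv_mem hg) hg
  rw [inv_mul_cancel, prG_one] at h
  exact pf_eq_of_add _ _ h.symm

theorem prG_eq_iff {g h : G} (hg : g ∈ qg Q) (hh : h ∈ qg Q) : prG c g = prG c h ↔ h = g ∨ h = g * z := by
  have h0 : prG c g = prG c h ↔ g⁻¹ * h = 1 ∨ g⁻¹ * h = z := by
    rw [← prG_eq_zero c (mul_mem (inv_mem hg) hh), prG_mul c (inv_mem hg) hh, prG_inv c hg]
    exact ⟨fun e => by rw [e, pf_self], pf_eq_of_add _ _⟩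
  rw [h0, inv_mul_eq_one, inv_mul_eq_iff_eq_mul]
  exact or_congr ⟨Eq.symm, Eq.symm⟩ Iff.rfl

theorem comm_iff_bform {g h : G} (hg : g ∈ qg Q) (hh : h ∈ qg Q) :
    g * h = h * g ↔ bform (prG c g) (prG c h) = 0 := by
  obtain ⟨q, hq, rfl⟩ := hg
  obtain ⟨r, hr, rfl⟩ := hh
  simp only [Subgroup.coe_subtype, prG_coe]
  rw [bform, ← c.comm_iff q hq r hr, ← Subgroup.coe_mul, ← Subgroup.coe_mul, Subtype.coe_inj]

theorem sq_iff_herm {g : G} (hg : g ∈ qg Q) : g * g = 1 ↔ herm6 (prG c g) (prG c g) = 0 := by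
  obtain ⟨q, hq, rfl⟩ := hg
  simp only [Subgroup.coe_subtype, prG_coe]
  rw [← c.sq_iff q hq, ← Subgroup.coe_mul, OneMemClass.coe_eq_one]

theorem conj_fixed {q g : G} (hq : q ∈ qg Q) (hg : g ∈ qg Q) (h : bform (prG c g) (prG c q) = 0) :
    q * g * q⁻¹ = g := by
  rw [← (comm_iff_bform c hg hq).2 h, mul_inv_cancel_right]

theorem conj_moved {q g : G} (hq : q ∈ qg Q) (hg : g ∈ qg Q) (h : bform (prG c g) (prG c q) = 1) :
    q * g * q⁻¹ = g * z := by
  have hc : q * g * q⁻¹ ∈ qg Q := mul_mem (mul_mem hq hg) (inv_mem hq)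
  have hpr : prG c g = prG c (q * g * q⁻¹) := by
    rw [prG_mul c (mul_mem hq hg) (inv_mem hq), prG_mul c hq hg, prG_inv c hq, add_comm (prG c q), add_assoc,
      pf_self, add_zero]
  refine ((prG_eq_iff c hg hc).1 hpr).resolve_left fun e => ?_
  have h0 := (comm_iff_bform c hg hq).1 (mul_inv_eq_iff_eq_mul.1 e).symm
  rw [h] at h0
  exact one_ne_zero h0

theorem conj_prG {m : c.M} [Q.Normal] {g : G} (hg : g ∈ qg Q) :
    ((m : Subgroup.centralizer ({z} : Set G)) : G) * g * ((m : Subgroup.centralizer ({z} : Set G)) : G)⁻¹ ∈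
      qg Q ∧
    prG c (((m : Subgroup.centralizer ({z} : Set G)) : G) * g * ((m : Subgroup.centralizer ({z} : Set G)) : G)⁻¹) =
      mat (c.act m) *ᵥ prG c g := by
  obtain ⟨q, hq, rfl⟩ := hg
  simp only [Subgroup.coe_subtype]
  rw [← Subgroup.coe_inv, ← Subgroup.coe_mul, ← Subgroup.coe_mul, prG_coe, prG_coe]
  exact ⟨mem_qg.2 (Subgroup.Normal.conj_mem inferInstance q hq _), c.conj_pr m q hq⟩

theorem conj_mem_qg [Q.Normal] {h g : G} (hh : h ∈ Subgroup.centralizer ({z} : Set G)) (hg : g ∈ qg Q) :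
    h * g * h⁻¹ ∈ qg Q := by
  obtain ⟨q, hq, rfl⟩ := hg
  exact ⟨⟨h, hh⟩ * q * ⟨h, hh⟩⁻¹, Subgroup.Normal.conj_mem inferInstance q hq _, rfl⟩

theorem card_qg : Nat.card (qg Q) = Nat.card Q :=
  Nat.card_congr (Q.equivMapOfInjective _ Subtype.val_injective).symm.toEquiv

include c in
/-- The order of the centraliser. -/
theorem card_cent [Finite G] (hQ : Nat.card Q = 2 ^ 13) :
    Nat.card ↥(Subgroup.centralizer ({z} : Set G)) = 2 * (2 ^ 13 * 9797760) := by
  have hk : c.act.ker = Q.subgroupOf c.M := by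
    ext m; rw [MonoidHom.mem_ker, c.ker_act, Subgroup.mem_subgroupOf]
  have hM := Subgroup.card_eq_card_quotient_mul_card_subgroup c.act.ker
  rw [Nat.card_congr (QuotientGroup.quotientKerEquivRange c.act).toEquiv, c.range_act, card_Kb, hk,
    Nat.card_congr (Subgroup.subgroupOfEquivOfLe c.le_M).toEquiv, hQ] at hM
  rw [← c.M.card_mul_index, c.index_M, hM]
  ring

end CfsgLib.Trans3.FischerType.PairCode
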