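import Cfsg.Agent.Lib.Trans3.FischerType.PairOrbit
import Mathlib.Tactic.IntervalCases
import Mathlib.Tactic.NormNum
import Mathlib.Tactic.NormNum.Prime

/-!
The orbits of the normaliser of the largest elementary abelian subgroup `A` of order `2^11`: the centraliser
of the central involution has orbits 90, 36 on the part in `Q` and orbits of size divisible by 240 outside,
which forces orbits 1771 and 276.
-/

set_option autoImplicit false
set_option linter.unusedSectionVars false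

namespace CfsgLib.Trans3.FischerType.PairCode

variable {G : Type*} [Group G]

/-- The elements of `A` conjugate to `z`. -/
def zcls (z : G) (A : Subgroup G) : Set G := {a | a ∈ A ∧ IsConj z a}

/-- The non-trivial elements of `A` not conjugate to `z`. -/
def tcls (z : G) (A : Subgroup G) : Set G := {a | a ∈ A ∧ a ≠ 1 ∧ ¬ IsConj z a}

/-- The normaliser of `A` in the centraliser of `z`. -/
def nz (z : G) (A : Subgroup G) : Subgroup G :=
  Subgroup.normalizer (A : Set G) ⊓ Subgroup.centralizer ({z} : Set G)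

/-- What is known from the centraliser of `z`. -/
structure LocalData (z : G) (A Q : Subgroup G) : Prop where
  z_ne : z ≠ 1
  z_mem : z ∈ A ⊓ Q
  elem : Cfsg.IsElementaryAbelian 2 A
  card_A : Nat.card A = 2 ^ 11
  card_B : Nat.card ↥(A ⊓ Q : Subgroup G) = 2 ^ 7
  cent_A : Subgroup.centralizer (A : Set G) ≤ A
  fusion : ∀ a ∈ A, ∀ g : G, g * a * g⁻¹ ∈ A →
    ∃ m ∈ Subgroup.normalizer (A : Set G), m * a * m⁻¹ = g * a * g⁻¹
  order_dvd : 2 ^ 21 * 135 ∣ Nat.card (nz z A)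
  prime_le : ∀ p : ℕ, p.Prime → p ∣ Nat.card ↥(Subgroup.centralizer ({z} : Set G)) → p ≤ 7
  zcls_B : {a ∈ zcls z A | a ∈ Q}.ncard = 91
  span_B : Subgroup.closure {a ∈ zcls z A | a ∈ Q} = A ⊓ Q
  trans_B : ∀ a ∈ tcls z A, a ∈ Q → ∀ b ∈ tcls z A, b ∈ Q → b ∈ corb (nz z A) a
  nz_Q : ∀ n ∈ nz z A, ∀ q ∈ Q, n * q * n⁻¹ ∈ Q
  orbit_out : ∀ a ∈ A, a ∉ Q → 240 ∣ (corb (nz z A) a).ncard

namespace LocalData

variable {z : G} {A Q : Subgroup G} (d : LocalData z A Q) [Finite G]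

include d

theorem z_A : z ∈ A := (Subgroup.mem_inf.1 d.z_mem).1

theorem sq {a : G} (ha : a ∈ A) : a * a = 1 := by rw [← pow_two]; exact d.elem.2 a ha

theorem comm {a b : G} (ha : a ∈ A) (hb : b ∈ A) : a * b = b * a :=
  congrArg Subtype.val (d.elem.1.1.1 ⟨a, ha⟩ ⟨b, hb⟩)

theorem conj_mem {m a : G} (hm : m ∈ Subgroup.normalizer (A : Set G)) (ha : a ∈ A) : m * a * m⁻¹ ∈ A :=
  (Subgroup.mem_normalizer_iff.1 hm a).1 ha

theorem conj_mem_inf {n a : G} (hn : n ∈ nz z A) (ha : a ∈ A) : n * a * n⁻¹ ∈ Q ↔ a ∈ Q := by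
  refine ⟨fun h => ?_, fun h => d.nz_Q n hn a h⟩
  have := d.nz_Q n⁻¹ (inv_mem hn) _ h
  simpa [mul_assoc] using this

theorem zcls_conj {m a : G} (hm : m ∈ Subgroup.normalizer (A : Set G)) (ha : a ∈ zcls z A) :
    m * a * m⁻¹ ∈ zcls z A :=
  ⟨d.conj_mem hm ha.1, ha.2.trans (isConj_iff.2 ⟨m, rfl⟩)⟩

theorem tcls_conj {m a : G} (hm : m ∈ Subgroup.normalizer (A : Set G)) (ha : a ∈ tcls z A) :
    m * a * m⁻¹ ∈ tcls z A :=
  ⟨d.conj_mem hm ha.1, fun h => ha.2.1 (conj_eq_one_iff.1 h),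
    fun h => ha.2.2 (h.trans (isConj_iff.2 ⟨m⁻¹, by group⟩))⟩

/-- The conjugates of `z` in `A` are one orbit of the normaliser. -/
theorem zcls_eq : zcls z A = corb (Subgroup.normalizer (A : Set G)) z := by
  ext a
  constructor
  · rintro ⟨ha, hc⟩
    obtain ⟨g, rfl⟩ := isConj_iff.1 hc
    exact d.fusion z d.z_A g ha
  · rintro ⟨m, hm, rfl⟩
    exact d.zcls_conj hm ⟨d.z_A, IsConj.refl z⟩

theorem ncard_zcls_mul :
    (zcls z A).ncard * Nat.card (nz z A) = Nat.card ↥(Subgroup.normalizer (A : Set G)) := by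
  rw [d.zcls_eq]; exact ncard_corb_mul _ z

theorem ncard_inQ :
    {a ∈ zcls z A | a ∈ Q}.ncard + {a ∈ tcls z A | a ∈ Q}.ncard = 127 := by
  rw [← Set.ncard_union_eq (Set.disjoint_left.2 fun a h h' => h'.1.2.2 h.1.2) (Set.toFinite _)
    (Set.toFinite _)]
  have e : {a ∈ zcls z A | a ∈ Q} ∪ {a ∈ tcls z A | a ∈ Q} = ((A ⊓ Q : Subgroup G) : Set G) \ {1} := by
    ext a
    simp only [zcls, tcls, Set.mem_union, Set.mem_ofPred_eq, Set.mem_sdiff, SetLike.mem_coe,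
      Subgroup.mem_inf, Set.mem_singleton_iff]
    constructor
    · rintro (⟨⟨h1, h2⟩, h3⟩ | ⟨⟨h1, h2, -⟩, h3⟩)
      · exact ⟨⟨h1, h3⟩, fun e => d.z_ne (isConj_one_left.1 (e ▸ h2))⟩
      · exact ⟨⟨h1, h3⟩, h2⟩
    · rintro ⟨⟨h1, h3⟩, h2⟩
      by_cases hc : IsConj z a
      · exact Or.inl ⟨⟨h1, hc⟩, h3⟩
      · exact Or.inr ⟨⟨h1, h2, hc⟩, h3⟩
  rw [e, Set.ncard_sdiff_singleton_of_mem (one_mem (A ⊓ Q : Subgroup G)), ← Nat.card_coe_set_eq,
    SetLike.coe_sort_coe, d.card_B]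
  rfl

theorem tcls_B_card : {a ∈ tcls z A | a ∈ Q}.ncard = 36 := by
  have := d.ncard_inQ
  have := d.zcls_B
  omega

theorem out_dvd (X : Set G) (hX : ∀ a ∈ X, a ∈ A ∧ a ∉ Q)
    (hinv : ∀ a ∈ X, ∀ n ∈ nz z A, n * a * n⁻¹ ∈ X) : 240 ∣ X.ncard :=
  dvd_ncard_of_invariant (nz z A) 240 X hinv fun a ha => d.orbit_out a (hX a ha).1 (hX a ha).2

theorem zcls_split : ∃ k, {a ∈ zcls z A | a ∉ Q}.ncard = 240 * k ∧ k ≤ 8 ∧
    (zcls z A).ncard = 91 + 240 * k ∧ {a ∈ tcls z A | a ∉ Q}.ncard + 240 * k = 1920 := by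
  obtain ⟨k, hk⟩ := d.out_dvd {a ∈ zcls z A | a ∉ Q} (fun a ha => ⟨ha.1.1, ha.2⟩)
    (fun a ha n hn => ⟨d.zcls_conj (Subgroup.mem_inf.1 hn).1 ha.1,
      fun h => ha.2 ((d.conj_mem_inf hn ha.1.1).1 h)⟩)
  have hout : {a ∈ zcls z A | a ∉ Q}.ncard + {a ∈ tcls z A | a ∉ Q}.ncard = 1920 := by
    rw [← Set.ncard_union_eq (Set.disjoint_left.2 fun a h h' => h'.1.2.2 h.1.2) (Set.toFinite _)
      (Set.toFinite _)]
    have e : {a ∈ zcls z A | a ∉ Q} ∪ {a ∈ tcls z A | a ∉ Q} =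
        (A : Set G) \ ((A ⊓ Q : Subgroup G) : Set G) := by
      ext a
      simp only [zcls, tcls, Set.mem_union, Set.mem_ofPred_eq, Set.mem_sdiff, SetLike.mem_coe,
        Subgroup.mem_inf]
      constructor
      · rintro (⟨⟨h1, -⟩, h3⟩ | ⟨⟨h1, -, -⟩, h3⟩) <;> exact ⟨h1, fun h => h3 h.2⟩
      · rintro ⟨h1, h3⟩
        by_cases hc : IsConj z a
        · exact Or.inl ⟨⟨h1, hc⟩, fun h => h3 ⟨h1, h⟩⟩
        · exact Or.inr ⟨⟨h1, fun e => h3 ⟨h1, e ▸ one_mem Q⟩, hc⟩, fun h => h3 ⟨h1, h⟩⟩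
    rw [e, Set.ncard_sdiff (SetLike.coe_subset_coe.2 inf_le_left) (Set.toFinite _), ← Nat.card_coe_set_eq,
      SetLike.coe_sort_coe, d.card_A, ← Nat.card_coe_set_eq, SetLike.coe_sort_coe, d.card_B]
    rfl
  refine ⟨k, hk, by omega, ?_, by omega⟩
  have hu : zcls z A = {a ∈ zcls z A | a ∈ Q} ∪ {a ∈ zcls z A | a ∉ Q} := by
    ext a
    simp only [Set.mem_union, Set.mem_ofPred_eq]
    tauto
  rw [hu, Set.ncard_union_eq (Set.disjoint_left.2 fun a h h' => h'.2 h.2) (Set.toFinite _)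
    (Set.toFinite _), d.zcls_B, hk]

/-- An element of prime order `p` of the normaliser outside the centraliser cannot exist when `p` does not
divide any `2^n - 2^i`. -/
theorem exists_elem {p : ℕ} [Fact p.Prime] (hp : p ∣ (zcls z A).ncard)
    (hH : ¬ p ∣ Nat.card ↥(Subgroup.centralizer ({z} : Set G))) :
    ∃ x ∈ Subgroup.normalizer (A : Set G), x ^ p = 1 ∧ x ∉ Subgroup.centralizer ({z} : Set G) := by
  obtain ⟨x, hx⟩ := exists_prime_orderOf_dvd_card' p
    (d.ncard_zcls_mul ▸ hp.mul_right _ : p ∣ Nat.card ↥(Subgroup.normalizer (A : Set G)))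
  refine ⟨x, x.2, ?_, fun h => hH ?_⟩
  · rw [← Subgroup.orderOf_coe] at hx
    rw [← hx, pow_orderOf_eq_one]
  · have h1 := orderOf_dvd_natCard (⟨(x : G), h⟩ : ↥(Subgroup.centralizer ({z} : Set G)))
    rw [← Subgroup.orderOf_coe] at h1 hx
    exact hx ▸ h1

theorem fix_A {p : ℕ} [Fact p.Prime] {x : G} (hx : x ∈ Subgroup.normalizer (A : Set G)) (hxp : x ^ p = 1)
    (hxz : x ∉ Subgroup.centralizer ({z} : Set G)) :
    ∃ i, i ≤ 11 ∧ i ≠ 11 ∧ 2 ^ i ≡ 2 ^ 11 [MOD p] ∧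
      Nat.card ↥(A ⊓ Subgroup.centralizer ({x} : Set G) : Subgroup G) = 2 ^ i := by
  obtain ⟨i, hi, e, hm⟩ := exists_fixed_card A d.card_A (fun a ha => d.conj_mem hx ha) hxp
  refine ⟨i, hi, fun h => hxz ?_, hm, e⟩
  have hAx : A ⊓ Subgroup.centralizer ({x} : Set G) = A :=
    Subgroup.eq_of_le_of_card_ge inf_le_left (by rw [e, h, d.card_A])
  have hz := (Subgroup.mem_inf.1 (hAx.symm ▸ d.z_A : z ∈ A ⊓ Subgroup.centralizer ({x} : Set G))).2
  exact Subgroup.mem_centralizer_singleton_iff.2 (Subgroup.mem_centralizer_singleton_iff.1 hz).symm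

theorem zcls_card : (zcls z A).ncard = 1771 := by
  obtain ⟨k, hk, hk8, hN, -⟩ := d.zcls_split
  rw [hN]
  have bad : ∀ p : ℕ, p.Prime → 7 < p → (∀ i < 11, 2 ^ i % p ≠ 2 ^ 11 % p) →
      p ∣ (zcls z A).ncard → False := by
    intro p hp h7 hno hdvd
    haveI : Fact p.Prime := ⟨hp⟩
    have hH : ¬ p ∣ Nat.card ↥(Subgroup.centralizer ({z} : Set G)) := fun h => by
      have := d.prime_le p hp h; omega
    obtain ⟨x, hx, hxp, hxz⟩ := d.exists_elem hdvd hH
    obtain ⟨i, hi, hne, hm, -⟩ := d.fix_A hx hxp hxz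
    exact hno i (by omega) hm
  interval_cases k
  · -- all conjugates lie in `Q`: an element of order 13 acts trivially on their span
    exfalso
    haveI : Fact (Nat.Prime 13) := ⟨by norm_num⟩
    obtain ⟨x, hx, hxp, hxz⟩ := d.exists_elem (p := 13) (by rw [hN]; norm_num) (fun h => absurd (d.prime_le 13 (by norm_num) h) (by norm_num))
    have hall : ∀ a ∈ zcls z A, a ∈ Q := fun a ha => by
      by_contra h
      have : 0 < {a ∈ zcls z A | a ∉ Q}.ncard := (Set.ncard_pos (Set.toFinite _)).2 ⟨a, ha, h⟩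
      omega
    have hxB : ∀ b ∈ (A ⊓ Q : Subgroup G), x * b * x⁻¹ ∈ (A ⊓ Q : Subgroup G) := by
      rw [← d.span_B]
      intro b hb
      induction hb using Subgroup.closure_induction with
      | mem b hb =>
        exact Subgroup.subset_closure ⟨d.zcls_conj hx hb.1, hall _ (d.zcls_conj hx hb.1)⟩
      | one => simp
      | mul a c _ _ ha hc => rw [show x * (a * c) * x⁻¹ = x * a * x⁻¹ * (x * c * x⁻¹) by group]; exact mul_mem ha hc
      | inv a _ ha => rw [show x * a⁻¹ * x⁻¹ = (x * a * x⁻¹)⁻¹ by group]; exact inv_mem ha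
    obtain ⟨i, hi, e, hm⟩ := exists_fixed_card (A ⊓ Q) d.card_B hxB hxp
    have h7 : i = 7 := by
      have hm' : 2 ^ i % 13 = 2 ^ 7 % 13 := hm
      interval_cases i <;> first | rfl | exact absurd hm' (by norm_num)
    have hBx : (A ⊓ Q) ⊓ Subgroup.centralizer ({x} : Set G) = A ⊓ Q :=
      Subgroup.eq_of_le_of_card_ge inf_le_left (by rw [e, h7, d.card_B])
    have hz := (Subgroup.mem_inf.1 (hBx.symm ▸ d.z_mem : z ∈ (A ⊓ Q) ⊓ Subgroup.centralizer ({x} : Set G))).2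
    exact hxz (Subgroup.mem_centralizer_singleton_iff.2 (Subgroup.mem_centralizer_singleton_iff.1 hz).symm)
  · exact (bad 331 (by norm_num) (by norm_num) (by decide) (by rw [hN])).elim
  · exact (bad 571 (by norm_num) (by norm_num) (by decide) (by rw [hN])).elim
  · exact (bad 811 (by norm_num) (by norm_num) (by decide) (by rw [hN])).elim
  · exact (bad 1051 (by norm_num) (by norm_num) (by decide) (by rw [hN])).elim
  · exact (bad 1291 (by norm_num) (by norm_num) (by decide) (by rw [hN])).elim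
  · exact (bad 1531 (by norm_num) (by norm_num) (by decide) (by rw [hN])).elim
  · rfl
  · exact (bad 2011 (by norm_num) (by norm_num) (by decide) (by rw [hN])).elim

theorem tout_card : {a ∈ tcls z A | a ∉ Q}.ncard = 240 := by
  obtain ⟨k, -, -, hN, ht⟩ := d.zcls_split
  have := d.zcls_card
  omega

theorem tcls_card : (tcls z A).ncard = 276 := by
  have hu : tcls z A = {a ∈ tcls z A | a ∈ Q} ∪ {a ∈ tcls z A | a ∉ Q} := by
    ext a
    simp only [Set.mem_union, Set.mem_ofPred_eq]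
    tauto
  rw [hu, Set.ncard_union_eq (Set.disjoint_left.2 fun a h h' => h'.2 h.2) (Set.toFinite _)
    (Set.toFinite _), d.tcls_B_card, d.tout_card]

/-- The part outside is one orbit of the centraliser. -/
theorem tout_orbit {a : G} (ha : a ∈ tcls z A) (haQ : a ∉ Q) :
    corb (nz z A) a = {a ∈ tcls z A | a ∉ Q} := by
  have hsub : corb (nz z A) a ⊆ {a ∈ tcls z A | a ∉ Q} := by
    rintro _ ⟨n, hn, rfl⟩
    exact ⟨d.tcls_conj (Subgroup.mem_inf.1 hn).1 ha, fun h => haQ ((d.conj_mem_inf hn ha.1).1 h)⟩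
  refine Set.eq_of_subset_of_ncard_le hsub ?_ (Set.toFinite _)
  obtain ⟨k, hk⟩ := d.orbit_out a ha.1 haQ
  have hpos : 0 < (corb (nz z A) a).ncard := (Set.ncard_pos (Set.toFinite _)).2 ⟨a, mem_corb_self _ a⟩
  rw [d.tout_card, hk]
  rcases k with - | k <;> omega

/-- An element of order 23 of the normaliser fixes only the identity. -/
theorem exists_fpf : ∃ x ∈ Subgroup.normalizer (A : Set G), x ^ 23 = 1 ∧
    ∀ a ∈ A, x * a * x⁻¹ = a → a = 1 := by
  haveI : Fact (Nat.Prime 23) := ⟨by norm_num⟩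
  have hH : ¬ 23 ∣ Nat.card ↥(Subgroup.centralizer ({z} : Set G)) := fun h => by
    have := d.prime_le 23 (by norm_num) h; omega
  obtain ⟨x, hx, hxp, hxz⟩ := d.exists_elem (p := 23) (by rw [d.zcls_card]; norm_num) hH
  obtain ⟨i, hi, hne, hm, hc⟩ := d.fix_A hx hxp hxz
  have h0 : i = 0 := by
    have hm' : 2 ^ i % 23 = 2 ^ 11 % 23 := hm
    interval_cases i <;> first | rfl | omega
  refine ⟨x, hx, hxp, fun a ha h => ?_⟩
  rw [h0, pow_zero] at hc
  have h1 := Subgroup.eq_bot_of_card_eq _ hc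
  have : a ∈ A ⊓ Subgroup.centralizer ({x} : Set G) :=
    Subgroup.mem_inf.2 ⟨ha, Subgroup.mem_centralizer_singleton_iff.2 (mul_inv_eq_iff_eq_mul.1 h).symm⟩
  rw [h1] at this
  exact Subgroup.mem_bot.1 this

/-- An invariant set of non-trivial elements has size divisible by 23. -/
theorem dvd_23 (X : Set G) (hX : ∀ a ∈ X, a ∈ A ∧ a ≠ 1)
    (hinv : ∀ a ∈ X, ∀ m ∈ Subgroup.normalizer (A : Set G), m * a * m⁻¹ ∈ X) : 23 ∣ X.ncard := by
  haveI : Fact (Nat.Prime 23) := ⟨by norm_num⟩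
  obtain ⟨x, hx, hxp, hfix⟩ := d.exists_fpf
  have hS : Subgroup.zpowers x ≤ Subgroup.normalizer (A : Set G) := Subgroup.zpowers_le.2 hx
  refine dvd_ncard_of_invariant (Subgroup.zpowers x) 23 X (fun a ha s hs => hinv a ha s (hS hs))
    fun a ha => ?_
  have hord : orderOf x ∣ 23 := orderOf_dvd_of_pow_eq_one hxp
  have hdvd : (corb (Subgroup.zpowers x) a).ncard ∣ 23 :=
    (Dvd.intro _ (ncard_corb_mul (Subgroup.zpowers x) a)).trans (by rw [Nat.card_zpowers]; exact hord)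
  rcases (Nat.dvd_prime (by norm_num)).1 hdvd with h | h
  · exfalso
    obtain ⟨b, hb⟩ := Set.ncard_eq_one.1 h
    have h1 : x * a * x⁻¹ ∈ corb (Subgroup.zpowers x) a := ⟨x, Subgroup.mem_zpowers x, rfl⟩
    have h2 : a ∈ corb (Subgroup.zpowers x) a := mem_corb_self _ a
    rw [hb, Set.mem_singleton_iff] at h1 h2
    exact (hX a ha).2 (hfix a (hX a ha).1 (h1.trans h2.symm))
  · rw [h]

/-- The normaliser is transitive on the non-trivial elements not conjugate to `z`. -/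
theorem tcls_eq {a : G} (ha : a ∈ tcls z A) : tcls z A = corb (Subgroup.normalizer (A : Set G)) a := by
  set M := Subgroup.normalizer (A : Set G)
  have hsub : ∀ b ∈ tcls z A, corb M b ⊆ tcls z A := by
    rintro b hb _ ⟨m, hm, rfl⟩
    exact d.tcls_conj hm hb
  have h23 : ∀ b ∈ tcls z A, 23 ∣ (corb M b).ncard := fun b hb =>
    d.dvd_23 _ (fun c hc => ⟨(hsub b hb hc).1, (hsub b hb hc).2.1⟩) fun c hc m hm => by
      rw [← corb_eq hc]; exact ⟨m, hm, rfl⟩
  have hle : nz z A ≤ M := inf_le_left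
  suffices ∀ b ∈ tcls z A, ∃ c ∈ corb M b, c ∈ Q ∧ ∃ e ∈ corb M b, e ∉ Q by
    obtain ⟨c, hc, hcQ, e, he, heQ⟩ := this a ha
    refine Set.Subset.antisymm (fun x hx => ?_) (hsub a ha)
    by_cases hxQ : x ∈ Q
    · rw [← corb_eq hc]
      exact corb_mono hle c (d.trans_B c (hsub a ha hc) hcQ x hx hxQ)
    · rw [← corb_eq he]
      refine corb_mono hle e ?_
      rw [d.tout_orbit (hsub a ha he) heQ]
      exact ⟨hx, hxQ⟩
  intro b hb
  by_cases hbQ : b ∈ Q
  · refine ⟨b, mem_corb_self _ b, hbQ, ?_⟩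
    by_contra hne
    push Not at hne
    have h36 : corb M b = {a ∈ tcls z A | a ∈ Q} := Set.Subset.antisymm
      (fun x hx => ⟨hsub b hb hx, hne x hx⟩) fun x hx => corb_mono hle b (d.trans_B b hb hbQ x hx.1 hx.2)
    have := h23 b hb
    rw [h36, d.tcls_B_card] at this
    omega
  · by_contra hne
    push Not at hne
    have h240 : corb M b = {a ∈ tcls z A | a ∉ Q} := Set.Subset.antisymm
      (fun x hx => ⟨hsub b hb hx, fun h => hbQ (hne x hx h b (mem_corb_self _ b))⟩)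
      fun x hx => corb_mono hle b (by rw [d.tout_orbit hb hbQ]; exact hx)
    have := h23 b hb
    rw [h240, d.tout_card] at this
    omega

/-- Two orbits: the conjugates of `z` and the rest. -/
theorem two_orbits {a : G} (ha : a ∈ A) {b : G} (hb : b ∈ A) (ha1 : a ≠ 1) (hb1 : b ≠ 1)
    (hiff : IsConj z a ↔ IsConj z b) : ∃ m ∈ Subgroup.normalizer (A : Set G), m * a * m⁻¹ = b := by
  by_cases hc : IsConj z a
  · have h1 : a ∈ corb (Subgroup.normalizer (A : Set G)) z := d.zcls_eq ▸ (⟨ha, hc⟩ : a ∈ zcls z A)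
    have h2 : b ∈ corb (Subgroup.normalizer (A : Set G)) z := d.zcls_eq ▸ (⟨hb, hiff.1 hc⟩ : b ∈ zcls z A)
    rw [← corb_eq h1] at h2
    exact h2
  · have hta : a ∈ tcls z A := ⟨ha, ha1, hc⟩
    have htb : b ∈ tcls z A := ⟨hb, hb1, fun h => hc (hiff.2 h)⟩
    rw [d.tcls_eq hta] at htb
    exact htb

end LocalData

end CfsgLib.Trans3.FischerType.PairCode
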