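import Cfsg.Agent.Lib.Trans3.FischerType.PairCount
import Mathlib.Combinatorics.Enumerative.DoubleCounting

/-!
The sum graph on the 276 non-trivial elements of `A` not conjugate to the central involution: it is
edge-transitive with valency 44, and the 21 common neighbours of an edge other than its sum form a clique.
-/

set_option autoImplicit false
set_option linter.unusedSectionVars false

namespace CfsgLib.Trans3.FischerType.PairCode

variable {G : Type*} [Group G]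

/-- The part of `tcls` in `Q`. -/
def tin (z : G) (A Q : Subgroup G) : Set G := {a ∈ tcls z A | a ∈ Q}

/-- The part of `tcls` outside `Q`. -/
def tout (z : G) (A Q : Subgroup G) : Set G := {a ∈ tcls z A | a ∉ Q}

/-- The neighbours in the sum graph. -/
def nbrG (z : G) (A : Subgroup G) (x : G) : Set G := {y ∈ tcls z A | x * y ∈ tcls z A}

/-- The neighbours outside `Q`. -/
def nout (z : G) (A Q : Subgroup G) (x : G) : Set G := {y ∈ tout z A Q | x * y ∈ tcls z A}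

/-- The common neighbours of an edge other than its sum. -/
def comG (z : G) (A : Subgroup G) (x y : G) : Set G :=
  {c ∈ tcls z A | c * x ∈ tcls z A ∧ c * y ∈ tcls z A ∧ c ≠ x * y}

/-- The common neighbours outside `Q`. -/
def cout (z : G) (A Q : Subgroup G) (x y : G) : Set G :=
  {c ∈ tout z A Q | c * x ∈ tcls z A ∧ c * y ∈ tcls z A}

/-- What the centraliser of `z` gives about the sum graph. -/
structure EdgeData (z : G) (A Q : Subgroup G) : Prop extends LocalData z A Q where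
  four : ∀ t ∈ tin z A Q, {x ∈ tin z A Q | t * x ∈ tcls z A}.ncard = 4
  four_z : ∀ t ∈ tin z A Q, ∀ u ∈ tin z A Q, t * u ∈ tcls z A → u * z ∈ tcls z A ∧ t * u * z ∈ tcls z A
  six : ∀ a ∈ tout z A Q, {x ∈ tin z A Q | a * x ∈ tcls z A}.ncard = 6
  one_of : ∀ a ∈ tout z A Q, ∀ x ∈ tin z A Q, ¬ (a * x ∈ tcls z A ∧ a * (x * z) ∈ tcls z A)
  spread : ∀ a ∈ tout z A Q, ∀ t ∈ tin z A Q, ∀ u ∈ tin z A Q, t * u ∈ tcls z A → a * t ∈ tcls z A →
    a * u ∈ tcls z A ∨ a * (u * z) ∈ tcls z A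
  odd : ∀ a ∈ tout z A Q, ∀ t ∈ tin z A Q, ∀ u ∈ tin z A Q, t * u ∈ tcls z A → a * t ∈ tcls z A →
    a * u ∈ tcls z A → a * (t * u) ∉ tcls z A
  swap : ∀ t ∈ tin z A Q, ∀ u ∈ tin z A Q, t * u ∈ tcls z A →
    ∃ n ∈ nz z A, n * t * n⁻¹ = t ∧ n * u * n⁻¹ = u * z
  trans_out : ∀ t ∈ tin z A Q, ∀ u ∈ tin z A Q, t * u ∈ tcls z A → ∀ a ∈ cout z A Q t u,
    ∀ b ∈ cout z A Q t u, ∃ n ∈ nz z A, n * t * n⁻¹ = t ∧ n * u * n⁻¹ = u ∧ n * a * n⁻¹ = b

namespace EdgeData

variable {z : G} {A Q : Subgroup G} (e : EdgeData z A Q) [Finite G]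

include e

theorem nbr_conj {m : G} (hm : m ∈ Subgroup.normalizer (A : Set G)) {x y : G} (hy : y ∈ nbrG z A x) :
    m * y * m⁻¹ ∈ nbrG z A (m * x * m⁻¹) :=
  ⟨e.toLocalData.tcls_conj hm hy.1, by
    rw [show m * x * m⁻¹ * (m * y * m⁻¹) = m * (x * y) * m⁻¹ by group]
    exact e.toLocalData.tcls_conj hm hy.2⟩

theorem tout_conj {n a : G} (hn : n ∈ nz z A) (ha : a ∈ tout z A Q) : n * a * n⁻¹ ∈ tout z A Q :=
  ⟨e.toLocalData.tcls_conj (Subgroup.mem_inf.1 hn).1 ha.1,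
    fun h => ha.2 ((e.toLocalData.conj_mem_inf hn ha.1.1).1 h)⟩

theorem tin_conj {n a : G} (hn : n ∈ nz z A) (ha : a ∈ tin z A Q) : n * a * n⁻¹ ∈ tin z A Q :=
  ⟨e.toLocalData.tcls_conj (Subgroup.mem_inf.1 hn).1 ha.1, e.nz_Q n hn a ha.2⟩

theorem nout_conj {n : G} (hn : n ∈ nz z A) {x y : G} (hy : y ∈ nout z A Q x) :
    n * y * n⁻¹ ∈ nout z A Q (n * x * n⁻¹) :=
  ⟨e.tout_conj hn hy.1, (e.nbr_conj (Subgroup.mem_inf.1 hn).1 ⟨hy.1.1, hy.2⟩).2⟩

theorem ncard_nout_le {n : G} (hn : n ∈ nz z A) (x : G) :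
    (nout z A Q x).ncard ≤ (nout z A Q (n * x * n⁻¹)).ncard :=
  Set.ncard_le_ncard_of_injOn (fun y => n * y * n⁻¹) (fun _ hy => e.nout_conj hn hy)
    (fun a _ b _ h => by simpa using h) (Set.toFinite _)

theorem nout_card {t : G} (ht : t ∈ tin z A Q) : (nout z A Q t).ncard = 40 := by
  classical
  haveI := Fintype.ofFinite G
  set S := (tin z A Q).toFinset
  set R := (tout z A Q).toFinset
  have h := Finset.card_mul_eq_card_mul (fun x a => x * a ∈ tcls z A) (s := S) (t := R)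
    (m := (nout z A Q t).ncard) (n := 6) ?_ ?_
  · rw [show S.card = 36 by rw [← Set.ncard_eq_toFinset_card' (tin z A Q)]; exact e.toLocalData.tcls_B_card,
      show R.card = 240 by rw [← Set.ncard_eq_toFinset_card' (tout z A Q)]; exact e.toLocalData.tout_card] at h
    omega
  · intro x hx
    rw [Set.mem_toFinset] at hx
    obtain ⟨n, hn, hnx⟩ := e.trans_B t ht.1 ht.2 x hx.1 hx.2
    have h1 := e.ncard_nout_le hn t
    obtain ⟨k, hk, hkx⟩ := e.trans_B x hx.1 hx.2 t ht.1 ht.2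
    have h2 := e.ncard_nout_le hk x
    rw [hnx] at h1
    rw [hkx] at h2
    rw [Finset.bipartiteAbove, show (nout z A Q t).ncard = (nout z A Q x).ncard by omega,
      ← Set.ncard_coe_finset]
    refine congrArg Set.ncard ?_
    ext a
    simp [R, nout]
  · intro a ha
    rw [Set.mem_toFinset] at ha
    rw [Finset.bipartiteBelow, ← e.six a ha, ← Set.ncard_coe_finset]
    refine congrArg Set.ncard ?_
    ext x
    simp only [Finset.coe_filter, S, Set.mem_toFinset, Set.mem_ofPred_eq]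
    refine and_congr_right fun hx => ?_
    rw [e.toLocalData.comm ha.1.1 hx.1.1]

theorem ne_z {a : G} (ha : a ∈ tcls z A) : a ≠ z := fun h => ha.2.2 (by rw [h])

theorem four_eq {t u : G} (ht : t ∈ tin z A Q) (hu : u ∈ tin z A Q) (htu : t * u ∈ tcls z A) :
    {x ∈ tin z A Q | t * x ∈ tcls z A} = {u, u * z, t * u, t * u * z} := by
  have hzQ : z ∈ Q := (Subgroup.mem_inf.1 e.z_mem).2
  obtain ⟨h1, h2⟩ := e.four_z t ht u hu htu
  have c1 : t * (t * u) = u := by rw [← mul_assoc, e.toLocalData.sq ht.1.1, one_mul]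
  have hne1 : t ≠ 1 := ht.1.2.1
  have hnez : t ≠ z := e.ne_z ht.1
  refine (Set.eq_of_subset_of_ncard_le ?_ ?_ (Set.toFinite _)).symm
  · rintro x (rfl | rfl | rfl | rfl)
    · exact ⟨hu, htu⟩
    · exact ⟨⟨h1, mul_mem hu.2 hzQ⟩, by rw [← mul_assoc]; exact h2⟩
    · exact ⟨⟨htu, mul_mem ht.2 hu.2⟩, by rw [c1]; exact hu.1⟩
    · exact ⟨⟨h2, mul_mem (mul_mem ht.2 hu.2) hzQ⟩, by rw [← mul_assoc, c1]; exact h1⟩
  · rw [e.four t ht]
    have hz2 : z * z = 1 := e.toLocalData.sq e.toLocalData.z_A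
    have n1 : u ≠ u * z := fun h => e.z_ne (mul_eq_left.1 h.symm)
    have n2 : u ≠ t * u := fun h => hne1 (mul_eq_right.1 h.symm)
    have n3 : u ≠ t * u * z := fun h => hnez (by
      have : t * u * z * (u * z) = u * (u * z) := by rw [← h]
      rw [← mul_assoc u u z, e.toLocalData.sq hu.1.1, one_mul, mul_assoc t u z, mul_assoc,
        e.toLocalData.sq h1.1, mul_one] at this
      exact this)
    have n4 : u * z ≠ t * u := fun h => hnez (by
      have : t * u * u = u * z * u := by rw [h]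
      rw [mul_assoc t, e.toLocalData.sq hu.1.1, mul_one, e.toLocalData.comm hu.1.1 e.toLocalData.z_A,
        mul_assoc, e.toLocalData.sq hu.1.1, mul_one] at this
      exact this)
    have n5 : u * z ≠ t * u * z := fun h => n2 (mul_right_cancel h)
    have n6 : t * u ≠ t * u * z := fun h => e.z_ne (mul_eq_left.1 h.symm)
    rw [Set.ncard_insert_of_notMem (by simp [n1, n2, n3]), Set.ncard_insert_of_notMem (by simp [n4, n5]),
      Set.ncard_pair n6]

theorem exists_partner {t : G} (ht : t ∈ tin z A Q) : ∃ u ∈ tin z A Q, t * u ∈ tcls z A := by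
  obtain ⟨u, hu, htu⟩ := Set.nonempty_of_ncard_ne_zero (s := {x ∈ tin z A Q | t * x ∈ tcls z A})
    (by rw [e.four t ht]; decide)
  exact ⟨u, hu, htu⟩

theorem deg_in {t : G} (ht : t ∈ tin z A Q) : (nbrG z A t).ncard = 44 := by
  have hu : nbrG z A t = {x ∈ tin z A Q | t * x ∈ tcls z A} ∪ nout z A Q t := by
    ext x
    simp only [nbrG, nout, tin, tout, Set.mem_union, Set.mem_ofPred_eq]
    tauto
  rw [hu, Set.ncard_union_eq (Set.disjoint_left.2 fun a h h' => h'.1.2 h.1.2) (Set.toFinite _)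
    (Set.toFinite _), e.four t ht, e.nout_card ht]

theorem deg {x : G} (hx : x ∈ tcls z A) : (nbrG z A x).ncard = 44 := by
  obtain ⟨t, ht⟩ := Set.nonempty_of_ncard_ne_zero (s := tin z A Q)
    (by rw [show (tin z A Q).ncard = 36 from e.toLocalData.tcls_B_card]; decide)
  rw [e.toLocalData.tcls_eq ht.1] at hx
  obtain ⟨m, hm, rfl⟩ := hx
  rw [← e.deg_in ht]
  refine le_antisymm ?_ (Set.ncard_le_ncard_of_injOn (fun y => m * y * m⁻¹)
    (fun _ hy => e.nbr_conj hm hy) (fun a _ b _ h => by simpa using h) (Set.toFinite _))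
  refine Set.ncard_le_ncard_of_injOn (fun y => m⁻¹ * y * m⁻¹⁻¹) (fun y hy => ?_)
    (fun a _ b _ h => by simpa using h) (Set.toFinite _)
  have := e.nbr_conj (inv_mem hm) hy
  rwa [show m⁻¹ * (m * t * m⁻¹) * m⁻¹⁻¹ = t by group] at this

theorem cout_card {t u : G} (ht : t ∈ tin z A Q) (hu : u ∈ tin z A Q) (htu : t * u ∈ tcls z A) :
    (cout z A Q t u).ncard = 20 := by
  have hz : u * z ∈ tin z A Q :=
    ⟨(e.four_z t ht u hu htu).1, mul_mem hu.2 (Subgroup.mem_inf.1 e.z_mem).2⟩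
  have cz : u * z * z = u := by rw [mul_assoc, e.toLocalData.sq e.toLocalData.z_A, mul_one]
  obtain ⟨n, hn, h1, h2⟩ := e.swap t ht u hu htu
  have h2' : n * (u * z) * n⁻¹ = u := by
    have hnz : n * z * n⁻¹ = z := mul_inv_eq_iff_eq_mul.2
      (Subgroup.mem_centralizer_singleton_iff.1 (Subgroup.mem_inf.1 hn).2)
    rw [show n * (u * z) * n⁻¹ = n * u * n⁻¹ * (n * z * n⁻¹) by group, h2, hnz, cz]
  have key : ∀ v w, n * v * n⁻¹ = w → (cout z A Q t v).ncard ≤ (cout z A Q t w).ncard := fun v w hvw =>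
    Set.ncard_le_ncard_of_injOn (fun y => n * y * n⁻¹) (fun y hy => ⟨e.tout_conj hn hy.1, by
      rw [← h1, show n * y * n⁻¹ * (n * t * n⁻¹) = n * (y * t) * n⁻¹ by group]
      exact e.toLocalData.tcls_conj (Subgroup.mem_inf.1 hn).1 hy.2.1, by
      rw [← hvw, show n * y * n⁻¹ * (n * v * n⁻¹) = n * (y * v) * n⁻¹ by group]
      exact e.toLocalData.tcls_conj (Subgroup.mem_inf.1 hn).1 hy.2.2⟩)
      (fun a _ b _ h => by simpa using h) (Set.toFinite _)
  have hU : nout z A Q t = cout z A Q t u ∪ cout z A Q t (u * z) := by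
    ext a
    constructor
    · rintro ⟨ha, hat⟩
      rw [e.toLocalData.comm ht.1.1 ha.1.1] at hat
      exact (e.spread a ha t ht u hu htu hat).imp (fun h => ⟨ha, hat, h⟩) fun h => ⟨ha, hat, h⟩
    · rintro (⟨ha, hat, -⟩ | ⟨ha, hat, -⟩) <;>
        exact ⟨ha, by rwa [e.toLocalData.comm ht.1.1 ha.1.1]⟩
  have hD : Disjoint (cout z A Q t u) (cout z A Q t (u * z)) :=
    Set.disjoint_left.2 fun a h h' => e.one_of a h.1 u hu ⟨h.2.2, h'.2.2⟩
  have := e.nout_card ht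
  rw [hU, Set.ncard_union_eq hD (Set.toFinite _) (Set.toFinite _)] at this
  have := key u (u * z) h2
  have := key (u * z) u h2'
  omega

theorem com_eq {t u : G} (ht : t ∈ tin z A Q) (hu : u ∈ tin z A Q) (htu : t * u ∈ tcls z A) :
    comG z A t u = insert (t * u * z) (cout z A Q t u) := by
  obtain ⟨h1, h2⟩ := e.four_z t ht u hu htu
  have hA := fun {x : G} (hx : x ∈ tcls z A) => hx.1
  ext c
  constructor
  · rintro ⟨hc, hct, hcu, hne⟩
    by_cases hcQ : c ∈ Q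
    · have h4 : c ∈ ({u, u * z, t * u, t * u * z} : Set G) := by
        rw [← e.four_eq ht hu htu]
        exact ⟨⟨hc, hcQ⟩, by rwa [e.toLocalData.comm ht.1.1 hc.1]⟩
      rcases h4 with rfl | rfl | rfl | rfl
      · exact absurd (e.toLocalData.sq hu.1.1) hcu.2.1
      · exfalso
        rw [mul_assoc, e.toLocalData.comm e.toLocalData.z_A hu.1.1, ← mul_assoc,
          e.toLocalData.sq hu.1.1, one_mul] at hcu
        exact e.ne_z hcu rfl
      · exact absurd rfl hne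
      · exact Set.mem_insert _ _
    · exact Set.mem_insert_of_mem _ ⟨⟨hc, hcQ⟩, hct, hcu⟩
  · rintro (rfl | ⟨⟨hc, hcQ⟩, hct, hcu⟩)
    · have hzA := e.toLocalData.z_A
      have hac := fun {a b : G} (ha : a ∈ A) (hb : b ∈ A) => e.toLocalData.comm ha hb
      refine ⟨h2, ?_, ?_, fun h => e.z_ne (mul_eq_left.1 h)⟩
      · rw [hac h2.1 ht.1.1, ← mul_assoc, ← mul_assoc, e.toLocalData.sq ht.1.1, one_mul]
        exact h1
      · obtain ⟨h3, -⟩ := e.four_z u hu t ht (hac ht.1.1 hu.1.1 ▸ htu)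
        rw [mul_assoc (t * u), hac hzA hu.1.1, ← mul_assoc, mul_assoc t u u, e.toLocalData.sq hu.1.1,
          mul_one]
        exact h3
    · exact ⟨hc, hct, hcu, fun h => hcQ (h ▸ mul_mem ht.2 hu.2)⟩

theorem com_card_in {t u : G} (ht : t ∈ tin z A Q) (hu : u ∈ tin z A Q) (htu : t * u ∈ tcls z A) :
    (comG z A t u).ncard = 21 := by
  rw [e.com_eq ht hu htu, Set.ncard_insert_of_notMem (fun h => h.1.2
    (mul_mem (mul_mem ht.2 hu.2) (Subgroup.mem_inf.1 e.z_mem).2)), e.cout_card ht hu htu]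

theorem com_sum_in {t u : G} (ht : t ∈ tin z A Q) (hu : u ∈ tin z A Q) (htu : t * u ∈ tcls z A)
    {c : G} (hc : c ∈ comG z A t u) : c * (t * u) ∉ tcls z A := by
  rw [e.com_eq ht hu htu] at hc
  rcases hc with rfl | ⟨hc, hct, hcu⟩
  · rw [mul_assoc (t * u), e.toLocalData.comm e.toLocalData.z_A htu.1, ← mul_assoc,
      e.toLocalData.sq htu.1, one_mul]
    exact fun h => e.ne_z h rfl
  · exact e.odd c hc t ht u hu htu hct hcu

/-- The centre of `A ⊓ Q` is adjacent to the common neighbours outside. -/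
theorem centre_adj {t u : G} (ht : t ∈ tin z A Q) (hu : u ∈ tin z A Q) (htu : t * u ∈ tcls z A)
    {c : G} (hc : c ∈ cout z A Q t u) : t * u * z * c ∈ tcls z A := by
  have htu' : t * u ∈ tin z A Q := ⟨htu, mul_mem ht.2 hu.2⟩
  have := (e.spread c hc.1 t ht (t * u) htu' (by rw [← mul_assoc, e.toLocalData.sq ht.1.1, one_mul]; exact hu.1)
    hc.2.1).resolve_left (e.odd c hc.1 t ht u hu htu hc.2.1 hc.2.2)
  rwa [e.toLocalData.comm hc.1.1.1 (e.four_z t ht u hu htu).2.1] at this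

theorem card_M_eq {t : G} (ht : t ∈ tin z A Q) :
    Nat.card ↥(Subgroup.normalizer (A : Set G) ⊓ Subgroup.centralizer ({t} : Set G) : Subgroup G) =
      231 * Nat.card ↥(nz z A ⊓ Subgroup.centralizer ({t} : Set G) : Subgroup G) := by
  have h1 := ncard_corb_mul (Subgroup.normalizer (A : Set G)) t
  have h2 := ncard_corb_mul (nz z A) t
  have h3 := e.toLocalData.ncard_zcls_mul
  rw [← e.toLocalData.tcls_eq ht.1, e.toLocalData.tcls_card] at h1
  rw [show corb (nz z A) t = tin z A Q from Set.Subset.antisymm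
    (by rintro _ ⟨n, hn, rfl⟩; exact e.tin_conj hn ht) (fun x hx => e.trans_B t ht.1 ht.2 x hx.1 hx.2),
    show (tin z A Q).ncard = 36 from e.toLocalData.tcls_B_card] at h2
  rw [e.toLocalData.zcls_card, ← h1, ← h2] at h3
  omega

theorem mem_nz {m : G} (hm : m ∈ Subgroup.normalizer (A : Set G)) (h : m * z * m⁻¹ = z) : m ∈ nz z A :=
  Subgroup.mem_inf.2 ⟨hm, Subgroup.mem_centralizer_singleton_iff.2 (mul_inv_eq_iff_eq_mul.1 h)⟩

/-- Every edge is conjugate to one in `Q`. -/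
theorem edge_in {x y : G} (hx : x ∈ tcls z A) (hy : y ∈ tcls z A) (hxy : x * y ∈ tcls z A) :
    ∃ m ∈ Subgroup.normalizer (A : Set G), ∃ t ∈ tin z A Q, ∃ u ∈ tin z A Q, t * u ∈ tcls z A ∧
      m * t * m⁻¹ = x ∧ m * u * m⁻¹ = y := by
  obtain ⟨t, ht⟩ := Set.nonempty_of_ncard_ne_zero (s := tin z A Q)
    (by rw [show (tin z A Q).ncard = 36 from e.toLocalData.tcls_B_card]; decide)
  rw [e.toLocalData.tcls_eq ht.1] at hx
  obtain ⟨m, hm, rfl⟩ := hx
  have hy' := e.nbr_conj (inv_mem hm) (x := m * t * m⁻¹) (y := y) ⟨hy, hxy⟩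
  rw [show m⁻¹ * (m * t * m⁻¹) * m⁻¹⁻¹ = t by group] at hy'
  set v := m⁻¹ * y * m⁻¹⁻¹
  have hyv : m * v * m⁻¹ = y := by simp [v, mul_assoc]
  by_cases hvQ : v ∈ Q
  · exact ⟨m, hm, t, ht, v, ⟨hy'.1, hvQ⟩, hy'.2, rfl, hyv⟩
  -- some element fixing `t` moves a partner out of `Q`
  obtain ⟨u, hu, htu⟩ := e.exists_partner ht
  obtain ⟨k, hk, hkt, w, hw, htw, hkw⟩ : ∃ k ∈ Subgroup.normalizer (A : Set G), k * t * k⁻¹ = t ∧
      ∃ w ∈ tin z A Q, t * w ∈ tcls z A ∧ k * w * k⁻¹ ∉ Q := by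
    by_contra hne
    push Not at hne
    have hfix : Subgroup.normalizer (A : Set G) ⊓ Subgroup.centralizer ({t} : Set G) ≤
        nz z A ⊓ Subgroup.centralizer ({t} : Set G) := by
      intro k hk
      obtain ⟨hk1, hk2⟩ := Subgroup.mem_inf.1 hk
      have hkt : k * t * k⁻¹ = t := mul_inv_eq_iff_eq_mul.2 (Subgroup.mem_centralizer_singleton_iff.1 hk2)
      refine Subgroup.mem_inf.2 ⟨e.mem_nz hk1 ?_, hk2⟩
      have img : ∀ w ∈ ({u, u * z, t * u, t * u * z} : Set G),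
          k * w * k⁻¹ ∈ ({u, u * z, t * u, t * u * z} : Set G) := by
        intro w hw
        rw [← e.four_eq ht hu htu] at hw ⊢
        have hn := e.nbr_conj hk1 (x := t) (y := w) ⟨hw.1.1, hw.2⟩
        rw [hkt] at hn
        exact ⟨⟨hn.1, hne k hk1 hkt w hw.1 hw.2⟩, hn.2⟩
      have hconj : IsConj z (k * z * k⁻¹) := isConj_iff.2 ⟨k, rfl⟩
      have hz2 : z * z = 1 := e.toLocalData.sq e.toLocalData.z_A
      have huu : u * u = 1 := e.toLocalData.sq hu.1.1
      have heq : k * z * k⁻¹ = k * u * k⁻¹ * (k * (u * z) * k⁻¹) := by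
        rw [show k * u * k⁻¹ * (k * (u * z) * k⁻¹) = k * (u * u) * z * k⁻¹ by group, huu, mul_one]
      have hzA := e.toLocalData.z_A
      have hnd : k * u * k⁻¹ ≠ k * (u * z) * k⁻¹ := fun h => e.z_ne (by simpa using h)
      have hac := fun {a b : G} (ha : a ∈ A) (hb : b ∈ A) => e.toLocalData.comm ha hb
      obtain ⟨hz1, -⟩ := e.four_z u hu t ht (hac ht.1.1 hu.1.1 ▸ htu)
      have p1 : ∀ a ∈ A, ∀ b ∈ A, a * (a * b) = b := fun a ha b _ => by
        rw [← mul_assoc, e.toLocalData.sq ha, one_mul]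
      have huzA : u * z ∈ A := mul_mem hu.1.1 hzA
      -- the products of two different members are `z`, `t` and `t * z`
      have prods : ∀ a ∈ ({u, u * z, t * u, t * u * z} : Set G),
          ∀ b ∈ ({u, u * z, t * u, t * u * z} : Set G), a ≠ b → a * b = z ∨ a * b = t ∨ a * b = t * z := by
        have q1 : u * (u * z) = z := p1 u hu.1.1 z hzA
        have q2 : u * (t * u) = t := by rw [hac ht.1.1 hu.1.1, p1 u hu.1.1 t ht.1.1]
        have q3 : u * (t * u * z) = t * z := by rw [← mul_assoc, q2]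
        have q4 : u * z * (t * u) = t * z := by
          rw [mul_assoc, hac hzA htu.1, ← mul_assoc, q2]
        have q5 : u * z * (t * u * z) = t := by
          rw [← mul_assoc, q4, mul_assoc, hz2, mul_one]
        have q6 : t * u * (t * u * z) = z := p1 _ htu.1 z hzA
        rintro a (rfl | rfl | rfl | rfl) b (rfl | rfl | rfl | rfl) hab
        all_goals first
          | exact absurd rfl hab
          | exact Or.inl q1
          | exact Or.inr (Or.inl q2)
          | exact Or.inr (Or.inr q3)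
          | exact Or.inr (Or.inr q4)
          | exact Or.inr (Or.inl q5)
          | exact Or.inl q6
          | (rw [hac (by assumption) (by assumption)])
          | (left; rw [hac (mul_mem hu.1.1 hzA) hu.1.1]; exact q1)
          | (right; left; rw [hac htu.1 hu.1.1]; exact q2)
          | (right; right; rw [hac (mul_mem htu.1 hzA) hu.1.1]; exact q3)
          | (right; right; rw [hac htu.1 (mul_mem hu.1.1 hzA)]; exact q4)
          | (right; left; rw [hac (mul_mem htu.1 hzA) (mul_mem hu.1.1 hzA)]; exact q5)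
          | (left; rw [hac (mul_mem htu.1 hzA) htu.1]; exact q6)
      rcases prods _ (img u (Set.mem_insert _ _)) _
        (img (u * z) (Set.mem_insert_of_mem _ (Set.mem_insert _ _))) hnd with h | h | h
      · rw [heq, h]
      · rw [heq, h] at hconj; exact absurd hconj ht.1.2.2
      · rw [heq, h] at hconj; exact absurd hconj hz1.2.2
    have h1 := Subgroup.card_dvd_of_le hfix
    rw [e.card_M_eq ht] at h1
    have := Nat.le_of_dvd Nat.card_pos h1
    have : 0 < Nat.card ↥(nz z A ⊓ Subgroup.centralizer ({t} : Set G) : Subgroup G) := Nat.card_pos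
    omega
  have hkn := e.nbr_conj hk (x := t) (y := w) ⟨hw.1, htw⟩
  rw [hkt] at hkn
  set a := k * w * k⁻¹
  -- move `a` to `v` inside the centraliser of `t`
  have hside : ∀ b ∈ tout z A Q, t * b ∈ tcls z A → ∃ n ∈ nz z A, n * t * n⁻¹ = t ∧
      n * b * n⁻¹ ∈ cout z A Q t u := by
    intro b hb hbt
    rw [e.toLocalData.comm ht.1.1 hb.1.1] at hbt
    rcases e.spread b hb t ht u hu htu hbt with h | h
    · exact ⟨1, one_mem _, by simp, by simp only [one_mul, inv_one, mul_one]; exact ⟨hb, hbt, h⟩⟩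
    · obtain ⟨n, hn, h1, h2⟩ := e.swap t ht u hu htu
      refine ⟨n, hn, h1, e.tout_conj hn hb, ?_, ?_⟩
      · rw [← h1, show n * b * n⁻¹ * (n * t * n⁻¹) = n * (b * t) * n⁻¹ by group]
        exact e.toLocalData.tcls_conj (Subgroup.mem_inf.1 hn).1 hbt
      · have hnz : n * z * n⁻¹ = z := mul_inv_eq_iff_eq_mul.2
          (Subgroup.mem_centralizer_singleton_iff.1 (Subgroup.mem_inf.1 hn).2)
        have h2' : n * (u * z) * n⁻¹ = u := by
          rw [show n * (u * z) * n⁻¹ = n * u * n⁻¹ * (n * z * n⁻¹) by group, h2, hnz, mul_assoc,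
            e.toLocalData.sq e.toLocalData.z_A, mul_one]
        rw [← h2', show n * b * n⁻¹ * (n * (u * z) * n⁻¹) = n * (b * (u * z)) * n⁻¹ by group]
        exact e.toLocalData.tcls_conj (Subgroup.mem_inf.1 hn).1 h
  obtain ⟨n₁, hn₁, hn₁t, hn₁a⟩ := hside a ⟨hkn.1, hkw⟩ hkn.2
  obtain ⟨n₂, hn₂, hn₂t, hn₂v⟩ := hside v ⟨hy'.1, hvQ⟩ hy'.2
  obtain ⟨n, hn, hnt, -, hnv⟩ := e.trans_out t ht u hu htu _ hn₁a _ hn₂v
  have fix : n₂⁻¹ * t * n₂ = t := by
    conv_lhs => rw [← hn₂t]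
    group
  refine ⟨m * (n₂⁻¹ * n * n₁ * k), mul_mem hm (mul_mem (mul_mem (mul_mem
    (inv_mem (Subgroup.mem_inf.1 hn₂).1) (Subgroup.mem_inf.1 hn).1) (Subgroup.mem_inf.1 hn₁).1) hk),
    t, ht, w, hw, htw, ?_, ?_⟩
  · calc m * (n₂⁻¹ * n * n₁ * k) * t * (m * (n₂⁻¹ * n * n₁ * k))⁻¹
        = m * (n₂⁻¹ * (n * (n₁ * (k * t * k⁻¹) * n₁⁻¹) * n⁻¹) * n₂) * m⁻¹ := by group
      _ = m * t * m⁻¹ := by rw [hkt, hn₁t, hnt, fix]
  · calc m * (n₂⁻¹ * n * n₁ * k) * w * (m * (n₂⁻¹ * n * n₁ * k))⁻¹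
        = m * (n₂⁻¹ * (n * (n₁ * a * n₁⁻¹) * n⁻¹) * n₂) * m⁻¹ := by simp only [a]; group
      _ = m * (n₂⁻¹ * (n₂ * v * n₂⁻¹) * n₂) * m⁻¹ := by rw [hnv]
      _ = m * v * m⁻¹ := by group
      _ = y := hyv

theorem com_conj {m : G} (hm : m ∈ Subgroup.normalizer (A : Set G)) {x y c : G} (hc : c ∈ comG z A x y) :
    m * c * m⁻¹ ∈ comG z A (m * x * m⁻¹) (m * y * m⁻¹) := by
  have h : ∀ p q : G, p * q ∈ tcls z A → m * p * m⁻¹ * (m * q * m⁻¹) ∈ tcls z A := fun p q hpq => by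
    rw [show m * p * m⁻¹ * (m * q * m⁻¹) = m * (p * q) * m⁻¹ by group]
    exact e.toLocalData.tcls_conj hm hpq
  refine ⟨e.toLocalData.tcls_conj hm hc.1, h c x hc.2.1, h c y hc.2.2.1, fun he => hc.2.2.2 ?_⟩
  rw [show m * x * m⁻¹ * (m * y * m⁻¹) = m * (x * y) * m⁻¹ by group] at he
  simpa using he

theorem com_adj_in {t u : G} (ht : t ∈ tin z A Q) (hu : u ∈ tin z A Q) (htu : t * u ∈ tcls z A)
    {c d : G} (hc : c ∈ comG z A t u) (hd : d ∈ comG z A t u) (hne : c ≠ d) : c * d ∈ tcls z A := by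
  set c₀ := t * u * z
  have hc₀ : c₀ ∈ comG z A t u := by rw [e.com_eq ht hu htu]; exact Set.mem_insert _ _
  have hout : ∀ x ∈ comG z A t u, x ≠ c₀ → x ∈ cout z A Q t u := fun x hx hx0 => by
    rw [e.com_eq ht hu htu] at hx
    exact hx.resolve_left hx0
  -- the stabiliser of the edge moves the central element
  obtain ⟨k, hk, hkt, hku, hk0⟩ : ∃ k ∈ Subgroup.normalizer (A : Set G), k * t * k⁻¹ = t ∧
      k * u * k⁻¹ = u ∧ k * c₀ * k⁻¹ ≠ c₀ := by
    by_contra hne'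
    push Not at hne'
    set Mt := Subgroup.normalizer (A : Set G) ⊓ Subgroup.centralizer ({t} : Set G)
    set Nt := nz z A ⊓ Subgroup.centralizer ({t} : Set G)
    have heq : Mt ⊓ Subgroup.centralizer ({u} : Set G) = Nt ⊓ Subgroup.centralizer ({u} : Set G) := by
      refine le_antisymm (fun k hk => ?_) (inf_le_inf_right _ (inf_le_inf_right _ inf_le_left))
      obtain ⟨hk', hk3⟩ := Subgroup.mem_inf.1 hk
      obtain ⟨hk1, hk2⟩ := Subgroup.mem_inf.1 hk'
      have hkt : k * t * k⁻¹ = t := mul_inv_eq_iff_eq_mul.2 (Subgroup.mem_centralizer_singleton_iff.1 hk2)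
      have hku : k * u * k⁻¹ = u := mul_inv_eq_iff_eq_mul.2 (Subgroup.mem_centralizer_singleton_iff.1 hk3)
      have h0 := hne' k hk1 hkt hku
      rw [show k * c₀ * k⁻¹ = k * t * k⁻¹ * (k * u * k⁻¹) * (k * z * k⁻¹) by simp only [c₀]; group,
        hkt, hku] at h0
      exact Subgroup.mem_inf.2 ⟨Subgroup.mem_inf.2 ⟨e.mem_nz hk1 (mul_left_cancel h0), hk2⟩, hk3⟩
    have h1 := ncard_corb_mul Mt u
    have h2 := ncard_corb_mul Nt u
    rw [heq, show Nat.card Mt = 231 * Nat.card Nt from e.card_M_eq ht, ← h2, ← mul_assoc] at h1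
    have h3 := Nat.eq_of_mul_eq_mul_right Nat.card_pos h1
    have h4 : (corb Mt u).ncard ≤ 44 := by
      rw [← e.deg_in ht]
      refine Set.ncard_le_ncard ?_ (Set.toFinite _)
      rintro _ ⟨k, hk, rfl⟩
      obtain ⟨hk1, hk2⟩ := Subgroup.mem_inf.1 hk
      have := e.nbr_conj hk1 (x := t) (y := u) ⟨hu.1, htu⟩
      rwa [show k * t * k⁻¹ = t from mul_inv_eq_iff_eq_mul.2 (Subgroup.mem_centralizer_singleton_iff.1 hk2)]
        at this
    have : 0 < (corb Nt u).ncard := (Set.ncard_pos (Set.toFinite _)).2 ⟨u, mem_corb_self _ u⟩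
    omega
  have hk0' : k * c₀ * k⁻¹ ∈ cout z A Q t u := by
    have := e.com_conj hk hc₀
    rw [hkt, hku] at this
    exact hout _ this hk0
  obtain ⟨j, hj, hjt, hju, hjc⟩ : ∃ j ∈ Subgroup.normalizer (A : Set G), j * t * j⁻¹ = t ∧
      j * u * j⁻¹ = u ∧ j * c₀ * j⁻¹ = c := by
    by_cases h : c = c₀
    · exact ⟨1, one_mem _, by simp, by simp, by simp [h]⟩
    obtain ⟨n, hn, hnt, hnu, hnc⟩ := e.trans_out t ht u hu htu _ hk0' _ (hout c hc h)
    refine ⟨n * k, mul_mem (Subgroup.mem_inf.1 hn).1 hk, ?_, ?_, ?_⟩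
    · rw [show n * k * t * (n * k)⁻¹ = n * (k * t * k⁻¹) * n⁻¹ by group, hkt, hnt]
    · rw [show n * k * u * (n * k)⁻¹ = n * (k * u * k⁻¹) * n⁻¹ by group, hku, hnu]
    · rw [show n * k * c₀ * (n * k)⁻¹ = n * (k * c₀ * k⁻¹) * n⁻¹ by group, hnc]
  have hd' := e.com_conj (inv_mem hj) hd
  have et : j⁻¹ * t * j⁻¹⁻¹ = t := by
    rw [inv_inv]; conv_lhs => rw [← hjt]
    group
  have eu : j⁻¹ * u * j⁻¹⁻¹ = u := by
    rw [inv_inv]; conv_lhs => rw [← hju]
    group
  rw [et, eu] at hd'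
  have hd0 : j⁻¹ * d * j⁻¹⁻¹ ≠ c₀ := fun h => hne (by
    rw [← hjc, ← h]; group)
  have := e.toLocalData.tcls_conj hj (e.centre_adj ht hu htu (hout _ hd' hd0))
  rwa [show j * (c₀ * (j⁻¹ * d * j⁻¹⁻¹)) * j⁻¹ = j * c₀ * j⁻¹ * d by group, hjc] at this

theorem com_card {x y : G} (hx : x ∈ tcls z A) (hy : y ∈ tcls z A) (hxy : x * y ∈ tcls z A) :
    (comG z A x y).ncard = 21 := by
  obtain ⟨m, hm, t, ht, u, hu, htu, rfl, rfl⟩ := e.edge_in hx hy hxy
  rw [← e.com_card_in ht hu htu]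
  refine le_antisymm (Set.ncard_le_ncard_of_injOn (fun c => m⁻¹ * c * m⁻¹⁻¹) (fun c hc => ?_)
    (fun a _ b _ h => by simpa using h) (Set.toFinite _)) (Set.ncard_le_ncard_of_injOn (fun c => m * c * m⁻¹)
    (fun c hc => e.com_conj hm hc) (fun a _ b _ h => by simpa using h) (Set.toFinite _))
  have := e.com_conj (inv_mem hm) hc
  rwa [show m⁻¹ * (m * t * m⁻¹) * m⁻¹⁻¹ = t by group, show m⁻¹ * (m * u * m⁻¹) * m⁻¹⁻¹ = u by group] at this

theorem com_pull {m : G} (hm : m ∈ Subgroup.normalizer (A : Set G)) {t u c : G}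
    (hc : c ∈ comG z A (m * t * m⁻¹) (m * u * m⁻¹)) : m⁻¹ * c * m⁻¹⁻¹ ∈ comG z A t u := by
  have := e.com_conj (inv_mem hm) hc
  rwa [show m⁻¹ * (m * t * m⁻¹) * m⁻¹⁻¹ = t by group, show m⁻¹ * (m * u * m⁻¹) * m⁻¹⁻¹ = u by group] at this

theorem com_sum {x y : G} (hx : x ∈ tcls z A) (hy : y ∈ tcls z A) (hxy : x * y ∈ tcls z A) {c : G}
    (hc : c ∈ comG z A x y) : c * (x * y) ∉ tcls z A := by
  obtain ⟨m, hm, t, ht, u, hu, htu, rfl, rfl⟩ := e.edge_in hx hy hxy
  intro h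
  refine e.com_sum_in ht hu htu (e.com_pull hm hc) ?_
  have := e.toLocalData.tcls_conj (inv_mem hm) h
  rwa [show m⁻¹ * (c * (m * t * m⁻¹ * (m * u * m⁻¹))) * m⁻¹⁻¹ = m⁻¹ * c * m⁻¹⁻¹ * (t * u) by group] at this

theorem com_adj {x y : G} (hx : x ∈ tcls z A) (hy : y ∈ tcls z A) (hxy : x * y ∈ tcls z A) {c d : G}
    (hc : c ∈ comG z A x y) (hd : d ∈ comG z A x y) (hne : c ≠ d) : c * d ∈ tcls z A := by
  obtain ⟨m, hm, t, ht, u, hu, htu, rfl, rfl⟩ := e.edge_in hx hy hxy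
  have := e.com_adj_in ht hu htu (e.com_pull hm hc) (e.com_pull hm hd) (by simpa using hne)
  have := e.toLocalData.tcls_conj hm this
  rwa [show m * (m⁻¹ * c * m⁻¹⁻¹ * (m⁻¹ * d * m⁻¹⁻¹)) * m⁻¹ = c * d by group] at this

end EdgeData

end CfsgLib.Trans3.FischerType.PairCode
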