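import Cfsg.Agent.Lib.Trans3.FischerType.PairQuot
import Cfsg.Agent.Lib.Trans3.FischerType.PairModel

/-!
From one Sylow subgroup to every Sylow subgroup: the Thompson subgroup, its normaliser and the orbits.
-/

set_option autoImplicit false
set_option linter.unusedSectionVars false

open scoped Pointwise

namespace CfsgLib.Trans3.FischerType.PairCode

variable {G : Type*} [Group G]

/-- Elementary abelian groups map to elementary abelian groups. -/
theorem elem_map {A : Subgroup G} (h : Cfsg.IsElementaryAbelian 2 A) {H : Type*} [Group H] (φ : G →* H) :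
    Cfsg.IsElementaryAbelian 2 (A.map φ) := by
  refine ⟨⟨⟨fun x y => ?_⟩⟩, fun x hx => ?_⟩
  · obtain ⟨_, x, hx, rfl⟩ := x; obtain ⟨_, y, hy, rfl⟩ := y
    apply Subtype.ext
    show φ x * φ y = φ y * φ x
    rw [← map_mul, ← map_mul, show x * y = y * x from congrArg Subtype.val (h.1.1.1 ⟨x, hx⟩ ⟨y, hy⟩)]
  · obtain ⟨y, hy, rfl⟩ := ‹_ ∈ A.map _›
    rw [← map_pow, h.2 y hy, map_one]

/-- A unique largest elementary abelian subgroup is the Thompson subgroup. -/
theorem thompson_eq [Finite G] {T A : Subgroup G} (h : IsUniqueMaxElem T A) :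
    Cfsg.thompsonSubgroupOf 2 T = A := by
  obtain ⟨hle, hel, huniq⟩ := h
  have hA : (A.subgroupOf T).map T.subtype = A := Subgroup.map_subgroupOf_eq_of_le hle
  have hA' : Cfsg.IsElementaryAbelian 2 (A.subgroupOf T) := by
    refine ⟨⟨⟨fun x y => ?_⟩⟩, fun x hx => Subtype.ext (hel.2 _ hx)⟩
    exact Subtype.ext (Subtype.ext (congrArg Subtype.val (hel.1.1.1 ⟨_, x.2⟩ ⟨_, y.2⟩) :))
  have hcA : Nat.card (A.subgroupOf T) = Nat.card A :=
    Nat.card_congr (Subgroup.subgroupOfEquivOfLe hle).toEquiv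
  suffices Cfsg.maxElementaryAbelianSubgroups 2 T = {A.subgroupOf T} by
    rw [Cfsg.thompsonSubgroupOf, Cfsg.thompsonSubgroup, this, sSup_singleton, hA]
  ext B
  simp only [Cfsg.maxElementaryAbelianSubgroups, Set.mem_ofPred_eq, Set.mem_singleton_iff]
  have hcard : ∀ C : Subgroup T, Nat.card (C.map T.subtype) = Nat.card C := fun C =>
    Subgroup.card_map_of_injective T.subtype_injective
  constructor
  · rintro ⟨hB, hmax⟩
    refine Subgroup.map_injective T.subtype_injective ?_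
    rw [hA]
    exact huniq _ (Subgroup.map_subtype_le B) (elem_map hB _) (by rw [hcard, ← hcA]; exact hmax _ hA')
  · rintro rfl
    refine ⟨hA', fun C hC => ?_⟩
    by_contra hlt
    push Not at hlt
    have := huniq _ (Subgroup.map_subtype_le C) (elem_map hC _) (by rw [hcard, ← hcA]; exact hlt.le)
    have h2 := hcard C
    rw [this] at h2
    rw [hcA, ← h2] at hlt
    exact lt_irrefl _ hlt

variable {z : G}

/-- The conclusions for a pair `(A, z)`. -/
structure Concl (z : G) (A : Subgroup G) : Prop where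
  elem : Cfsg.IsElementaryAbelian 2 A
  card : Nat.card A = 2 ^ 11
  quot : ∃ _ : (A.subgroupOf (Subgroup.normalizer (A : Set G))).Normal,
    Nonempty (↥(Subgroup.normalizer (A : Set G)) ⧸ A.subgroupOf (Subgroup.normalizer (A : Set G)) ≃* ↥Cfsg.M24)
  fusion : ∀ a ∈ A, ∀ g : G, g * a * g⁻¹ ∈ A →
    ∃ m ∈ Subgroup.normalizer (A : Set G), m * a * m⁻¹ = g * a * g⁻¹
  exists_conj : ∃ a ∈ A, a ≠ 1 ∧ IsConj z a
  exists_not : ∃ a ∈ A, a ≠ 1 ∧ ¬ IsConj z a
  orbits : ∀ a ∈ A, ∀ b ∈ A, a ≠ 1 → b ≠ 1 → (IsConj z a ↔ IsConj z b) →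
    ∃ m ∈ Subgroup.normalizer (A : Set G), m * a * m⁻¹ = b
  stab : ∀ t ∈ A, t ≠ 1 → ¬ IsConj z t →
    ∃ _ : (A.subgroupOf (Subgroup.normalizer (A : Set G) ⊓ Subgroup.centralizer ({t} : Set G))).Normal,
      Nonempty (↥(Subgroup.normalizer (A : Set G) ⊓ Subgroup.centralizer ({t} : Set G) : Subgroup G) ⧸
        A.subgroupOf (Subgroup.normalizer (A : Set G) ⊓ Subgroup.centralizer ({t} : Set G)) ≃*
        ↥(Cfsg.M24 ⊓ MulAction.stabilizer (Equiv.Perm Cfsg.GolayPt)
          ({none, some 0} : Set Cfsg.GolayPt) : Subgroup (Equiv.Perm Cfsg.GolayPt)))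

theorem concl_of_edgeData [Finite G] {A Q : Subgroup G} (e : EdgeData z A Q) : Concl z A where
  elem := e.elem
  card := e.card_A
  quot := e.quot_iso
  fusion := e.fusion
  exists_conj := ⟨z, (Subgroup.mem_inf.1 e.z_mem).1, e.z_ne, IsConj.refl z⟩
  exists_not := by
    obtain ⟨a, ha⟩ := Set.nonempty_of_ncard_ne_zero (s := tcls z A) (by rw [e.toLocalData.tcls_card]; decide)
    exact ⟨a, ha.1, ha.2.1, ha.2.2⟩
  orbits := fun a ha b hb ha1 hb1 h => e.toLocalData.two_orbits ha hb ha1 hb1 h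
  stab := fun t ht h1 h2 => e.stab_iso ⟨ht, h1, h2⟩

/-- A conjugation carries a quotient to a quotient. -/
theorem quot_conj (σ : G ≃* G) (A S : Subgroup G) (hS : S ≤ Subgroup.normalizer (A : Set G))
    {X : Type*} [Group X]
    (h : ∃ _ : (A.subgroupOf S).Normal, Nonempty (↥S ⧸ A.subgroupOf S ≃* X)) :
    ∃ _ : ((A.map σ.toMonoidHom).subgroupOf (S.map σ.toMonoidHom)).Normal,
      Nonempty (↥(S.map σ.toMonoidHom) ⧸ (A.map σ.toMonoidHom).subgroupOf (S.map σ.toMonoidHom) ≃* X) := by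
  obtain ⟨hn, ⟨φ⟩⟩ := h
  have hle : S.map σ.toMonoidHom ≤ Subgroup.normalizer ((A.map σ.toMonoidHom : Subgroup G) : Set G) := by
    rw [← Subgroup.map_equiv_normalizer_eq]; exact Subgroup.map_mono hS
  haveI hn' := LocalData.normal_subgroupOf hle
  set e := S.equivMapOfInjective σ.toMonoidHom σ.injective
  have he : (A.subgroupOf S).map e.toMonoidHom = (A.map σ.toMonoidHom).subgroupOf (S.map σ.toMonoidHom) := by
    ext y
    simp only [Subgroup.mem_map, Subgroup.mem_subgroupOf, MulEquiv.coe_toMonoidHom]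
    constructor
    · rintro ⟨x, hx, rfl⟩
      exact ⟨x, hx, rfl⟩
    · rintro ⟨a, ha, hae⟩
      obtain ⟨x, hx, hxy⟩ := y.2
      obtain rfl : a = x := σ.injective (hae.trans hxy.symm)
      exact ⟨⟨a, hx⟩, ha, Subtype.ext hxy⟩
  exact ⟨hn', ⟨(QuotientGroup.congr _ _ e he).symm.trans φ⟩⟩

theorem isConj_conj_iff (z d a : G) : IsConj z (d * a * d⁻¹) ↔ IsConj z a :=
  ⟨fun h => h.trans (isConj_iff.2 ⟨d⁻¹, by group⟩), fun h => h.trans (isConj_iff.2 ⟨d, rfl⟩)⟩

/-- Conjugation preserves the conclusions. -/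
theorem Concl.conj {A : Subgroup G} (h : Concl z A) (d : G) : Concl z (A.map (MulAut.conj d).toMonoidHom) := by
  set σ : G ≃* G := MulAut.conj d
  have hN : Subgroup.normalizer ((A.map σ.toMonoidHom : Subgroup G) : Set G) =
      (Subgroup.normalizer (A : Set G)).map σ.toMonoidHom := (Subgroup.map_equiv_normalizer_eq _ _).symm
  refine ⟨elem_map h.elem _, by rw [Subgroup.card_map_of_injective σ.injective, h.card], ?_, ?_, ?_, ?_, ?_, ?_⟩
  · rw [hN]
    exact quot_conj σ A _ le_rfl h.quot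
  · rintro _ ⟨a, ha, rfl⟩ g hg
    obtain ⟨b, hb, hbe⟩ := hg
    have hb' : b = d⁻¹ * g * d * a * (d⁻¹ * g * d)⁻¹ := by
      have hbe' : d * b * d⁻¹ = g * (d * a * d⁻¹) * g⁻¹ := hbe
      calc b = d⁻¹ * (d * b * d⁻¹) * d := by group
        _ = _ := by rw [hbe']; group
    obtain ⟨m, hm, hme⟩ := h.fusion a ha (d⁻¹ * g * d) (hb' ▸ hb)
    refine ⟨σ m, hN ▸ ⟨m, hm, rfl⟩, ?_⟩
    show d * m * d⁻¹ * (d * a * d⁻¹) * (d * m * d⁻¹)⁻¹ = g * (d * a * d⁻¹) * g⁻¹
    rw [show d * m * d⁻¹ * (d * a * d⁻¹) * (d * m * d⁻¹)⁻¹ = d * (m * a * m⁻¹) * d⁻¹ by group, hme]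
    group
  · obtain ⟨a, ha, h1, h2⟩ := h.exists_conj
    exact ⟨σ a, ⟨a, ha, rfl⟩, fun e => h1 (σ.injective (e.trans (map_one σ).symm)), (isConj_conj_iff z d a).2 h2⟩
  · obtain ⟨a, ha, h1, h2⟩ := h.exists_not
    exact ⟨σ a, ⟨a, ha, rfl⟩, fun e => h1 (σ.injective (e.trans (map_one σ).symm)),
      fun e => h2 ((isConj_conj_iff z d a).1 e)⟩
  · rintro _ ⟨a, ha, rfl⟩ _ ⟨b, hb, rfl⟩ ha1 hb1 hiff
    obtain ⟨m, hm, hme⟩ := h.orbits a ha b hb (fun e => ha1 (by rw [e, map_one]))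
      (fun e => hb1 (by rw [e, map_one]))
      ((isConj_conj_iff z d a).symm.trans (Iff.trans hiff (isConj_conj_iff z d b)))
    exact ⟨σ m, hN ▸ ⟨m, hm, rfl⟩, by
      show σ m * σ a * (σ m)⁻¹ = σ b
      rw [← map_inv, ← map_mul, ← map_mul, hme]⟩
  · rintro _ ⟨t, ht, rfl⟩ ht1 htc
    have hS : Subgroup.normalizer ((A.map σ.toMonoidHom : Subgroup G) : Set G) ⊓
        Subgroup.centralizer ({σ.toMonoidHom t} : Set G) =
        (Subgroup.normalizer (A : Set G) ⊓ Subgroup.centralizer ({t} : Set G)).map σ.toMonoidHom := by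
      rw [hN, Subgroup.map_inf _ _ _ σ.injective]
      congr 1
      ext x
      obtain ⟨y, rfl⟩ := σ.surjective x
      simp only [Subgroup.mem_centralizer_singleton_iff, Subgroup.mem_map, MulEquiv.coe_toMonoidHom]
      constructor
      · intro hy
        exact ⟨y, σ.injective (by rw [map_mul, map_mul]; exact hy), rfl⟩
      · rintro ⟨w, hw, he⟩
        rw [← σ.injective he, ← map_mul, hw, map_mul]
    rw [hS]
    exact quot_conj σ A _ inf_le_left (h.stab t ht (fun e => ht1 (by rw [e, map_one]))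
      fun e => htc ((isConj_conj_iff z d t).2 e))

/-- The conclusions for every Sylow subgroup. -/
theorem concl_thompson [Finite G] {T₀ : Sylow 2 G} {A₀ : Subgroup G}
    (hu : IsUniqueMaxElem (T₀ : Subgroup G) A₀) (h : Concl z A₀) (T : Sylow 2 G) :
    Concl z (Cfsg.thompsonSubgroupOf 2 (T : Subgroup G)) := by
  obtain ⟨d, rfl⟩ := MulAction.exists_smul_eq G T₀ T
  have hmap : ((d • T₀ : Sylow 2 G) : Subgroup G) = (T₀ : Subgroup G).map (MulAut.conj d).toMonoidHom := rfl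
  have hu' : IsUniqueMaxElem ((d • T₀ : Sylow 2 G) : Subgroup G) (A₀.map (MulAut.conj d).toMonoidHom) := by
    obtain ⟨hle, hel, huniq⟩ := hu
    refine ⟨hmap ▸ Subgroup.map_mono hle, elem_map hel _, fun B hB hBe hBc => ?_⟩
    have hback : ∀ x, (MulAut.conj d⁻¹).toMonoidHom ((MulAut.conj d).toMonoidHom x) = x := fun x => by
      simp [mul_assoc]
    have e : B.map (MulAut.conj d⁻¹).toMonoidHom = A₀ := by
      refine huniq _ ?_ (elem_map hBe _) ?_
      · rintro _ ⟨x, hx, rfl⟩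
        obtain ⟨y, hy, rfl⟩ := hmap ▸ hB hx
        rw [hback]
        exact hy
      · rwa [Subgroup.card_map_of_injective (MulAut.conj d⁻¹).injective,
          ← Subgroup.card_map_of_injective (f := (MulAut.conj d).toMonoidHom) (MulAut.conj d).injective]
    rw [← e, Subgroup.map_map, show (MulAut.conj d).toMonoidHom.comp (MulAut.conj d⁻¹).toMonoidHom =
      MonoidHom.id G from MonoidHom.ext fun x => by simp [mul_assoc], Subgroup.map_id]
  rw [thompson_eq hu']
  exact h.conj d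

end CfsgLib.Trans3.FischerType.PairCode
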