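import Cfsg.Agent.Lib.Trans3.FischerType.PairCent
import Cfsg.Prelude.Def_MonsterType

/-!
Elementary consequences of the hypothesis of large Fischer type, and the statements about the Thompson subgroup
in their final shape.
-/

set_option autoImplicit false
set_option linter.unusedSectionVars false

open scoped Pointwise

namespace CfsgLib.Trans3.FischerType.PairCode

variable {G : Type*} [Group G] {z : G}

/-- The shape of the statement on the order and the quotient. -/
theorem Concl.mathieu {A M : Subgroup G} (h : Concl z A) (hM : M = Subgroup.normalizer (A : Set G)) :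
    Cfsg.IsElementaryAbelian 2 A ∧ Nat.card A = 2 ^ 11 ∧
      ∃ _ : (A.subgroupOf M).Normal, Nonempty (↥M ⧸ A.subgroupOf M ≃* ↥Cfsg.M24) := by
  subst hM; exact ⟨h.elem, h.card, h.quot⟩

/-- The shape of the statement on fusion and orbits. -/
theorem Concl.fusion_orbits {A M : Subgroup G} (h : Concl z A) (hM : M = Subgroup.normalizer (A : Set G)) :
    (∀ a ∈ A, ∀ g : G, g * a * g⁻¹ ∈ A → ∃ m ∈ M, m * a * m⁻¹ = g * a * g⁻¹) ∧
      (∃ a ∈ A, a ≠ 1 ∧ IsConj z a) ∧ (∃ a ∈ A, a ≠ 1 ∧ ¬ IsConj z a) ∧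
      ∀ a ∈ A, ∀ b ∈ A, a ≠ 1 → b ≠ 1 → (IsConj z a ↔ IsConj z b) → ∃ m ∈ M, m * a * m⁻¹ = b := by
  subst hM; exact ⟨h.fusion, h.exists_conj, h.exists_not, h.orbits⟩

/-- The shape of the statement on the stabiliser. -/
theorem Concl.stabilizer {A M : Subgroup G} (h : Concl z A) (hM : M = Subgroup.normalizer (A : Set G)) (t : G)
    (htA : t ∈ A) (ht2 : orderOf t = 2) (ht : ¬ IsConj z t) :
    ∃ _ : (A.subgroupOf (M ⊓ Subgroup.centralizer ({t} : Set G))).Normal,
      Nonempty (↥(M ⊓ Subgroup.centralizer ({t} : Set G)) ⧸ A.subgroupOf (M ⊓ Subgroup.centralizer ({t} : Set G)) ≃*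
        ↥(Cfsg.M24 ⊓ MulAction.stabilizer (Equiv.Perm Cfsg.GolayPt) ({none, some 0} : Set Cfsg.GolayPt))) := by
  subst hM; exact h.stab t htA (fun e => by simp [e] at ht2) ht

theorem hyp_basic {Q : Subgroup (Subgroup.centralizer ({z} : Set G))} [Q.Normal] [Finite G]
    (hF : Cfsg.IsOfLargeFischerTypeAt z Q) : z ≠ 1 ∧ Nat.card Q = 2 ^ 13 :=
  ⟨fun e => by have := hF.1.1; simp [e] at this, hF.1.2.2.2.1⟩

open FiLarge in
/-- The central involution lies in `Q`, as `Q` has twice as many elements as there are vectors. -/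
theorem z_mem_qg {Q : Subgroup (Subgroup.centralizer ({z} : Set G))} [Finite G] (c : Coord z Q)
    (hQ : Nat.card Q = 2 ^ 13) : z ∈ qg Q := by
  have hV : Nat.card V6 = 2 ^ 12 := by
    rw [Nat.card_eq_fintype_card, Fintype.card_fun, card_F4, Fintype.card_fin]; norm_num
  have hn : ¬ Function.Injective fun q : Q => c.pr (q : Subgroup.centralizer ({z} : Set G)) := fun h => by
    have := Nat.card_le_card_of_injective _ h
    rw [hQ, hV] at this
    omega
  obtain ⟨q, r, he, hne⟩ := Function.not_injective_iff.1 hn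
  have hq : ((q : Subgroup.centralizer ({z} : Set G)) : G) ∈ qg Q := mem_qg.2 q.2
  have hr : ((r : Subgroup.centralizer ({z} : Set G)) : G) ∈ qg Q := mem_qg.2 r.2
  rcases (prG_eq_iff c hq hr).1 (by rw [prG_coe, prG_coe]; exact he) with e | e
  · exact absurd (Subtype.ext (Subtype.ext e)).symm hne
  · have := mul_mem (inv_mem hq) hr
    rwa [e, inv_mul_cancel_left] at this

end CfsgLib.Trans3.FischerType.PairCode
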