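import Cfsg.Agent.Lib.Trans3.FischerType.PairPoints
import Cfsg.Agent.Lib.Golay.SteinerIso
import Cfsg.Agent.Lib.Golay.SteinerExt
import Cfsg.Agent.Lib.Golay.Mathieu

/-!
A group of automorphisms of an elementary abelian group of order `2^11` preserving a 276-element sum
graph as above maps to the Mathieu group of degree 24, with the elements as pairs of points.
-/

set_option autoImplicit false
set_option linter.unusedSectionVars false

namespace CfsgLib.Trans3.FischerType.PairCode

open scoped Pointwise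

variable {A : Type*} [CommGroup A] [Finite A] {T : Set A} (g : SumGraph T)

include g

namespace SumGraph

theorem image_star (φ : MulAut A) (hφ : ∀ a, φ a ∈ T ↔ a ∈ T) {P : Set A} (hP : P ∈ Stars T) :
    φ '' P ∈ Stars T := by
  obtain ⟨x, y, hx, hy, hxy, rfl⟩ := hP
  refine ⟨φ x, φ y, (hφ x).2 hx, (hφ y).2 hy, map_mul φ x y ▸ (hφ _).2 hxy, ?_⟩
  simp only [clique, Set.image_insert_eq]
  congr 2
  ext c
  obtain ⟨b, rfl⟩ := φ.surjective c
  rw [φ.injective.mem_set_image]
  simp only [Com, Set.mem_ofPred_eq, ← map_mul, hφ, φ.injective.ne_iff]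

/-- The permutation of the stars induced by an automorphism preserving the 276 elements. -/
noncomputable def starMap (φ : MulAut A) (hφ : ∀ a, φ a ∈ T ↔ a ∈ T) (P : ↥(Stars T)) : ↥(Stars T) :=
  ⟨φ '' (P : Set A), g.image_star φ hφ P.2⟩

theorem starMap_injective (φ : MulAut A) (hφ : ∀ a, φ a ∈ T ↔ a ∈ T) :
    Function.Injective (g.starMap φ hφ) := fun P Q h =>
  Subtype.ext (φ.injective.image_injective (congrArg Subtype.val h))

theorem pairElt_starMap (φ : MulAut A) (hφ : ∀ a, φ a ∈ T ↔ a ∈ T) (P Q : ↥(Stars T)) :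
    φ (pairElt T P Q) = pairElt T (g.starMap φ hφ P) (g.starMap φ hφ Q) := by
  rcases eq_or_ne P Q with rfl | hne
  · rw [pairElt_self, pairElt_self, map_one]
  refine (g.pairElt_eq (fun h => hne (g.starMap_injective φ hφ h)) ?_ ?_).symm
  · exact ⟨_, (g.pairElt_mem hne).1, rfl⟩
  · exact ⟨_, (g.pairElt_mem hne).2.1, rfl⟩

theorem setProd_image [DecidableEq ↥(Stars T)] (φ : MulAut A) (hφ : ∀ a, φ a ∈ T ↔ a ∈ T) (B : ↥(Stars T))
    (s : Finset ↥(Stars T)) (he : s.card % 2 = 0) :
    g.setProd B (s.image (g.starMap φ hφ)) = φ (g.setProd B s) := by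
  simp only [setProd]
  rw [Finset.prod_image (fun a _ b _ h => g.starMap_injective φ hφ h), map_prod]
  calc ∏ q ∈ s, pairElt T B (g.starMap φ hφ q)
      = ∏ q ∈ s, pairElt T B (g.starMap φ hφ B) * φ (pairElt T B q) := by
        refine Finset.prod_congr rfl fun q _ => ?_
        rw [g.pairElt_starMap φ hφ, g.pairElt_comm B (g.starMap φ hφ B), g.pairElt_triangle]
    _ = _ := by
        rw [Finset.prod_mul_distrib, Finset.prod_const]
        obtain ⟨k, hk⟩ : 2 ∣ s.card := Nat.dvd_of_mod_eq_zero he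
        rw [hk, pow_mul, pow_two, g.sq, one_pow, one_mul]

theorem steiner [Fintype ↥(Stars T)] [DecidableEq ↥(Stars T)] (B : ↥(Stars T)) :
    Cfsg.IsSteinerSystem 5 8 (g.blocks B) := by
  refine ⟨fun b hb => hb.1, fun s hs => ?_⟩
  obtain ⟨b, hb, hsb⟩ := g.exists_block B hs
  exact ⟨b, ⟨hb, hsb⟩, fun c hc => (g.blocks_unique B hs hb hc.1 hsb hc.2).symm⟩

end SumGraph

/-- The labelling by pairs of points and the homomorphism to the Mathieu group. -/
theorem exists_mathieu {M : Type*} [Group M] (ρ : M →* MulAut A)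
    (hρ : ∀ m a, a ∈ T → ρ m a ∈ T) :
    ∃ (π : Cfsg.GolayPt → Cfsg.GolayPt → A) (ψ : M →* ↥Cfsg.M24),
      (∀ p q, p ≠ q → π p q ∈ T) ∧ (∀ p q, π p q = π q p) ∧ (∀ x ∈ T, ∃ p q, p ≠ q ∧ π p q = x) ∧
      (∀ p q p' q', p ≠ q → p' ≠ q' → π p q = π p' q' → p' = p ∧ q' = q ∨ p' = q ∧ q' = p) ∧
      (∀ m p q, ρ m (π p q) = π ((ψ m).1 p) ((ψ m).1 q)) ∧ ψ.ker = ρ.ker := by
  classical
  haveI := Fintype.ofFinite A
  haveI : Fintype ↥(Stars T) := Fintype.ofFinite _
  haveI : Nonempty ↥(Stars T) := by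
    obtain ⟨x, hx⟩ := Set.nonempty_of_ncard_ne_zero (s := T) (by rw [g.card_T]; decide)
    obtain ⟨P, hP⟩ := Set.nonempty_of_ncard_ne_zero (s := {P ∈ Stars T | x ∈ P})
      (by rw [g.stars_at hx]; decide)
    exact ⟨⟨P, hP.1⟩⟩
  obtain ⟨B⟩ := ‹Nonempty ↥(Stars T)›
  have hcard : Fintype.card ↥(Stars T) = 24 := by rw [← Nat.card_eq_fintype_card, g.card_stars]
  obtain ⟨e, he⟩ := Golay.steiner24_iso hcard (g.steiner B)
  set π : Cfsg.GolayPt → Cfsg.GolayPt → A := fun p q => pairElt T (e.symm p) (e.symm q) with hπ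
  have hpre : ∀ m a, ρ m a ∈ T ↔ a ∈ T := fun m a => ⟨fun h => by
    have := hρ m⁻¹ _ h
    rwa [← MulAut.mul_apply, ← map_mul, inv_mul_cancel, map_one, MulAut.one_apply] at this, hρ m a⟩
  let τ : M → Equiv.Perm Cfsg.GolayPt := fun m =>
    e.symm.trans ((Equiv.ofBijective (g.starMap (ρ m) (hpre m))
      (Finite.injective_iff_bijective.1 (g.starMap_injective _ _))).trans e)
  have hτ : ∀ m p, e.symm (τ m p) = g.starMap (ρ m) (hpre m) (e.symm p) := fun m p => by simp [τ]
  have hmem : ∀ m, τ m ∈ Cfsg.M24 := by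
    intro m
    refine Golay.mem_M24_of_octads_through fun o ho _ => ?_
    have hw : o = (o.image e.symm).image e := by simp [Finset.image_image]
    set w := o.image e.symm
    have hwB : w ∈ g.blocks B := (he w).1 (hw ▸ ho)
    have himg : τ m • o = (w.image (g.starMap (ρ m) (hpre m))).image e := by
      rw [Finset.smul_finset_def]
      conv_lhs => rw [hw]
      simp only [Finset.image_image]
      refine Finset.image_congr fun x _ => ?_
      simp [τ]
    rw [himg, he]
    exact ⟨by rw [Finset.card_image_of_injective _ (g.starMap_injective _ _)]; exact hwB.1,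
      by rw [g.setProd_image _ _ B w (by rw [hwB.1]), hwB.2, map_one]⟩
  have hone : τ 1 = 1 := by
    refine Equiv.ext fun p => ?_
    apply e.symm.injective
    rw [hτ]
    apply Subtype.ext
    show (ρ 1) '' _ = _
    rw [map_one]
    exact Set.image_id _
  have hmul : ∀ a b, τ (a * b) = τ a * τ b := by
    intro a b
    refine Equiv.ext fun p => ?_
    apply e.symm.injective
    rw [hτ, Equiv.Perm.mul_apply, hτ, hτ]
    apply Subtype.ext
    show (ρ (a * b)) '' _ = (ρ a) '' ((ρ b) '' _)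
    rw [map_mul, Set.image_image]
    rfl
  let ψ : M →* ↥Cfsg.M24 :=
    { toFun := fun m => ⟨τ m, hmem m⟩
      map_one' := Subtype.ext hone
      map_mul' := fun a b => Subtype.ext (hmul a b) }
  refine ⟨π, ψ, fun p q h => (g.pairElt_mem (fun e' => h (e.symm.injective e'))).2.2,
    fun p q => g.pairElt_comm (e.symm p) (e.symm q), fun x hx => ?_, fun p q p' q' h h' hh => ?_, fun m p q => ?_, ?_⟩
  · obtain ⟨P, Q, hne, hPQ⟩ := g.exists_pairElt hx
    exact ⟨e P, e Q, fun h => hne (e.injective h), by simp [hπ, hPQ]⟩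
  · exact (g.pairElt_inj (fun e' => h (e.symm.injective e')) (fun e' => h' (e.symm.injective e')) hh).imp
      (fun ⟨h1, h2⟩ => ⟨e.symm.injective h1, e.symm.injective h2⟩)
      (fun ⟨h1, h2⟩ => ⟨e.symm.injective h1, e.symm.injective h2⟩)
  · show ρ m (pairElt T _ _) = pairElt T (e.symm (τ m p)) (e.symm (τ m q))
    rw [g.pairElt_starMap (ρ m) (hpre m), hτ, hτ]
  · ext m
    simp only [MonoidHom.mem_ker]
    constructor
    · intro h
      have h' : ∀ p, τ m p = p := fun p => by
        show (ψ m).1 p = p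
        rw [h]; rfl
      refine MulEquiv.ext fun a => ?_
      have hfix : Set.EqOn (ρ m).toMonoidHom (MonoidHom.id A) T := by
        intro x hx
        obtain ⟨P, Q, -, rfl⟩ := g.exists_pairElt hx
        show ρ m _ = _
        rw [g.pairElt_starMap (ρ m) (hpre m),
          show g.starMap (ρ m) (hpre m) P = P by rw [← e.symm_apply_apply P, ← hτ, h'],
          show g.starMap (ρ m) (hpre m) Q = Q by rw [← e.symm_apply_apply Q, ← hτ, h']]
        rfl
      exact DFunLike.congr_fun (MonoidHom.eq_of_eqOn_dense g.gen hfix) a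
    · intro h
      refine Subtype.ext (Equiv.ext fun p => ?_)
      apply e.symm.injective
      show e.symm (τ m p) = e.symm p
      rw [hτ]
      apply Subtype.ext
      show (ρ m) '' _ = _
      rw [h]
      exact Set.image_id _

end CfsgLib.Trans3.FischerType.PairCode
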