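import Cfsg.Agent.Lib.Trans3.FischerType.PairStars
import Mathlib.Data.Finset.SymmDiff
import Mathlib.Data.Finset.Powerset
import Mathlib.Data.Finset.Prod
import Mathlib.Data.Sym.Card
import Mathlib.Tactic.NormNum

/-!
The 24 stars label the 276 elements by pairs; the even sets of stars with trivial product form a code of
minimum weight eight, whose words of weight eight are the blocks of an `S(5,8,24)`.
-/

set_option autoImplicit false
set_option linter.unusedSectionVars false

namespace CfsgLib.Trans3.FischerType.PairCode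

open scoped symmDiff

variable {A : Type*} [CommGroup A] [Finite A] {T : Set A} (g : SumGraph T)

include g

namespace SumGraph

/-- The two stars at an element. -/
theorem stars_pair {x : A} (hx : x ∈ T) : ∃ P Q : ↥(Stars T), P ≠ Q ∧ x ∈ (P : Set A) ∧ x ∈ (Q : Set A) ∧
    ∀ R : ↥(Stars T), x ∈ (R : Set A) → R = P ∨ R = Q := by
  obtain ⟨P, Q, hne, hS⟩ := Set.ncard_eq_two.1 (g.stars_at hx)
  have hP : P ∈ {P ∈ Stars T | x ∈ P} := by rw [hS]; exact Or.inl rfl
  have hQ : Q ∈ {P ∈ Stars T | x ∈ P} := by rw [hS]; exact Or.inr rfl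
  refine ⟨⟨P, hP.1⟩, ⟨Q, hQ.1⟩, fun h => hne (congrArg Subtype.val h), hP.2, hQ.2, fun R hR => ?_⟩
  have : (R : Set A) ∈ {P ∈ Stars T | x ∈ P} := ⟨R.2, hR⟩
  rw [hS] at this
  exact this.imp (fun h => Subtype.ext h) (fun h => Subtype.ext h)

theorem inter_unique {P Q : ↥(Stars T)} (hne : P ≠ Q) {a b : A} (ha : a ∈ (P : Set A))
    (ha' : a ∈ (Q : Set A)) (hb : b ∈ (P : Set A)) (hb' : b ∈ (Q : Set A)) : a = b := by
  by_contra h
  exact hne (Subtype.ext ((g.star_eq P.2 ha hb h).2.2.2.1.trans (g.star_eq Q.2 ha' hb' h).2.2.2.1.symm))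

theorem exists_mem_inter {P Q : ↥(Stars T)} (hne : P ≠ Q) :
    ∃ a : A, a ∈ (P : Set A) ∧ a ∈ (Q : Set A) := by
  classical
  haveI := Fintype.ofFinite A
  haveI := Fintype.ofFinite ↥(Stars T)
  choose p q hpq hp hq hall using fun x : ↥T => g.stars_pair x.2
  let f : ↥T → Sym2 ↥(Stars T) := fun x => s(p x, q x)
  have hinj : Function.Injective f := by
    intro x y h
    rcases Sym2.eq_iff.1 h with ⟨h1, h2⟩ | ⟨h1, h2⟩
    · exact Subtype.ext (g.inter_unique (hpq x) (hp x) (hq x) (h1 ▸ hp y) (h2 ▸ hq y))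
    · exact Subtype.ext (g.inter_unique (hpq x) (hp x) (hq x) (h1 ▸ hq y) (h2 ▸ hp y))
  have hsub : Set.range f ⊆ {s : Sym2 ↥(Stars T) | ¬ s.IsDiag} := by
    rintro s ⟨x, rfl⟩
    simpa [f] using hpq x
  have heq : Set.range f = {s : Sym2 ↥(Stars T) | ¬ s.IsDiag} := by
    refine Set.eq_of_subset_of_ncard_le hsub ?_ (Set.toFinite _)
    rw [← Nat.card_coe_set_eq (Set.range f), Nat.card_range_of_injective hinj, Nat.card_coe_set_eq,
      g.card_T, ← Nat.card_coe_set_eq]
    show Nat.card {s : Sym2 ↥(Stars T) // ¬ s.IsDiag} ≤ 276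
    rw [Nat.card_eq_fintype_card, Sym2.card_subtype_not_diag, ← Nat.card_eq_fintype_card, g.card_stars]
    decide
  obtain ⟨x, hx⟩ : s(P, Q) ∈ Set.range f := by rw [heq]; simpa using hne
  rcases Sym2.eq_iff.1 hx with ⟨h1, h2⟩ | ⟨h1, h2⟩
  · exact ⟨x, h1 ▸ hp x, h2 ▸ hq x⟩
  · exact ⟨x, h2 ▸ hq x, h1 ▸ hp x⟩

end SumGraph

omit g in
open Classical in
/-- The element of a pair of stars (trivial for equal stars). -/
noncomputable def pairElt (T : Set A) (P Q : ↥(Stars T)) : A :=
  if h : P ≠ Q ∧ ∃ a : A, a ∈ (P : Set A) ∧ a ∈ (Q : Set A) then h.2.choose else 1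

namespace SumGraph

omit [Finite A] g in
theorem pairElt_self (P : ↥(Stars T)) : pairElt T P P = 1 := by
  rw [pairElt, dif_neg (fun h => h.1 rfl)]

theorem pairElt_mem {P Q : ↥(Stars T)} (hne : P ≠ Q) :
    pairElt T P Q ∈ (P : Set A) ∧ pairElt T P Q ∈ (Q : Set A) ∧ pairElt T P Q ∈ T := by
  have h : P ≠ Q ∧ ∃ a : A, a ∈ (P : Set A) ∧ a ∈ (Q : Set A) := ⟨hne, g.exists_mem_inter hne⟩
  rw [pairElt, dif_pos h]
  exact ⟨h.2.choose_spec.1, h.2.choose_spec.2, g.star_subset P.2 h.2.choose_spec.1⟩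

theorem pairElt_eq {P Q : ↥(Stars T)} (hne : P ≠ Q) {a : A} (hP : a ∈ (P : Set A))
    (hQ : a ∈ (Q : Set A)) : pairElt T P Q = a :=
  g.inter_unique hne (g.pairElt_mem hne).1 (g.pairElt_mem hne).2.1 hP hQ

theorem pairElt_comm (P Q : ↥(Stars T)) : pairElt T P Q = pairElt T Q P := by
  rcases eq_or_ne P Q with rfl | hne
  · rfl
  · exact (g.pairElt_eq hne (g.pairElt_mem hne.symm).2.1 (g.pairElt_mem hne.symm).1)

theorem exists_pairElt {x : A} (hx : x ∈ T) : ∃ P Q : ↥(Stars T), P ≠ Q ∧ pairElt T P Q = x := by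
  obtain ⟨P, Q, hne, hP, hQ, -⟩ := g.stars_pair hx
  exact ⟨P, Q, hne, g.pairElt_eq hne hP hQ⟩

theorem mem_pairElt {P Q R : ↥(Stars T)} (hne : P ≠ Q) (h : pairElt T P Q ∈ (R : Set A)) :
    R = P ∨ R = Q := by
  obtain ⟨S, U, -, -, -, hall⟩ := g.stars_pair (g.pairElt_mem hne).2.2
  rcases hall P (g.pairElt_mem hne).1 with hP | hP <;>
    rcases hall Q (g.pairElt_mem hne).2.1 with hQ | hQ <;>
      rcases hall R h with hR | hR <;>
        first
        | exact absurd (hP.trans hQ.symm) hne
        | exact Or.inl (hR.trans hP.symm)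
        | exact Or.inr (hR.trans hQ.symm)

theorem pairElt_mul_pairElt {P Q R : ↥(Stars T)} (hPQ : P ≠ Q) (hPR : P ≠ R) (hQR : Q ≠ R) :
    pairElt T P Q * pairElt T P R = pairElt T Q R := by
  obtain ⟨hxP, hxQ, hxT⟩ := g.pairElt_mem hPQ
  obtain ⟨hyP, hyR, hyT⟩ := g.pairElt_mem hPR
  set x := pairElt T P Q with hxdef
  set y := pairElt T P R with hydef
  have hne : x ≠ y := fun h => by
    rcases g.mem_pairElt hPQ (R := R) (by rw [← hxdef, h]; exact hyR) with e | e
    · exact hPR e.symm
    · exact hQR e.symm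
  obtain ⟨-, -, hxy, -, hz⟩ := g.star_eq P.2 hxP hyP hne
  obtain ⟨hS, hxS, hzS⟩ := mem_stars hxT hxy (by rw [g.cancel_left]; exact hyT)
  obtain ⟨hS', hyS', hzS'⟩ := mem_stars hyT hxy
    (by rw [mul_comm x y, g.cancel_left]; exact hxT)
  have h1 : (⟨_, hS⟩ : ↥(Stars T)) = Q :=
    (g.mem_pairElt hPQ (R := ⟨_, hS⟩) hxS).resolve_left fun e => hz (e ▸ hzS)
  have h2 : (⟨_, hS'⟩ : ↥(Stars T)) = R :=
    (g.mem_pairElt hPR (R := ⟨_, hS'⟩) hyS').resolve_left fun e => hz (e ▸ hzS')
  exact (g.pairElt_eq hQR (h1 ▸ hzS) (h2 ▸ hzS')).symm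

theorem pairElt_triangle (P Q R : ↥(Stars T)) :
    pairElt T P Q * pairElt T P R = pairElt T Q R := by
  rcases eq_or_ne P Q with rfl | hPQ
  · rw [pairElt_self, one_mul]
  rcases eq_or_ne P R with rfl | hPR
  · rw [pairElt_self, mul_one]; exact g.pairElt_comm P Q
  rcases eq_or_ne Q R with rfl | hQR
  · rw [pairElt_self, g.sq]
  exact g.pairElt_mul_pairElt hPQ hPR hQR

theorem pairElt_inj {P Q P' Q' : ↥(Stars T)} (hne : P ≠ Q) (hne' : P' ≠ Q')
    (h : pairElt T P Q = pairElt T P' Q') : (P' = P ∧ Q' = Q) ∨ (P' = Q ∧ Q' = P) := by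
  have h1 := g.mem_pairElt hne (R := P') (h ▸ (g.pairElt_mem hne').1)
  have h2 := g.mem_pairElt hne (R := Q') (h ▸ (g.pairElt_mem hne').2.1)
  rcases h1 with e1 | e1 <;> rcases h2 with e2 | e2
  · exact absurd (e1.trans e2.symm) hne'
  · exact Or.inl ⟨e1, e2⟩
  · exact Or.inr ⟨e1, e2⟩
  · exact absurd (e1.trans e2.symm) hne'

/-- The product over a set of stars, relative to a base star. -/
noncomputable def setProd (_g : SumGraph T) (B : ↥(Stars T)) (s : Finset ↥(Stars T)) : A :=
  ∏ q ∈ s, pairElt T B q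

theorem setProd_pair (B : ↥(Stars T)) [DecidableEq ↥(Stars T)] {p q : ↥(Stars T)} (h : p ≠ q) :
    g.setProd B {p, q} = pairElt T p q := by
  rw [setProd, Finset.prod_pair h, g.pairElt_triangle]

theorem setProd_symmDiff [DecidableEq ↥(Stars T)] (B : ↥(Stars T)) (s t : Finset ↥(Stars T)) :
    g.setProd B (s ∆ t) = g.setProd B s * g.setProd B t := by
  simp only [setProd]
  have hu := Finset.prod_union_inter (s₁ := s) (s₂ := t) (f := fun q => pairElt T B q)
  have hd : s ∆ t = (s ∪ t) \ (s ∩ t) := by ext a; simp [Finset.mem_symmDiff]; tauto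
  have hs := Finset.prod_sdiff (f := fun q => pairElt T B q)
    (Finset.inter_subset_union (s := s) (t := t))
  rw [← hu, ← hs, hd, mul_assoc, g.sq, mul_one]

/-- Nonempty even sets of at most six stars have nontrivial product. -/
theorem setProd_small (B : ↥(Stars T)) (s : Finset ↥(Stars T)) (he : s.card % 2 = 0) (hne : s ≠ ∅)
    (h6 : s.card ≤ 6) : g.setProd B s ≠ 1 := by
  classical
  have hpos : 0 < s.card := Finset.card_pos.2 (Finset.nonempty_iff_ne_empty.2 hne)
  have h246 : s.card = 2 ∨ s.card = 4 ∨ s.card = 6 := by omega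
  intro h1
  have key : ∀ a b c d : ↥(Stars T), a ≠ b → c ≠ d → a ≠ c → a ≠ d → b ≠ c → b ≠ d →
      pairElt T a b * pairElt T c d ≠ 1 ∧ pairElt T a b * pairElt T c d ∉ T := by
    intro a b c d hab hcd hac had hbc hbd
    constructor
    · intro h
      have : pairElt T a b = pairElt T c d := by
        rw [← mul_one (pairElt T c d), ← h, mul_comm (pairElt T a b), g.cancel_left]
      rcases g.pairElt_inj hab hcd this with ⟨e, -⟩ | ⟨e, -⟩
      · exact hac e.symm
      · exact hbc e.symm
    · intro h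
      obtain ⟨hS, hxS, hyS⟩ := mem_stars (g.pairElt_mem hab).2.2 (g.pairElt_mem hcd).2.2 h
      rcases g.mem_pairElt hab (R := ⟨_, hS⟩) hxS with e | e <;>
        rcases g.mem_pairElt hcd (R := ⟨_, hS⟩) hyS with e' | e'
      · exact hac (e.symm.trans e')
      · exact had (e.symm.trans e')
      · exact hbc (e.symm.trans e')
      · exact hbd (e.symm.trans e')
  have split : ∀ t : Finset ↥(Stars T), 2 ≤ t.card → ∃ (a b : ↥(Stars T)) (u : Finset ↥(Stars T)),
      a ≠ b ∧ a ∉ u ∧ b ∉ u ∧ u.card = t.card - 2 ∧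
        g.setProd B t = pairElt T a b * g.setProd B u ∧ ∀ q ∈ u, q ∈ t := by
    intro t ht
    obtain ⟨a, ha, b, hb, hab⟩ := Finset.one_lt_card.1 ht
    refine ⟨a, b, t \ {a, b}, hab, by simp, by simp, ?_, ?_, fun q hq => (Finset.mem_sdiff.1 hq).1⟩
    · rw [Finset.card_sdiff_of_subset (by simp [Finset.insert_subset_iff, ha, hb]), Finset.card_pair hab]
    · rw [← g.setProd_pair B hab]
      simp only [setProd]
      rw [mul_comm, Finset.prod_sdiff (by simp [Finset.insert_subset_iff, ha, hb])]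
  obtain ⟨a, b, u, hab, hau, hbu, hu, hp, -⟩ := split s (by omega)
  rw [hp] at h1
  rcases h246 with h | h | h
  · have : u = ∅ := Finset.card_eq_zero.1 (by omega)
    rw [this, setProd, Finset.prod_empty, mul_one] at h1
    exact g.one_notMem (h1 ▸ (g.pairElt_mem hab).2.2)
  all_goals obtain ⟨c, d, v, hcd, hcv, hdv, hv, hp', hvu⟩ := split u (by omega)
  · have : v = ∅ := Finset.card_eq_zero.1 (by omega)
    rw [hp', this] at h1
    simp only [setProd, Finset.prod_empty, mul_one] at h1
    have hu2 : c ∈ u ∧ d ∈ u := by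
      obtain ⟨p, q, hpq, hpu⟩ := Finset.card_eq_two.1 (show u.card = 2 by omega)
      rw [hpu] at hp' ⊢
      rw [g.setProd_pair B hpq, this] at hp'
      simp only [setProd, Finset.prod_empty, mul_one] at hp'
      rcases g.pairElt_inj hpq hcd hp' with ⟨rfl, rfl⟩ | ⟨rfl, rfl⟩ <;> simp
    exact (key a b c d hab hcd (fun e => hau (e ▸ hu2.1)) (fun e => hau (e ▸ hu2.2))
      (fun e => hbu (e ▸ hu2.1)) (fun e => hbu (e ▸ hu2.2))).1 h1
  · obtain ⟨p, q, hpq, hv2⟩ := Finset.card_eq_two.1 (show v.card = 2 by omega)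
    rw [hp', hv2, g.setProd_pair B hpq] at h1
    have hp_u : p ∈ u := hvu p (by simp [hv2])
    have hq_u : q ∈ u := hvu q (by simp [hv2])
    have hk : pairElt T a b * pairElt T p q = pairElt T c d := by
      rw [← mul_one (pairElt T c d), ← h1, mul_comm (pairElt T c d) (pairElt T p q),
        ← mul_assoc (pairElt T a b), mul_comm (pairElt T a b * pairElt T p q), g.cancel_left]
    exact (key a b p q hab hpq (fun e => hau (e ▸ hp_u)) (fun e => hau (e ▸ hq_u))
      (fun e => hbu (e ▸ hp_u)) (fun e => hbu (e ▸ hq_u))).2 (hk ▸ (g.pairElt_mem hcd).2.2)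

/-- Two sets of equal product and at most six points in the symmetric difference coincide. -/
theorem setProd_eq_small [DecidableEq ↥(Stars T)] (B : ↥(Stars T)) {s t : Finset ↥(Stars T)}
    (h : g.setProd B s = g.setProd B t) (he : (s ∆ t).card % 2 = 0) (h6 : (s ∆ t).card ≤ 6) :
    s = t := by
  by_contra hne
  refine g.setProd_small B (s ∆ t) he (fun e => hne ?_) h6 (by rw [g.setProd_symmDiff, h, g.sq])
  exact symmDiff_eq_bot.1 (by simpa using e)

/-- The blocks: eight stars with trivial product. -/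
def blocks (_g : SumGraph T) (B : ↥(Stars T)) : Set (Finset ↥(Stars T)) :=
  {s | s.card = 8 ∧ _g.setProd B s = 1}

theorem blocks_unique [DecidableEq ↥(Stars T)] (B : ↥(Stars T)) {s b c : Finset ↥(Stars T)}
    (hs : s.card = 5) (hb : b ∈ g.blocks B) (hc : c ∈ g.blocks B) (hsb : s ⊆ b) (hsc : s ⊆ c) :
    b = c := by
  have hi : 5 ≤ (b ∩ c).card := hs ▸ Finset.card_le_card (Finset.subset_inter hsb hsc)
  have h1 := Finset.card_sdiff_add_card_inter b c
  have h2 := Finset.card_sdiff_add_card_inter c b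
  have h3 : (b ∆ c).card = (b \ c).card + (c \ b).card := by
    rw [symmDiff_def, Finset.sup_eq_union, Finset.card_union_of_disjoint]
    exact disjoint_sdiff_sdiff
  have h4 : (c ∩ b).card = (b ∩ c).card := by rw [Finset.inter_comm]
  have := hb.1
  have := hc.1
  exact g.setProd_eq_small B (hb.2.trans hc.2.symm) (by omega) (by omega)

theorem exists_block (B : ↥(Stars T)) {s : Finset ↥(Stars T)} (hs : s.card = 5) :
    ∃ b ∈ g.blocks B, s ⊆ b := by
  classical
  haveI := Fintype.ofFinite A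
  haveI := Fintype.ofFinite ↥(Stars T)
  obtain ⟨x, hx⟩ := Finset.card_pos.1 (by omega : 0 < s.card)
  set c := s.erase x with hcdef
  have hc : c.card = 4 := by rw [hcdef, Finset.card_erase_of_mem hx, hs]
  set F := (Finset.univ : Finset ↥(Stars T)).powersetCard 4 with hFdef
  have hF : F.card = 10626 := by
    rw [hFdef, Finset.card_powersetCard, Finset.card_univ, ← Nat.card_eq_fintype_card, g.card_stars]
    decide
  have hm : ∀ a ∈ F, a.card = 4 := fun a ha => (Finset.mem_powersetCard.1 ha).2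
  set R := (Finset.univ : Finset A).filter fun a => a ∉ T ∧ a ≠ 1 with hRdef
  have hR : R.card = 1771 := by
    have h1 : R = (T.toFinset ∪ {1})ᶜ := by ext a; simp [hRdef, and_comm]
    rw [h1, Finset.card_compl, Finset.card_union_of_disjoint (by simp [g.one_notMem]),
      ← Set.ncard_eq_toFinset_card', g.card_T, Finset.card_singleton, ← Nat.card_eq_fintype_card,
      g.card_group]
    norm_num
  have hmap : ∀ a ∈ F, g.setProd B a ∈ R := by
    intro a ha
    have h4 := hm a ha
    simp only [hRdef, Finset.mem_filter, Finset.mem_univ, true_and]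
    refine ⟨fun h => ?_, g.setProd_small B a (by omega) (fun e => by simp [e] at h4) (by omega)⟩
    obtain ⟨p, q, hpq, he⟩ := g.exists_pairElt h
    rw [← g.setProd_pair B hpq] at he
    have hle : (a ∆ {p, q}).card ≤ 6 := by
      refine le_trans (Finset.card_le_card (show a ∆ {p, q} ⊆ a ∪ {p, q} from ?_)) ?_
      · intro z hz
        simp only [Finset.mem_symmDiff, Finset.mem_union] at hz ⊢
        tauto
      · refine le_trans (Finset.card_union_le _ _) ?_
        rw [Finset.card_pair hpq]; omega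
    have hev : (a ∆ {p, q}).card % 2 = 0 := by
      rw [symmDiff_def, Finset.sup_eq_union, Finset.card_union_of_disjoint disjoint_sdiff_sdiff]
      have h1 := Finset.card_sdiff_add_card_inter a {p, q}
      have h2 := Finset.card_sdiff_add_card_inter {p, q} a
      rw [Finset.inter_comm {p, q} a, Finset.card_pair hpq] at h2
      omega
    have := g.setProd_eq_small B he.symm hev hle
    rw [this, Finset.card_pair hpq] at h4
    omega
  set fib : A → Finset (Finset ↥(Stars T)) := fun r => F.filter fun a => g.setProd B a = r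
  have hdis : ∀ r, (↑(fib r) : Set (Finset ↥(Stars T))).PairwiseDisjoint id := by
    intro r a ha b hb hne
    simp only [fib, Finset.coe_filter, Set.mem_ofPred_eq] at ha hb
    rw [Function.onFun, id, id, Finset.disjoint_iff_inter_eq_empty]
    by_contra hi
    refine hne (g.setProd_eq_small B (ha.2.trans hb.2.symm) ?_ ?_) <;>
    · rw [symmDiff_def, Finset.sup_eq_union, Finset.card_union_of_disjoint disjoint_sdiff_sdiff]
      have h1 := Finset.card_sdiff_add_card_inter a b
      have h2 := Finset.card_sdiff_add_card_inter b a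
      rw [Finset.inter_comm b a] at h2
      have := hm a ha.1
      have := hm b hb.1
      have := Finset.card_pos.2 (Finset.nonempty_iff_ne_empty.2 hi)
      omega
  have hun : ∀ r, ((fib r).biUnion id).card = 4 * (fib r).card := fun r => by
    rw [Finset.card_biUnion (hdis r)]
    refine (Finset.sum_const_nat (m := 4) fun a ha => ?_).trans (mul_comm _ _)
    exact hm a (Finset.mem_filter.1 ha).1
  have hle : ∀ r, (fib r).card ≤ 6 := by
    intro r
    have h1 := Finset.card_le_univ ((fib r).biUnion id)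
    rw [hun, ← Nat.card_eq_fintype_card, g.card_stars] at h1
    omega
  have hsum := Finset.card_eq_sum_card_fiberwise hmap
  rw [hF] at hsum
  set r := g.setProd B c
  have hcF : c ∈ F := Finset.mem_powersetCard.2 ⟨Finset.subset_univ _, hc⟩
  have hr6 : (fib r).card = 6 := by
    have h1 : (fib r).card + ∑ b ∈ R.erase r, (fib b).card = 10626 := by
      rw [← Finset.sum_insert (f := fun b => (fib b).card) (Finset.notMem_erase r R),
        Finset.insert_erase (hmap c hcF)]
      exact hsum.symm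
    have h2 : ∑ b ∈ R.erase r, (fib b).card ≤ 6 * 1770 := by
      refine le_trans (Finset.sum_le_card_nsmul _ _ 6 fun b _ => hle b) ?_
      rw [Finset.card_erase_of_mem (hmap c hcF), hR, smul_eq_mul]
    have := hle r
    omega
  have hall : (fib r).biUnion id = Finset.univ := by
    apply Finset.eq_univ_of_card
    rw [hun, hr6, ← Nat.card_eq_fintype_card, g.card_stars]
  obtain ⟨d, hd, hxd⟩ : ∃ d ∈ fib r, x ∈ d := by
    have : x ∈ (fib r).biUnion id := hall ▸ Finset.mem_univ x
    simpa using this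
  have hcd : d ≠ c := fun e => by simp [e, hcdef] at hxd
  have hdisj : Disjoint c d := hdis r (Finset.mem_coe.2 (Finset.mem_filter.2 ⟨hcF, rfl⟩)) (Finset.mem_coe.2 hd) hcd.symm
  refine ⟨c ∪ d, ⟨?_, ?_⟩, fun y hy => ?_⟩
  · rw [Finset.card_union_of_disjoint hdisj, hc, hm d (Finset.mem_filter.1 hd).1]
  · simp only [setProd]
    rw [Finset.prod_union hdisj]
    have e : g.setProd B d = r := (Finset.mem_filter.1 hd).2
    simp only [setProd] at e
    rw [e]
    exact g.sq r
  · rcases eq_or_ne y x with rfl | hy'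
    · exact Finset.mem_union_right _ hxd
    · exact Finset.mem_union_left _ (Finset.mem_erase.2 ⟨hy', hy⟩)

end SumGraph

end CfsgLib.Trans3.FischerType.PairCode
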