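import Cfsg.Agent.Lib.Trans3.FischerType.PairEdge
import Cfsg.Agent.Lib.Trans3.FischerType.PairMathieu
import Cfsg.Agent.Lib.Golay.Orbits
import Mathlib.Algebra.Group.Subgroup.Pointwise
import Mathlib.GroupTheory.QuotientGroup.Basic

/-!
The normaliser of `A` modulo `A` is the Mathieu group of degree 24, and the stabiliser of an element not
conjugate to the central involution is the stabiliser of a pair of points.
-/

set_option autoImplicit false
set_option linter.unusedSectionVars false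

open scoped Pointwise

namespace CfsgLib.Trans3.FischerType.PairCode

variable {G : Type*} [Group G] {z : G} {A Q : Subgroup G}

namespace LocalData

/-- `A` as a commutative group. -/
@[reducible] def commGroup (d : LocalData z A Q) : CommGroup A :=
  { (inferInstance : Group A) with mul_comm := d.elem.1.1.1 }

/-- `A` is normal in any subgroup of its normaliser. -/
theorem normal_subgroupOf {S : Subgroup G} (hS : S ≤ Subgroup.normalizer (A : Set G)) :
    (A.subgroupOf S).Normal :=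
  ⟨fun a ha s => (Subgroup.mem_normalizer_iff.1 (hS s.2) (a : G)).1 ha⟩

variable (d : LocalData z A Q) [Finite G]

include d

theorem A_le : A ≤ Subgroup.normalizer (A : Set G) := Subgroup.le_normalizer

/-- The order of the quotient is divisible by the order of the Mathieu group. -/
theorem card_dvd : 2 ^ 11 * 244823040 ∣ Nat.card ↥(Subgroup.normalizer (A : Set G)) := by
  have h1 := d.ncard_zcls_mul
  rw [d.zcls_card] at h1
  obtain ⟨c, hc⟩ := d.order_dvd
  exact ⟨c, by rw [← h1, hc, ← mul_assoc]; norm_num⟩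

theorem closure_tcls : Subgroup.closure (tcls z A) = A := by
  haveI : Fact (Nat.Prime 23) := ⟨by norm_num⟩
  set K := Subgroup.closure (tcls z A)
  have hKA : K ≤ A := (Subgroup.closure_le _).2 fun a ha => ha.1
  obtain ⟨x, hx, hxp, hfix⟩ := d.exists_fpf
  have hxK : ∀ a ∈ K, x * a * x⁻¹ ∈ K := by
    intro a ha
    induction ha using Subgroup.closure_induction with
    | mem b hb => exact Subgroup.subset_closure (d.tcls_conj hx hb)
    | one => simp
    | mul a c _ _ ha hc =>
      rw [show x * (a * c) * x⁻¹ = x * a * x⁻¹ * (x * c * x⁻¹) by group]; exact mul_mem ha hc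
    | inv a _ ha => rw [show x * a⁻¹ * x⁻¹ = (x * a * x⁻¹)⁻¹ by group]; exact inv_mem ha
  obtain ⟨n, hn, hK⟩ := (Nat.dvd_prime_pow Nat.prime_two).1 (d.card_A ▸ Subgroup.card_dvd_of_le hKA)
  obtain ⟨i, hi, e, hm⟩ := exists_fixed_card K hK hxK hxp
  have hbot : K ⊓ Subgroup.centralizer ({x} : Set G) = ⊥ := by
    rw [eq_bot_iff]
    intro a ha
    obtain ⟨h1, h2⟩ := Subgroup.mem_inf.1 ha
    exact Subgroup.mem_bot.2
      (hfix a (hKA h1) (mul_inv_eq_iff_eq_mul.2 (Subgroup.mem_centralizer_singleton_iff.1 h2).symm))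
  rw [hbot, Subgroup.card_bot] at e
  have hi0 : i = 0 := Nat.pow_right_injective (le_refl 2) (by simpa using e.symm)
  have hn0 : n ≠ 0 := fun h => by
    obtain ⟨a, ha⟩ := Set.nonempty_of_ncard_ne_zero (s := tcls z A) (by rw [d.tcls_card]; decide)
    have h1 := Subgroup.eq_bot_of_card_eq K (by rw [hK, h, pow_zero])
    exact ha.2.1 (Subgroup.mem_bot.1 (h1 ▸ Subgroup.subset_closure ha))
  rw [hi0] at hm
  have hm' : 2 ^ 0 % 23 = 2 ^ n % 23 := hm
  have h11 : n = 11 := by interval_cases n <;> first | rfl | omega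
  exact Subgroup.eq_of_le_of_card_ge hKA (by rw [hK, h11, d.card_A])

end LocalData

namespace EdgeData

variable (e : EdgeData z A Q) [Finite G]

include e

/-- The labelling of `tcls` by pairs of points, and the homomorphism onto the Mathieu group. -/
theorem exists_hom : ∃ (π : Cfsg.GolayPt → Cfsg.GolayPt → G)
    (ψ : ↥(Subgroup.normalizer (A : Set G)) →* ↥Cfsg.M24),
    ψ.ker = A.subgroupOf (Subgroup.normalizer (A : Set G)) ∧ Function.Surjective ψ ∧
    (∀ x ∈ tcls z A, ∃ p q, p ≠ q ∧ π p q = x) ∧ (∀ p q, π p q = π q p) ∧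
    (∀ p q p' q', p ≠ q → p' ≠ q' → π p q = π p' q' → p' = p ∧ q' = q ∨ p' = q ∧ q' = p) ∧
    ∀ (m : ↥(Subgroup.normalizer (A : Set G))) p q, (m : G) * π p q * (m : G)⁻¹ =
      π ((ψ m).1 p) ((ψ m).1 q) := by
  letI := e.toLocalData.commGroup
  set M := Subgroup.normalizer (A : Set G)
  set Ts : Set A := {a | (a : G) ∈ tcls z A}
  have himg : ∀ {S : Set G}, (∀ a ∈ S, a ∈ A) → {a : A | (a : G) ∈ S}.ncard = S.ncard := fun {S} hS => by
    rw [← Set.ncard_image_of_injective _ Subtype.val_injective]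
    congr 1
    ext a
    exact ⟨fun ⟨b, hb, hba⟩ => hba ▸ hb, fun ha => ⟨⟨a, hS a ha⟩, ha, rfl⟩⟩
  have g : SumGraph Ts :=
    { sq := fun a => Subtype.ext (e.toLocalData.sq a.2)
      card_group := e.card_A
      card_T := by rw [himg fun a ha => ha.1]; exact e.toLocalData.tcls_card
      gen := by
        refine Subgroup.map_injective A.subtype_injective ?_
        rw [MonoidHom.map_closure, ← MonoidHom.range_eq_map, Subgroup.range_subtype]
        refine Eq.trans ?_ e.toLocalData.closure_tcls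
        congr 1
        ext a
        exact ⟨fun ⟨b, hb, hba⟩ => hba ▸ hb, fun ha => ⟨⟨a, ha.1⟩, ha, rfl⟩⟩
      one_notMem := fun h => h.2.1 rfl
      deg := fun x hx => by
        rw [show Nbr Ts x = {a : A | (a : G) ∈ nbrG z A x} from rfl, himg fun a ha => ha.1.1]
        exact e.deg hx
      com_card := fun x hx y hy hxy => by
        rw [show Com Ts x y = {a : A | (a : G) ∈ comG z A x y} from Set.ext fun c =>
          ⟨fun h => ⟨h.1, h.2.1, h.2.2.1, fun h' => h.2.2.2 (Subtype.ext h')⟩,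
            fun h => ⟨h.1, h.2.1, h.2.2.1, fun h' => h.2.2.2 (congrArg Subtype.val h')⟩⟩,
          himg fun a ha => ha.1.1]
        exact e.com_card hx hy hxy
      com_sum := fun x hx y hy hxy c hc => e.com_sum hx hy hxy
        ⟨hc.1, hc.2.1, hc.2.2.1, fun h => hc.2.2.2 (Subtype.ext h)⟩
      com_adj := fun x hx y hy hxy c hc d hd hne => e.com_adj hx hy hxy
        ⟨hc.1, hc.2.1, hc.2.2.1, fun h => hc.2.2.2 (Subtype.ext h)⟩
        ⟨hd.1, hd.2.1, hd.2.2.1, fun h => hd.2.2.2 (Subtype.ext h)⟩ fun h => hne (Subtype.ext h) }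
  set ρ : ↥M →* MulAut A := A.normalizerMonoidHom
  have hρ : ∀ (m : ↥M) (a : A), ((ρ m a : A) : G) = (m : G) * a * (m : G)⁻¹ := fun _ _ => rfl
  obtain ⟨π, ψ, hT, hsymm, hsurj, hinj, hequiv, hker⟩ := exists_mathieu g ρ fun m a ha => by
    show ((ρ m a : A) : G) ∈ tcls z A
    rw [hρ]; exact e.toLocalData.tcls_conj m.2 ha
  have hk : ψ.ker = A.subgroupOf M := by
    rw [hker, Subgroup.normalizerMonoidHom_ker]
    have hC : Subgroup.centralizer (A : Set G) = A :=
      le_antisymm e.cent_A fun a ha => Subgroup.mem_centralizer_iff.2 fun b hb => e.toLocalData.comm hb ha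
    rw [hC]
  refine ⟨fun p q => (π p q : G), ψ, hk, ?_, fun x hx => ?_, fun p q => congrArg Subtype.val (hsymm p q),
    fun p q p' q' h h' hh => hinj p q p' q' h h' (Subtype.ext hh),
    fun m p q => (hρ m (π p q)).symm.trans (congrArg Subtype.val (hequiv m p q))⟩
  · rw [← MonoidHom.range_eq_top]
    refine Subgroup.eq_top_of_card_eq _ (Nat.le_antisymm (Subgroup.card_le_card_group _) ?_)
    refine Nat.le_of_dvd Nat.card_pos ?_
    have h1 := Subgroup.card_eq_card_quotient_mul_card_subgroup ψ.ker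
    rw [Nat.card_congr (QuotientGroup.quotientKerEquivRange ψ).toEquiv, hk,
      Nat.card_congr (Subgroup.subgroupOfEquivOfLe (Subgroup.le_normalizer : A ≤ M)).toEquiv, e.card_A] at h1
    have h2 := e.toLocalData.card_dvd
    rw [h1, mul_comm (Nat.card ↥ψ.range)] at h2
    rw [Golay.card_M24]
    exact Nat.dvd_of_mul_dvd_mul_left (by norm_num) h2
  · obtain ⟨p, q, h, hpq⟩ := hsurj ⟨x, hx.1⟩ hx
    exact ⟨p, q, h, congrArg Subtype.val hpq⟩

/-- The quotient is the Mathieu group. -/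
theorem quot_iso : ∃ _ : (A.subgroupOf (Subgroup.normalizer (A : Set G))).Normal,
    Nonempty (↥(Subgroup.normalizer (A : Set G)) ⧸ A.subgroupOf (Subgroup.normalizer (A : Set G)) ≃*
      ↥Cfsg.M24) := by
  obtain ⟨π, ψ, hk, hs, -⟩ := e.exists_hom
  haveI := LocalData.normal_subgroupOf (A := A) (le_refl (Subgroup.normalizer (A : Set G)))
  exact ⟨this, ⟨(QuotientGroup.quotientMulEquivOfEq hk.symm).trans
    (QuotientGroup.quotientKerEquivOfSurjective ψ hs)⟩⟩

/-- The stabiliser of an element of `tcls` modulo `A`. -/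
theorem stab_iso {t : G} (ht : t ∈ tcls z A) :
    ∃ _ : (A.subgroupOf (Subgroup.normalizer (A : Set G) ⊓ Subgroup.centralizer ({t} : Set G))).Normal,
      Nonempty (↥(Subgroup.normalizer (A : Set G) ⊓ Subgroup.centralizer ({t} : Set G) : Subgroup G) ⧸
        A.subgroupOf (Subgroup.normalizer (A : Set G) ⊓ Subgroup.centralizer ({t} : Set G)) ≃*
        ↥(Cfsg.M24 ⊓ MulAction.stabilizer (Equiv.Perm Cfsg.GolayPt)
          ({none, some 0} : Set Cfsg.GolayPt) : Subgroup (Equiv.Perm Cfsg.GolayPt))) := by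
  obtain ⟨π, ψ, hk, hs, hsurj, hsymm, hinj, hequiv⟩ := e.exists_hom
  obtain ⟨p, q, hpq, rfl⟩ := hsurj t ht
  generalize hM : Subgroup.normalizer (A : Set G) = M at ψ hk hs hequiv ⊢
  set S := M ⊓ Subgroup.centralizer ({π p q} : Set G)
  set P : Set Cfsg.GolayPt := {none, some 0}
  haveI hN := LocalData.normal_subgroupOf (A := A) ((inf_le_left : S ≤ M).trans hM.ge)
  obtain ⟨c, hc1, hc2⟩ := Golay.M24_two hpq (Option.some_ne_none (0 : _)).symm
  change (c.1 : Equiv.Perm Cfsg.GolayPt) p = none at hc1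
  change (c.1 : Equiv.Perm Cfsg.GolayPt) q = some 0 at hc2
  let φ : ↥S →* Equiv.Perm Cfsg.GolayPt :=
    ((MulAut.conj (c.1 : Equiv.Perm Cfsg.GolayPt)).toMonoidHom).comp
      (Cfsg.M24.subtype.comp (ψ.comp (Subgroup.inclusion inf_le_left)))
  have hφ : ∀ s : ↥S, φ s = c.1 * (ψ ⟨s, (Subgroup.mem_inf.1 s.2).1⟩).1 * c.1⁻¹ := fun _ => rfl
  have key : ∀ m : ↥M, (m : G) * π p q * (m : G)⁻¹ = π p q ↔
      c.1 * (ψ m).1 * c.1⁻¹ ∈ MulAction.stabilizer (Equiv.Perm Cfsg.GolayPt) P := by
    intro m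
    set σ := (ψ m).1
    have hP : P = (c.1 : Equiv.Perm Cfsg.GolayPt) • ({p, q} : Set Cfsg.GolayPt) := by
      simp [P, Set.smul_set_insert, hc1, hc2]
    rw [MulAction.mem_stabilizer_iff, hP, mul_smul, mul_smul, inv_smul_smul, smul_left_cancel_iff,
      Set.smul_set_insert, Set.smul_set_singleton, Set.pair_eq_pair_iff, hequiv]
    change π (σ p) (σ q) = π p q ↔ σ p = p ∧ σ q = q ∨ σ p = q ∧ σ q = p
    constructor
    · intro h
      exact (hinj p q _ _ hpq (fun h' => hpq (σ.injective h')) h.symm).imp id id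
    · rintro (⟨h1, h2⟩ | ⟨h1, h2⟩) <;> rw [h1, h2]
      exact hsymm q p
  have hrange : φ.range = Cfsg.M24 ⊓ MulAction.stabilizer (Equiv.Perm Cfsg.GolayPt) P := by
    ext τ
    constructor
    · rintro ⟨s, rfl⟩
      rw [hφ]
      obtain ⟨h1, h2⟩ := Subgroup.mem_inf.1 s.2
      exact Subgroup.mem_inf.2 ⟨mul_mem (mul_mem c.2 (ψ _).2) (inv_mem c.2),
        (key ⟨s, h1⟩).1 (mul_inv_eq_iff_eq_mul.2 (Subgroup.mem_centralizer_singleton_iff.1 h2))⟩
    · intro hτ
      obtain ⟨h1, h2⟩ := Subgroup.mem_inf.1 hτ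
      obtain ⟨m, hm⟩ := hs ⟨c.1⁻¹ * τ * c.1, mul_mem (mul_mem (inv_mem c.2) h1) c.2⟩
      have e' : c.1 * (ψ m).1 * c.1⁻¹ = τ := by rw [hm]; group
      have hfix := (key m).2 (e' ▸ h2)
      exact ⟨⟨m, Subgroup.mem_inf.2 ⟨m.2, Subgroup.mem_centralizer_singleton_iff.2
        (mul_inv_eq_iff_eq_mul.1 hfix)⟩⟩, by rw [hφ]; exact e'⟩
  have hker : φ.ker = A.subgroupOf S := by
    ext s
    rw [MonoidHom.mem_ker, hφ, conj_eq_one_iff, Subgroup.mem_subgroupOf, OneMemClass.coe_eq_one,
      ← MonoidHom.mem_ker, hk, Subgroup.mem_subgroupOf]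
  exact ⟨hN, ⟨((QuotientGroup.quotientMulEquivOfEq hker.symm).trans
    (QuotientGroup.quotientKerEquivRange φ)).trans (MulEquiv.subgroupCongr hrange)⟩⟩

end EdgeData

end CfsgLib.Trans3.FischerType.PairCode
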