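import Cfsg.Agent.Lib.Trans3.FischerType.PairCoord
import Cfsg.Agent.Lib.Trans3.FischerType.PairEdge

/-!
The largest elementary abelian subgroup `A` seen in the coordinates, and the local data it satisfies.
-/

set_option autoImplicit false
set_option linter.unusedSectionVars false

namespace CfsgLib.Trans3.FischerType.PairCode

open Matrix CfsgLib.Chev.U43U6 CfsgLib.Trans3.FiLarge

variable {G : Type*} [Group G] {z : G} {Q : Subgroup (Subgroup.centralizer ({z} : Set G))}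

/-- The subgroup `A` in coordinates. -/
structure ASpine (c : Coord z Q) (f : WFacts c.b) (A : Subgroup G) : Prop where
  z_ne : z ≠ 1
  z_qg : z ∈ qg Q
  card_Q : Nat.card Q = 2 ^ 13
  perp : ∀ v, (∀ u ∈ f.U, bform v u = 0) → v ∈ f.U
  elem : Cfsg.IsElementaryAbelian 2 A
  card_A : Nat.card A = 2 ^ 11
  cent_A : Subgroup.centralizer (A : Set G) ≤ A
  mem_M : ∀ a ∈ A, ∃ m : c.M, ((m : Subgroup.centralizer ({z} : Set G)) : G) = a
  mem_Q : ∀ g ∈ qg Q, (g ∈ A ↔ prG c g ∈ f.U)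
  act_W : ∀ a ∈ A, actG c a ∈ f.W
  act_surj : ∀ w ∈ f.W, ∃ a ∈ A, actG c a = w
  uniq : ∃ T : Sylow 2 G, (T : Subgroup G) ≤ Subgroup.centralizer ({z} : Set G) ∧
    IsUniqueMaxElem (T : Subgroup G) A
  conj_big : ∀ g ∈ qg Q, InBig c.b (prG c g) → IsConj z g
  conj_small : ∀ g ∈ qg Q, InSmall c.b (prG c g) → ¬ IsConj z g

namespace ASpine

variable {c : Coord z Q} {f : WFacts c.b} {A : Subgroup G} (s : ASpine c f A) [Finite G] [Q.Normal]

include s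

theorem sq {a : G} (ha : a ∈ A) : a * a = 1 := by rw [← pow_two]; exact s.elem.2 a ha

theorem comm {a b : G} (ha : a ∈ A) (hb : b ∈ A) : a * b = b * a :=
  congrArg Subtype.val (s.elem.1.1.1 ⟨a, ha⟩ ⟨b, hb⟩)

theorem A_le_cent {a : G} (ha : a ∈ A) : a ∈ Subgroup.centralizer ({z} : Set G) := by
  obtain ⟨m, rfl⟩ := s.mem_M a ha
  exact (m : Subgroup.centralizer ({z} : Set G)).2

theorem mem_U {g : G} (hg : g ∈ A ⊓ qg Q) : prG c g ∈ f.U :=
  (s.mem_Q g (Subgroup.mem_inf.1 hg).2).1 (Subgroup.mem_inf.1 hg).1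

theorem mem_B {g : G} (hg : g ∈ qg Q) (h : prG c g ∈ f.U) : g ∈ A ⊓ qg Q :=
  Subgroup.mem_inf.2 ⟨(s.mem_Q g hg).2 h, hg⟩

theorem prG_z : prG c z = 0 := (prG_eq_zero c s.z_qg).2 (Or.inr rfl)

theorem z_B : z ∈ A ⊓ qg Q := s.mem_B s.z_qg (by rw [s.prG_z]; exact f.U.zero_mem)

theorem zz : z * z = 1 := s.sq (Subgroup.mem_inf.1 s.z_B).1

/-- Two members of `A ⊓ Q` lie over each vector of `U`. -/
theorem card_pre (S : Set V6) (hS : ∀ u ∈ S, u ∈ f.U) :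
    {g : G | g ∈ A ⊓ qg Q ∧ prG c g ∈ S}.ncard = 2 * S.ncard := by
  classical
  set X := {g : G | g ∈ A ⊓ qg Q ∧ prG c g ∈ S}
  have hfin := Set.toFinite X
  haveI := Fintype.ofFinite G
  rw [Set.ncard_eq_toFinset_card' X, Finset.card_eq_sum_card_fiberwise (f := prG c) (t := S.toFinite.toFinset)
    (fun g hg => by simpa [X] using (Set.mem_toFinset.1 hg).2)]
  rw [Finset.sum_const_nat (m := 2), ← Set.ncard_eq_toFinset_card S, mul_comm]
  intro u hu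
  rw [Set.Finite.mem_toFinset] at hu
  obtain ⟨g, hg, hgu⟩ := prG_surj c u
  have e : X.toFinset.filter (fun x => prG c x = u) = {g, g * z} := by
    ext x
    simp only [Finset.mem_filter, Set.mem_toFinset, Finset.mem_insert, Finset.mem_singleton]
    constructor
    · rintro ⟨hx, hxu⟩
      exact (prG_eq_iff c hg (Subgroup.mem_inf.1 hx.1).2).1 (hgu.trans hxu.symm)
    · intro hx
      have hxq : x ∈ qg Q := by rcases hx with rfl | rfl; exacts [hg, mul_mem hg s.z_qg]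
      have hxu : prG c x = u := ((prG_eq_iff c hg hxq).2 hx).symm.trans hgu
      exact ⟨⟨s.mem_B hxq (hxu ▸ hS u hu), hxu ▸ hu⟩, hxu⟩
  rw [e, Finset.card_pair fun h => s.z_ne (mul_eq_left.1 h.symm)]

theorem card_B : Nat.card ↥(A ⊓ qg Q : Subgroup G) = 2 ^ 7 := by
  have h := s.card_pre (f.U : Set V6) (fun u hu => hu)
  rw [show {g : G | g ∈ A ⊓ qg Q ∧ prG c g ∈ (f.U : Set V6)} = ((A ⊓ qg Q : Subgroup G) : Set G) from
    Set.ext fun g => ⟨fun h => h.1, fun h => ⟨h, s.mem_U h⟩⟩, ← Nat.card_coe_set_eq, ← Nat.card_coe_set_eq,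
    SetLike.coe_sort_coe, SetLike.coe_sort_coe, f.card_U] at h
  rw [h]; rfl

/-- Elements lying over `N` normalise `A`. -/
theorem lift_norm (m : c.M) (hm : c.act m ∈ f.N) :
    ((m : Subgroup.centralizer ({z} : Set G)) : G) ∈ nz z A := by
  set g := ((m : Subgroup.centralizer ({z} : Set G)) : G)
  refine Subgroup.mem_inf.2 ⟨mem_normalizer_of_maps' fun a ha => ?_, (m : Subgroup.centralizer ({z} : Set G)).2⟩
  obtain ⟨k, rfl⟩ := s.mem_M a ha
  have hk : c.act k ∈ f.W := actG_coe c k ▸ s.act_W _ ha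
  have hw := f.N_norm _ hm _ hk
  obtain ⟨a', ha', he'⟩ := s.act_surj _ hw
  obtain ⟨k', rfl⟩ := s.mem_M a' ha'
  rw [actG_coe] at he'
  -- the quotient lies in `Q` and commutes with `A ⊓ Q`
  have hq : c.act (k'⁻¹ * (m * k * m⁻¹)) = 1 := by simp only [map_mul, map_inv, he']; group
  have hqQ := (c.ker_act _).1 hq
  set q := (((k'⁻¹ * (m * k * m⁻¹) : c.M) : Subgroup.centralizer ({z} : Set G)) : G) with hqdef
  have hqg : q ∈ qg Q := mem_qg.2 hqQ
  have hfix : ∀ b ∈ A ⊓ qg Q, q * b = b * q := by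
    intro b hb
    obtain ⟨hb1, hb2⟩ := Subgroup.mem_inf.1 hb
    have hb' : g⁻¹ * b * g⁻¹⁻¹ ∈ A ⊓ qg Q := by
      obtain ⟨h1, h2⟩ := conj_prG c (m := m⁻¹) hb2
      simp only [Subgroup.coe_inv] at h1 h2
      exact s.mem_B h1 (h2.symm ▸ (by rw [map_inv]; exact f.N_U _ (inv_mem hm) _ (s.mem_U hb)))
    have c1 : ((k : Subgroup.centralizer ({z} : Set G)) : G) * (g⁻¹ * b * g⁻¹⁻¹) =
        g⁻¹ * b * g⁻¹⁻¹ * ((k : Subgroup.centralizer ({z} : Set G)) : G) :=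
      s.comm ha (Subgroup.mem_inf.1 hb').1
    have c2 : g * ((k : Subgroup.centralizer ({z} : Set G)) : G) * g⁻¹ * b =
        b * (g * ((k : Subgroup.centralizer ({z} : Set G)) : G) * g⁻¹) := by
      rw [show g * ((k : Subgroup.centralizer ({z} : Set G)) : G) * g⁻¹ * b =
        g * (((k : Subgroup.centralizer ({z} : Set G)) : G) * (g⁻¹ * b * g⁻¹⁻¹)) * g⁻¹ by group, c1]
      group
    have c3 : ((k' : Subgroup.centralizer ({z} : Set G)) : G)⁻¹ * b =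
        b * ((k' : Subgroup.centralizer ({z} : Set G)) : G)⁻¹ := s.comm (inv_mem ha') hb1
    show ((k' : Subgroup.centralizer ({z} : Set G)) : G)⁻¹ *
      (g * ((k : Subgroup.centralizer ({z} : Set G)) : G) * g⁻¹) * b =
      b * (((k' : Subgroup.centralizer ({z} : Set G)) : G)⁻¹ *
        (g * ((k : Subgroup.centralizer ({z} : Set G)) : G) * g⁻¹))
    rw [mul_assoc, c2, ← mul_assoc, c3, mul_assoc]
  have hqU : prG c q ∈ f.U := s.perp _ fun u hu => by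
    obtain ⟨b, hb, rfl⟩ := prG_surj c u
    exact (comm_iff_bform c hqg hb).1 (hfix b (s.mem_B hb hu))
  have hqA : q ∈ A := (s.mem_Q q hqg).2 hqU
  have e : g * ((k : Subgroup.centralizer ({z} : Set G)) : G) * g⁻¹ =
      ((k' : Subgroup.centralizer ({z} : Set G)) : G) * q := by
    simp only [hqdef, g, Subgroup.coe_mul, Subgroup.coe_inv]; group
  rw [e]
  exact mul_mem ha' hqA

theorem qg_nz {q : G} (hq : q ∈ qg Q) : q ∈ nz z A := by
  obtain ⟨r, hr, rfl⟩ := hq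
  exact s.lift_norm ⟨r, c.le_M hr⟩ ((c.ker_act ⟨r, c.le_M hr⟩).2 hr ▸ one_mem _)

/-- A lift of an element of `N`. -/
theorem exists_lift {g : GS F4} (hg : g ∈ f.N) :
    ∃ n ∈ nz z A, (∀ a ∈ A, actG c (n * a * n⁻¹) = g * actG c a * g⁻¹) ∧
      ∀ x ∈ qg Q, n * x * n⁻¹ ∈ qg Q ∧ prG c (n * x * n⁻¹) = mat g *ᵥ prG c x := by
  obtain ⟨m, hm⟩ : g ∈ c.act.range := by rw [c.range_act]; exact f.N_le hg
  refine ⟨_, s.lift_norm m (hm ▸ hg), fun a ha => ?_, fun x hx => hm ▸ conj_prG c hx⟩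
  obtain ⟨k, rfl⟩ := s.mem_M a ha
  rw [← Subgroup.coe_inv, ← Subgroup.coe_mul, ← Subgroup.coe_mul, ← Subgroup.coe_inv, ← Subgroup.coe_mul,
    ← Subgroup.coe_mul, actG_coe, actG_coe, map_mul, map_mul, map_inv, hm]

theorem actG_mul {a b : G} (ha : a ∈ A) (hb : b ∈ A) : actG c (a * b) = actG c a * actG c b := by
  obtain ⟨j, rfl⟩ := s.mem_M a ha
  obtain ⟨k, rfl⟩ := s.mem_M b hb
  rw [← Subgroup.coe_mul, ← Subgroup.coe_mul, actG_coe, actG_coe, actG_coe, map_mul]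

theorem actG_eq_one {a : G} (ha : a ∈ A) : actG c a = 1 ↔ a ∈ qg Q := by
  obtain ⟨j, rfl⟩ := s.mem_M a ha
  rw [actG_coe, c.ker_act, mem_qg]

/-- Conjugation by `Q` inside a coset. -/
theorem conj_q {a q : G} (ha : a ∈ A) (hq : q ∈ qg Q) :
    q * a * q⁻¹ ∈ A ∧ a * (q * a * q⁻¹) ∈ A ⊓ qg Q ∧ actG c (q * a * q⁻¹) = actG c a ∧
      prG c (a * (q * a * q⁻¹)) = mat (actG c a) *ᵥ prG c q + prG c q := by
  have hA : q * a * q⁻¹ ∈ A :=
    (Subgroup.mem_normalizer_iff.1 (Subgroup.mem_inf.1 (s.qg_nz hq)).1 a).1 ha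
  have hinv : a⁻¹ = a := inv_eq_of_mul_eq_one_right (s.sq ha)
  obtain ⟨k, rfl⟩ := s.mem_M a ha
  set g := ((k : Subgroup.centralizer ({z} : Set G)) : G)
  obtain ⟨h1, h2⟩ := conj_prG c (m := k) hq
  have e : g * (q * g * q⁻¹) = g * q * g⁻¹ * q⁻¹ := by rw [hinv]; group
  have hQ : g * (q * g * q⁻¹) ∈ qg Q := by rw [e]; exact mul_mem h1 (inv_mem hq)
  have hB : g * (q * g * q⁻¹) ∈ A ⊓ qg Q := Subgroup.mem_inf.2 ⟨mul_mem ha hA, hQ⟩
  refine ⟨hA, hB, ?_, ?_⟩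
  · have h3 := s.actG_mul ha (Subgroup.mem_inf.1 hB).1
    rw [← mul_assoc g g, s.sq ha, one_mul, (s.actG_eq_one (Subgroup.mem_inf.1 hB).1).2 hQ, mul_one] at h3
    exact h3
  · rw [e, prG_mul c h1 (inv_mem hq), h2, prG_inv c hq, actG_coe]

theorem w_ne {a : G} (ha : a ∈ A) (hQ : a ∉ qg Q) : actG c a ≠ 1 := fun h => hQ ((s.actG_eq_one ha).1 h)

/-- The conjugates under `Q` cover the line. -/
theorem corb_cover {a : G} (ha : a ∈ A) :
    (fun y => prG c (a * y)) '' corb (qg Q) a = line (actG c a) := by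
  ext d
  constructor
  · rintro ⟨_, ⟨q, hq, rfl⟩, rfl⟩
    exact ⟨prG c q, (s.conj_q ha hq).2.2.2⟩
  · rintro ⟨v, rfl⟩
    obtain ⟨q, hq, rfl⟩ := prG_surj c v
    exact ⟨_, ⟨q, hq, rfl⟩, (s.conj_q ha hq).2.2.2⟩

theorem sixteen_dvd {a : G} (ha : a ∈ A) (hQ : a ∉ qg Q) : 16 ∣ (corb (qg Q) a).ncard := by
  have h1 : (line (actG c a)).ncard ≤ (corb (qg Q) a).ncard := by
    rw [← s.corb_cover ha]; exact Set.ncard_image_le (Set.toFinite _)
  rw [f.line_card _ (s.act_W a ha) (s.w_ne ha hQ)] at h1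
  obtain ⟨i, -, hi⟩ := (Nat.dvd_prime_pow Nat.prime_two).1
    ((Dvd.intro _ (ncard_corb_mul (qg Q) a)).trans (by rw [card_qg, s.card_Q]))
  rw [hi] at h1 ⊢
  have h4 : 4 ≤ i := (Nat.pow_le_pow_iff_right (le_refl 2)).1 (by simpa using h1)
  exact (by norm_num : (16 : ℕ) = 2 ^ 4) ▸ pow_dvd_pow 2 h4

theorem nz_qg {n q : G} (hn : n ∈ nz z A) (hq : q ∈ qg Q) : n * q * n⁻¹ ∈ qg Q :=
  conj_mem_qg (Subgroup.mem_inf.1 hn).2 hq

theorem orbit_out {a : G} (ha : a ∈ A) (hQ : a ∉ qg Q) : 240 ∣ (corb (nz z A) a).ncard := by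
  classical
  haveI := Fintype.ofFinite G
  set X := corb (nz z A) a
  have hX : ∀ y ∈ X, y ∈ A ∧ y ∉ qg Q := by
    rintro _ ⟨n, hn, rfl⟩
    refine ⟨(Subgroup.mem_normalizer_iff.1 (Subgroup.mem_inf.1 hn).1 a).1 ha, fun h => hQ ?_⟩
    have := s.nz_qg (inv_mem hn) h
    simpa [mul_assoc] using this
  have hXinv : ∀ y ∈ X, ∀ n ∈ nz z A, n * y * n⁻¹ ∈ X := fun y hy n hn => by
    show _ ∈ corb (nz z A) a
    rw [← corb_eq hy]; exact ⟨n, hn, rfl⟩
  set Ws : Finset (GS F4) := ((f.W : Set (GS F4)) \ {1}).toFinite.toFinset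
  have hWs : ∀ w, w ∈ Ws ↔ w ∈ f.W ∧ w ≠ 1 := fun w => by simp [Ws]
  have hfib : ∀ w ∈ Ws, ∀ w' ∈ Ws, {y ∈ X | actG c y = w}.ncard ≤ {y ∈ X | actG c y = w'}.ncard := by
    intro w hw w' hw'
    rw [hWs] at hw hw'
    obtain ⟨g, hg, he⟩ := f.trans_W w hw.1 hw.2 w' hw'.1 hw'.2
    obtain ⟨n, hn, hn1, -⟩ := s.exists_lift hg
    refine Set.ncard_le_ncard_of_injOn (fun y => n * y * n⁻¹) (fun y hy => ⟨hXinv y hy.1 n hn, ?_⟩)
      (fun a _ b _ h => by simpa using h) (Set.toFinite _)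
    rw [hn1 y (hX y hy.1).1, hy.2, he]
  have hw0 : actG c a ∈ Ws := (hWs _).2 ⟨s.act_W a ha, s.w_ne ha hQ⟩
  have h16 : 16 ∣ {y ∈ X | actG c y = actG c a}.ncard := by
    refine dvd_ncard_of_invariant (qg Q) 16 _ (fun y hy q hq => ⟨hXinv y hy.1 q (s.qg_nz hq), ?_⟩)
      (fun y hy => s.sixteen_dvd (hX y hy.1).1 (hX y hy.1).2)
    rw [(s.conj_q (hX y hy.1).1 hq).2.2.1, hy.2]
  have hsum : X.ncard = 15 * {y ∈ X | actG c y = actG c a}.ncard := by
    rw [Set.ncard_eq_toFinset_card' X, Finset.card_eq_sum_card_fiberwise (f := actG c) (t := Ws)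
      (fun y hy => by
        have hy' := Set.mem_toFinset.1 hy
        exact (hWs _).2 ⟨s.act_W y (hX y hy').1, s.w_ne (hX y hy').1 (hX y hy').2⟩),
      Finset.sum_const_nat (m := {y ∈ X | actG c y = actG c a}.ncard)]
    · congr 1
      rw [← Set.ncard_eq_toFinset_card, Set.ncard_sdiff_singleton_of_mem (one_mem f.W), ← Nat.card_coe_set_eq,
        SetLike.coe_sort_coe, f.card_W]
    · intro w hw
      rw [← le_antisymm (hfib w hw _ hw0) (hfib _ hw0 w hw), Set.ncard_eq_toFinset_card']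
      congr 1
      ext y
      simp
  obtain ⟨k, hk⟩ := h16
  exact ⟨k, by rw [hsum, hk]; ring⟩

theorem order_dvd : 2 ^ 21 * 135 ∣ Nat.card (nz z A) := by
  haveI : Fact (Nat.Prime 2) := ⟨Nat.prime_two⟩
  refine Nat.Coprime.mul_dvd_of_dvd_of_dvd (by norm_num) ?_ ?_
  · obtain ⟨T, hT, hle, hel, huniq⟩ := s.uniq
    have h21 : 2 ^ 21 ∣ Nat.card T := T.pow_dvd_card_of_pow_dvd_card
      ((card_cent c s.card_Q ▸ (by norm_num : 2 ^ 21 ∣ 2 * (2 ^ 13 * 9797760))).trans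
        (Subgroup.card_subgroup_dvd_card _))
    refine h21.trans (Subgroup.card_dvd_of_le fun t ht => Subgroup.mem_inf.2 ⟨?_, hT ht⟩)
    refine mem_normalizer_of_maps' fun a ha => ?_
    have e : A.map (MulAut.conj t).toMonoidHom = A := by
      refine huniq _ ?_ ⟨⟨⟨fun x y => ?_⟩⟩, fun x hx => ?_⟩ ?_
      · rintro _ ⟨x, hx, rfl⟩
        exact mul_mem (mul_mem ht (hle hx)) (inv_mem ht)
      · obtain ⟨_, x, hx, rfl⟩ := x; obtain ⟨_, y, hy, rfl⟩ := y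
        apply Subtype.ext
        show (MulAut.conj t) x * (MulAut.conj t) y = (MulAut.conj t) y * (MulAut.conj t) x
        rw [← map_mul, ← map_mul, s.comm hx hy]
      · obtain ⟨y, hy, rfl⟩ := ‹_ ∈ A.map _›
        show ((MulAut.conj t) y) ^ 2 = 1
        rw [← map_pow, hel.2 y hy, map_one]
      · exact (Nat.card_congr ((A.equivMapOfInjective _ (MulAut.conj t).injective).symm).toEquiv).ge
    exact e ▸ ⟨a, ha, rfl⟩
  · set P := (f.N.comap c.act).map ((Subgroup.centralizer ({z} : Set G)).subtype.comp c.M.subtype)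
    have hP : P ≤ nz z A := by rintro _ ⟨m, hm, rfl⟩; exact s.lift_norm m hm
    refine dvd_trans ?_ (Subgroup.card_dvd_of_le hP)
    have hinj : Function.Injective ((Subgroup.centralizer ({z} : Set G)).subtype.comp c.M.subtype) :=
      Subtype.val_injective.comp Subtype.val_injective
    rw [Subgroup.card_map_of_injective hinj]
    have hsurj : Function.Surjective (c.act.subgroupComap f.N) := by
      rintro ⟨g, hg⟩
      obtain ⟨m, hm⟩ : g ∈ c.act.range := by rw [c.range_act]; exact f.N_le hg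
      exact ⟨⟨m, show c.act m ∈ f.N by rw [hm]; exact hg⟩, Subtype.ext hm⟩
    exact f.order_dvd.trans (Subgroup.card_dvd_of_surjective _ hsurj)

theorem prime_le (p : ℕ) (hp : p.Prime)
    (hd : p ∣ Nat.card ↥(Subgroup.centralizer ({z} : Set G))) : p ≤ 7 := by
  rw [card_cent c s.card_Q, show 2 * (2 ^ 13 * 9797760) = 2 ^ 21 * 3 ^ 7 * (5 * 7) by norm_num] at hd
  rcases hp.dvd_mul.1 hd with h | h
  · rcases hp.dvd_mul.1 h with h | h <;>
      [have := (Nat.prime_dvd_prime_iff_eq hp Nat.prime_two).1 (hp.dvd_of_dvd_pow h);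
       have := (Nat.prime_dvd_prime_iff_eq hp Nat.prime_three).1 (hp.dvd_of_dvd_pow h)] <;> omega
  · rcases hp.dvd_mul.1 h with h | h <;> have := Nat.le_of_dvd (by norm_num) h <;> omega

theorem cases_B {g : G} (hg : g ∈ A ⊓ qg Q) :
    g = 1 ∨ g = z ∨ InSmall c.b (prG c g) ∨ InBig c.b (prG c g) := by
  obtain ⟨hA, hQ⟩ := Subgroup.mem_inf.1 hg
  by_cases h : prG c g = 0
  · rcases (prG_eq_zero c hQ).1 h with h | h
    exacts [Or.inl h, Or.inr (Or.inl h)]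
  · exact Or.inr (Or.inr (iso_cases c.b h ((sq_iff_herm c hQ).1 (s.sq hA))))

theorem tin_iff {g : G} :
    g ∈ tin z A (qg Q) ↔ g ∈ A ⊓ qg Q ∧ InSmall c.b (prG c g) := by
  constructor
  · rintro ⟨⟨hA, h1, hn⟩, hQ⟩
    refine ⟨Subgroup.mem_inf.2 ⟨hA, hQ⟩, ?_⟩
    rcases s.cases_B (Subgroup.mem_inf.2 ⟨hA, hQ⟩) with h | h | h | h
    exacts [absurd h h1, absurd (h ▸ IsConj.refl z) hn, h, absurd (s.conj_big g hQ h) hn]
  · rintro ⟨hg, h⟩
    obtain ⟨hA, hQ⟩ := Subgroup.mem_inf.1 hg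
    refine ⟨⟨hA, fun e => ?_, s.conj_small g hQ h⟩, hQ⟩
    have := (isotropic_of_orbit (Or.inl h)).1
    rw [e, prG_one] at this
    exact this rfl

theorem zcls_iff {g : G} :
    g ∈ {a ∈ zcls z A | a ∈ qg Q} ↔ g = z ∨ g ∈ A ⊓ qg Q ∧ InBig c.b (prG c g) := by
  constructor
  · rintro ⟨⟨hA, hc⟩, hQ⟩
    rcases s.cases_B (Subgroup.mem_inf.2 ⟨hA, hQ⟩) with h | h | h | h
    exacts [absurd (isConj_one_left.1 (h ▸ hc)) s.z_ne, Or.inl h, absurd hc (s.conj_small g hQ h),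
      Or.inr ⟨Subgroup.mem_inf.2 ⟨hA, hQ⟩, h⟩]
  · rintro (rfl | ⟨hg, h⟩)
    · exact ⟨⟨(Subgroup.mem_inf.1 s.z_B).1, IsConj.refl _⟩, s.z_qg⟩
    · obtain ⟨hA, hQ⟩ := Subgroup.mem_inf.1 hg
      exact ⟨⟨hA, s.conj_big g hQ h⟩, hQ⟩

theorem zcls_B : {a ∈ zcls z A | a ∈ qg Q}.ncard = 91 := by
  rw [show {a ∈ zcls z A | a ∈ qg Q} =
    insert z {g : G | g ∈ A ⊓ qg Q ∧ prG c g ∈ {u | u ∈ f.U ∧ InBig c.b u}} from Set.ext fun g => by
      rw [s.zcls_iff, Set.mem_insert_iff]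
      exact or_congr Iff.rfl ⟨fun h => ⟨h.1, s.mem_U h.1, h.2⟩, fun h => ⟨h.1, h.2.2⟩⟩]
  rw [Set.ncard_insert_of_notMem (fun h => (isotropic_of_orbit (Or.inr h.2.2)).1 s.prG_z),
    s.card_pre _ (fun u hu => hu.1), f.card_big]

theorem span_B : Subgroup.closure {a ∈ zcls z A | a ∈ qg Q} = A ⊓ qg Q := by
  set K := Subgroup.closure {a ∈ zcls z A | a ∈ qg Q}
  have hK : K ≤ A ⊓ qg Q := (Subgroup.closure_le _).2 fun g hg => Subgroup.mem_inf.2 ⟨hg.1.1, hg.2⟩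
  refine le_antisymm hK fun g hg => ?_
  have hz : z ∈ K := Subgroup.subset_closure (s.zcls_iff.2 (Or.inl rfl))
  have h : ∀ u ∈ f.U, ∀ x ∈ qg Q, prG c x = u → x ∈ K := by
    intro u hu
    rw [← f.span_big] at hu
    induction hu using AddSubgroup.closure_induction with
    | mem u hu =>
      intro x hx hxu
      exact Subgroup.subset_closure (s.zcls_iff.2 (Or.inr ⟨s.mem_B hx (hxu ▸ hu.1), hxu ▸ hu.2⟩))
    | zero =>
      intro x hx hxu
      rcases (prG_eq_zero c hx).1 hxu with rfl | rfl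
      exacts [one_mem _, hz]
    | add u v _ _ iu iv =>
      intro x hx hxu
      obtain ⟨y, hy, hyu⟩ := prG_surj c u
      have hv : prG c (y⁻¹ * x) = v := by
        rw [prG_mul c (inv_mem hy) hx, prG_inv c hy, hyu, hxu, ← add_assoc, pf_self, zero_add]
      simpa using mul_mem (iu y hy hyu) (iv _ (mul_mem (inv_mem hy) hx) hv)
    | neg u _ iu =>
      intro x hx hxu
      exact iu x hx (by rw [hxu]; exact neg_eq_of_add_eq_zero_left (pf_self u))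
  exact h _ (s.mem_U hg) g (Subgroup.mem_inf.1 hg).2 rfl

theorem trans_B {a b : G} (ha : a ∈ tcls z A) (haQ : a ∈ qg Q) (hb : b ∈ tcls z A) (hbQ : b ∈ qg Q) :
    b ∈ corb (nz z A) a := by
  obtain ⟨haB, has⟩ := s.tin_iff.1 ⟨ha, haQ⟩
  obtain ⟨hbB, hbs⟩ := s.tin_iff.1 ⟨hb, hbQ⟩
  obtain ⟨g, hg, he⟩ := f.trans_small _ (s.mem_U haB) has _ (s.mem_U hbB) hbs
  obtain ⟨n, hn, -, hn2⟩ := s.exists_lift hg
  obtain ⟨h1, h2⟩ := hn2 a haQ
  rcases (prG_eq_iff c h1 hbQ).1 (h2.trans he) with e | e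
  · exact ⟨n, hn, e.symm⟩
  · obtain ⟨v, hv⟩ := bform_nondeg (show prG c (n * a * n⁻¹) ≠ 0 by
      rw [h2, he]; exact (isotropic_of_orbit (Or.inl hbs)).1)
    obtain ⟨q, hq, rfl⟩ := prG_surj c v
    refine ⟨q * n, mul_mem (s.qg_nz hq) hn, ?_⟩
    rw [show q * n * a * (q * n)⁻¹ = q * (n * a * n⁻¹) * q⁻¹ by group, conj_moved c hq h1 hv, e]

/-- The local data. -/
theorem localData : LocalData z A (qg Q) where
  z_ne := s.z_ne
  z_mem := s.z_B
  elem := s.elem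
  card_A := s.card_A
  card_B := s.card_B
  cent_A := s.cent_A
  fusion := fun a ha g hg => by
    obtain ⟨T, -, hu⟩ := s.uniq
    exact fusion_of_unique hu ha hg
  order_dvd := s.order_dvd
  prime_le := s.prime_le
  zcls_B := s.zcls_B
  span_B := s.span_B
  trans_B := fun a ha haQ b hb hbQ => s.trans_B ha haQ hb hbQ
  nz_Q := fun n hn q hq => s.nz_qg hn hq
  orbit_out := fun a ha hQ => s.orbit_out ha hQ

end ASpine

end CfsgLib.Trans3.FischerType.PairCode
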