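import Mathlib.GroupTheory.Index
import Mathlib.Algebra.Group.Subgroup.Finite
import Mathlib.Data.Nat.Choose.Basic
import Mathlib.Combinatorics.Enumerative.DoubleCounting
import Mathlib.Data.Set.Card

/-!
A set of 276 elements of an elementary abelian group whose sum graph has valency 44 and in which the
common neighbours of an edge, other than its sum, form a clique of size 21: the maximal cliques of
size 23 ("stars") are 24 in number and the elements are the pairs of stars.
-/

set_option autoImplicit false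
set_option linter.unusedSectionVars false

namespace CfsgLib.Trans3.FischerType.PairCode

variable {A : Type*} [CommGroup A]

/-- The common neighbours of `x` and `y` in the sum graph on `T`, other than `x * y`. -/
def Com (T : Set A) (x y : A) : Set A :=
  {c | c ∈ T ∧ c * x ∈ T ∧ c * y ∈ T ∧ c ≠ x * y}

/-- The neighbours of `x` in the sum graph on `T`. -/
def Nbr (T : Set A) (x : A) : Set A := {y | y ∈ T ∧ x * y ∈ T}

/-- The local hypotheses on the sum graph. -/
structure SumGraph (T : Set A) : Prop where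
  sq : ∀ a : A, a * a = 1
  card_group : Nat.card A = 2 ^ 11
  card_T : T.ncard = 276
  gen : Subgroup.closure T = ⊤
  one_notMem : (1 : A) ∉ T
  deg : ∀ x ∈ T, (Nbr T x).ncard = 44
  com_card : ∀ x ∈ T, ∀ y ∈ T, x * y ∈ T → (Com T x y).ncard = 21
  com_sum : ∀ x ∈ T, ∀ y ∈ T, x * y ∈ T → ∀ c ∈ Com T x y, c * (x * y) ∉ T
  com_adj : ∀ x ∈ T, ∀ y ∈ T, x * y ∈ T → ∀ c ∈ Com T x y, ∀ d ∈ Com T x y, c ≠ d → c * d ∈ T

/-- The clique spanned by an edge. -/
def clique (T : Set A) (x y : A) : Set A := insert x (insert y (Com T x y))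

/-- The stars. -/
def Stars (T : Set A) : Set (Set A) :=
  {P | ∃ x y, x ∈ T ∧ y ∈ T ∧ x * y ∈ T ∧ P = clique T x y}

variable {T : Set A} (g : SumGraph T)

include g

namespace SumGraph

theorem cancel_left (a b : A) : a * (a * b) = b := by rw [← mul_assoc, g.sq, one_mul]

theorem cancel_mid (a b : A) : b * a * b = a := by rw [mul_comm b a, mul_assoc, g.sq, mul_one]

theorem ne_of_adj {x y : A} (h : x * y ∈ T) : x ≠ y := by
  rintro rfl
  exact g.one_notMem (g.sq x ▸ h)

theorem mem_clique_adj {x y : A} (hx : x ∈ T) (hy : y ∈ T) (hxy : x * y ∈ T) {c d : A}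
    (hc : c ∈ clique T x y) (hd : d ∈ clique T x y) (hne : c ≠ d) :
    c ∈ T ∧ d ∈ T ∧ c * d ∈ T := by
  rcases hc with e1 | e1 | hc <;> rcases hd with e2 | e2 | hd
  · exact absurd (e1.trans e2.symm) hne
  · rw [e1, e2]; exact ⟨hx, hy, hxy⟩
  · rw [e1]; exact ⟨hx, hd.1, mul_comm d x ▸ hd.2.1⟩
  · rw [e1, e2]; exact ⟨hy, hx, mul_comm x y ▸ hxy⟩
  · exact absurd (e1.trans e2.symm) hne
  · rw [e1]; exact ⟨hy, hd.1, mul_comm d y ▸ hd.2.2.1⟩
  · rw [e2]; exact ⟨hc.1, hx, hc.2.1⟩
  · rw [e2]; exact ⟨hc.1, hy, hc.2.2.1⟩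
  · exact ⟨hc.1, hd.1, g.com_adj x hx y hy hxy c hc d hd hne⟩

theorem clique_subset {x y : A} (hx : x ∈ T) (hy : y ∈ T) : clique T x y ⊆ T := by
  rintro c (rfl | rfl | hc)
  · exact hx
  · exact hy
  · exact hc.1

/-- A clique contains no three elements with trivial product. -/
theorem clique_no_sum {x y : A} (hx : x ∈ T) (hy : y ∈ T) (hxy : x * y ∈ T) {c d : A}
    (hc : c ∈ clique T x y) (hd : d ∈ clique T x y) (hne : c ≠ d) :
    c * d ∉ clique T x y := by
  have key : ∀ u v e, u ∈ T → v ∈ T → u * v ∈ T → e ∈ Com T u v → u * e ∈ T → v * e ∈ T →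
      u * e * v ∉ T := by
    intro u v e hu hv huv he _ _ h
    refine g.com_sum u hu v hv huv e he ?_
    rwa [show e * (u * v) = u * e * v by rw [← mul_assoc, mul_comm e u]]
  intro he
  set e := c * d with hedef
  -- every pair of the three is an edge
  have h1 := g.mem_clique_adj hx hy hxy hc hd hne
  -- reduce to a member different from `c` and `d`
  by_cases hxc : x ∈ ({c, d, e} : Set A)
  · by_cases hyc : y ∈ ({c, d, e} : Set A)
    · -- the third one is `x * y`, which is not in the clique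
      have hcc : ∀ a b : A, a * (b * a) = b := fun a b => by rw [mul_comm b a, g.cancel_left]
      have hz : x * y = c ∨ x * y = d ∨ x * y = e := by
        rcases hxc with h | h | h <;> rcases hyc with h' | h' | h' <;>
          first
          | exact absurd (h.trans h'.symm) (g.ne_of_adj hxy)
          | (rw [h, h', hedef]; simp [mul_assoc, g.cancel_left, hcc, g.sq, mul_comm d c])
      have hz : x * y ∈ clique T x y := by rcases hz with h | h | h <;> rw [h] <;> assumption
      rcases hz with h | h | h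
      · exact g.one_notMem (by
          have : y = 1 := by simpa using h
          exact this ▸ hy)
      · exact g.one_notMem (by
          have : x = 1 := by simpa using h
          exact this ▸ hx)
      · exact h.2.2.2 rfl
    · -- `x` and two common neighbours
      obtain ⟨a, b, ha, hb, hab⟩ : ∃ a b, a ∈ clique T x y ∧ b ∈ clique T x y ∧ b = x * a ∧ a ≠ x ∧
          b ≠ x ∧ a ≠ y ∧ b ≠ y := by
        simp only [Set.mem_insert_iff, Set.mem_singleton_iff, not_or] at hyc hxc
        obtain ⟨hyc1, hyc2, hyc3⟩ := hyc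
        have hce : e ≠ c := fun h => by
          have : d = 1 := by simpa [hedef] using h
          exact g.one_notMem (this ▸ h1.2.1)
        have hde : e ≠ d := fun h => by
          have : c = 1 := by simpa [hedef] using h
          exact g.one_notMem (this ▸ h1.1)
        rcases hxc with rfl | rfl | rfl
        · exact ⟨d, e, hd, he, rfl, hne.symm, hce, Ne.symm hyc2, Ne.symm hyc3⟩
        · exact ⟨c, e, hc, he, by rw [hedef, mul_comm], hne, hde, Ne.symm hyc1, Ne.symm hyc3⟩
        · exact ⟨c, d, hc, hd, by rw [hedef, g.cancel_mid], hce.symm, hde.symm, Ne.symm hyc1,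
            Ne.symm hyc2⟩
      obtain ⟨rfl, hax, hbx, hay, hby⟩ := hab
      have haC : a ∈ Com T x y := ha.resolve_left hax |>.resolve_left hay
      have hbC : x * a ∈ Com T x y := hb.resolve_left hbx |>.resolve_left hby
      exact key x y a hx hy hxy haC (mul_comm a x ▸ haC.2.1) (mul_comm a y ▸ haC.2.2.1) hbC.2.2.1
  · simp only [Set.mem_insert_iff, Set.mem_singleton_iff, not_or] at hxc
    obtain ⟨hx1, hx2, hx3⟩ := hxc
    have hxc' := g.mem_clique_adj hx hy hxy (Or.inl rfl) hc hx1
    have hxd' := g.mem_clique_adj hx hy hxy (Or.inl rfl) hd hx2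
    have hxe' := g.mem_clique_adj hx hy hxy (Or.inl rfl) he hx3
    have hdC : d ∈ Com T x c := ⟨h1.2.1, mul_comm x d ▸ hxd'.2.2, mul_comm c d ▸ h1.2.2, fun h => by
      have : e = x := by rw [hedef, h, mul_comm x c, g.cancel_left]
      exact hx3 this.symm⟩
    refine key x c d hx h1.1 hxc'.2.2 hdC hxd'.2.2 h1.2.2 ?_
    rw [mul_assoc, mul_comm d c]
    exact hxe'.2.2

theorem clique_ncard [Finite A] {x y : A} (hx : x ∈ T) (hy : y ∈ T) (hxy : x * y ∈ T) :
    (clique T x y).ncard = 23 := by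
  have hy' : y ∉ Com T x y := fun h => g.one_notMem (g.sq y ▸ h.2.2.1)
  have hx' : x ∉ insert y (Com T x y) := by
    rintro (h | h)
    · exact g.ne_of_adj hxy h
    · exact g.one_notMem (g.sq x ▸ h.2.1)
  rw [clique, Set.ncard_insert_of_notMem hx' (Set.toFinite _),
    Set.ncard_insert_of_notMem hy' (Set.toFinite _), g.com_card x hx y hy hxy]

theorem clique_eq [Finite A] {x y : A} (hx : x ∈ T) (hy : y ∈ T) (hxy : x * y ∈ T) {c d : A}
    (hc : c ∈ clique T x y) (hd : d ∈ clique T x y) (hne : c ≠ d) :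
    clique T x y = clique T c d := by
  obtain ⟨hcT, hdT, hcd⟩ := g.mem_clique_adj hx hy hxy hc hd hne
  refine Set.eq_of_subset_of_ncard_le (fun e he => ?_)
    (by rw [g.clique_ncard hx hy hxy, g.clique_ncard hcT hdT hcd]) (Set.toFinite _)
  by_cases h1 : e = c
  · exact Or.inl h1
  by_cases h2 : e = d
  · exact Or.inr (Or.inl h2)
  refine Or.inr (Or.inr ⟨g.clique_subset hx hy he, (g.mem_clique_adj hx hy hxy he hc h1).2.2,
    (g.mem_clique_adj hx hy hxy he hd h2).2.2, fun h => g.clique_no_sum hx hy hxy hc hd hne ?_⟩)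
  exact h ▸ he

theorem star_eq [Finite A] {P : Set A} (hP : P ∈ Stars T) {c d : A} (hc : c ∈ P) (hd : d ∈ P)
    (hne : c ≠ d) : c ∈ T ∧ d ∈ T ∧ c * d ∈ T ∧ P = clique T c d ∧ c * d ∉ P := by
  obtain ⟨x, y, hx, hy, hxy, rfl⟩ := hP
  obtain ⟨h1, h2, h3⟩ := g.mem_clique_adj hx hy hxy hc hd hne
  exact ⟨h1, h2, h3, g.clique_eq hx hy hxy hc hd hne, g.clique_no_sum hx hy hxy hc hd hne⟩

theorem star_subset {P : Set A} (hP : P ∈ Stars T) : P ⊆ T := by
  obtain ⟨x, y, hx, hy, -, rfl⟩ := hP
  exact g.clique_subset hx hy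

theorem star_ncard [Finite A] {P : Set A} (hP : P ∈ Stars T) : P.ncard = 23 := by
  obtain ⟨x, y, hx, hy, hxy, rfl⟩ := hP
  exact g.clique_ncard hx hy hxy

omit g in
theorem mem_stars {x y : A} (hx : x ∈ T) (hy : y ∈ T) (hxy : x * y ∈ T) :
    clique T x y ∈ Stars T ∧ x ∈ clique T x y ∧ y ∈ clique T x y :=
  ⟨⟨x, y, hx, hy, hxy, rfl⟩, Or.inl rfl, Or.inr (Or.inl rfl)⟩

/-- Every element lies on exactly two stars. -/
theorem stars_at [Finite A] {x : A} (hx : x ∈ T) : {P ∈ Stars T | x ∈ P}.ncard = 2 := by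
  classical
  haveI := Fintype.ofFinite A
  set S := {P ∈ Stars T | x ∈ P} with hS
  set s := (Set.toFinite S).toFinset with hs
  have hms : ∀ P, P ∈ s ↔ P ∈ Stars T ∧ x ∈ P := fun P => by simp [hs, hS]
  have hun : (Nbr T x).toFinset = s.biUnion fun P => (P \ {x}).toFinset := by
    ext y
    simp only [Set.mem_toFinset, Finset.mem_biUnion, hms, Set.mem_sdiff, Set.mem_singleton_iff]
    constructor
    · intro hy
      exact ⟨clique T x y, ⟨(mem_stars hx hy.1 hy.2).1, Or.inl rfl⟩, Or.inr (Or.inl rfl),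
        (g.ne_of_adj hy.2).symm⟩
    · rintro ⟨P, ⟨hP, hxP⟩, hyP, hne⟩
      have := g.star_eq hP hxP hyP (Ne.symm hne)
      exact ⟨this.2.1, this.2.2.1⟩
  have hdis : (↑s : Set (Set A)).PairwiseDisjoint fun P => (P \ {x}).toFinset := by
    intro P hP Q hQ hne
    rw [Finset.mem_coe, hms] at hP hQ
    rw [Function.onFun, Finset.disjoint_left]
    intro y hy hy'
    simp only [Set.mem_toFinset, Set.mem_sdiff, Set.mem_singleton_iff] at hy hy'
    exact hne ((g.star_eq hP.1 hP.2 hy.1 (Ne.symm hy.2)).2.2.2.1.trans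
      (g.star_eq hQ.1 hQ.2 hy'.1 (Ne.symm hy'.2)).2.2.2.1.symm)
  have hc := congrArg Finset.card hun
  rw [Finset.card_biUnion hdis, Finset.sum_const_nat (m := 22) (fun P hP => by
    rw [hms] at hP
    rw [← Set.ncard_eq_toFinset_card', Set.ncard_sdiff_singleton_of_mem hP.2, g.star_ncard hP.1]),
    ← Set.ncard_eq_toFinset_card', g.deg x hx] at hc
  rw [Set.ncard_eq_toFinset_card S (Set.toFinite S), ← hs]
  omega

theorem stars_at_card [Finite A] [DecidableEq (Set A)] {x : A} (hx : x ∈ T)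
    (s : Finset (Set A)) (hs : ∀ P, P ∈ s ↔ P ∈ Stars T ∧ x ∈ P) : s.card = 2 := by
  rw [← g.stars_at hx, ← Set.ncard_coe_finset]
  congr 1
  ext P
  simp [hs]

theorem card_stars [Finite A] : Nat.card ↥(Stars T) = 24 := by
  classical
  haveI := Fintype.ofFinite A
  haveI := Fintype.ofFinite ↥(Stars T)
  haveI := Fintype.ofFinite ↥T
  have h := Finset.sum_card_bipartiteAbove_eq_sum_card_bipartiteBelow
    (fun (x : ↥T) (P : ↥(Stars T)) => (x : A) ∈ (P : Set A))
    (s := Finset.univ) (t := Finset.univ)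
  rw [Finset.sum_const_nat (m := 2) (fun x _ => ?_), Finset.sum_const_nat (m := 23) (fun P _ => ?_),
    Finset.card_univ, Finset.card_univ, ← Nat.card_eq_fintype_card, ← Nat.card_eq_fintype_card,
    Nat.card_coe_set_eq T, g.card_T] at h
  · omega
  · rw [← g.star_ncard P.2, Finset.bipartiteBelow, ← Finset.card_map ⟨Subtype.val,
      Subtype.val_injective⟩, ← Set.ncard_coe_finset]
    congr 1
    ext a
    simp only [Finset.coe_map, Function.Embedding.coeFn_mk, Set.mem_image, Finset.coe_filter,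
      Finset.mem_univ, true_and, Set.mem_ofPred_eq]
    exact ⟨fun ⟨b, hb, e⟩ => e ▸ hb, fun ha => ⟨⟨a, g.star_subset P.2 ha⟩, ha, rfl⟩⟩
  · rw [← g.stars_at x.2, Finset.bipartiteAbove, ← Finset.card_map ⟨Subtype.val,
      Subtype.val_injective⟩, ← Set.ncard_coe_finset]
    congr 1
    ext a
    simp only [Finset.coe_map, Function.Embedding.coeFn_mk, Set.mem_image, Finset.coe_filter,
      Finset.mem_univ, true_and, Set.mem_ofPred_eq]
    exact ⟨fun ⟨b, hb, e⟩ => e ▸ ⟨b.2, hb⟩, fun ha => ⟨⟨a, ha.1⟩, ha.2, rfl⟩⟩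

end SumGraph

end CfsgLib.Trans3.FischerType.PairCode
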