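import Cfsg.Agent.Lib.Trans3.FischerType.StabChecks
import Mathlib.GroupTheory.SpecificGroups.Alternating.Simple

/-!
The stabiliser in the subgroup number `0` of an isotropic vector of the long orbit has order `5760`:
an extension of a normal subgroup of order sixteen by the alternating group of degree six.
-/

set_option autoImplicit false
set_option linter.unusedSectionVars false
set_option linter.style.haveILetI false
set_option maxRecDepth 100000

namespace CfsgLib.Trans3.FischerType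

open CfsgLib.Chev.U43U6
open Matrix

variable {F : Type*} [Field F] [Fintype F] {ω : F} (hω : IsOmega ω) (hF : Fintype.card F = 4)

/-- The isotropic vector. -/
abbrev sVec (ω : F) : Fin 6 → F := vdec ω svec

/-- The stabiliser of the vector. -/
def Stab : Subgroup (GS F) where
  carrier := {g | g ∈ Kb hω hF 0 ∧ app g (sVec ω) = sVec ω}
  one_mem' := ⟨one_mem _, app_one _⟩
  mul_mem' {a b} ha hb := ⟨mul_mem ha.1 hb.1, by rw [app_mul, hb.2, ha.2]⟩
  inv_mem' {a} ha := ⟨inv_mem ha.1, by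
    conv_lhs => rw [← ha.2]
    exact app_inv a _⟩

theorem mem_Stab {g : GS F} : g ∈ Stab hω hF ↔ g ∈ Kb hω hF 0 ∧ app g (sVec ω) = sVec ω := Iff.rfl

/-- A generator of the stabiliser. -/
noncomputable def tEl (i : Fin 2) : GS F := kWord hω hF (tWords.getD i [])

theorem t_checks (i : Fin 2) : wordOK (tWords.getD i []) (tM i) = true ∧ mulV (tM i) svec = svec ∧
    ∀ j < 6, sigV i j < 6 ∧ (∀ c ∈ blk j, ∃ d ∈ blk (sigV i j), mulV (tM i) c = d) ∧
      ∀ d ∈ blk (sigV i j), ∃ c ∈ blk j, mulV (tM i) c = d := by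
  have h := of_range tOK_true i.2
  simp only [Bool.and_eq_true, List.all_eq_true, List.any_eq_true, List.mem_range] at h
  refine ⟨h.1.1, Nat.eq_of_beq_eq_true h.1.2, fun j hj => ⟨Nat.blt_eq.mp (h.2 j hj).1.1, ?_, ?_⟩⟩
  · intro c hc
    obtain ⟨d, hd, e⟩ := (h.2 j hj).1.2 c hc
    exact ⟨d, hd, Nat.eq_of_beq_eq_true e⟩
  · intro d hd
    obtain ⟨c, hc, e⟩ := (h.2 j hj).2 d hd
    exact ⟨c, hc, Nat.eq_of_beq_eq_true e⟩

theorem tEl_real (i : Fin 2) : Real ω (tEl hω hF i) (tM i) := kWord_real_of_ok hω hF (t_checks i).1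

theorem tEl_mem (i : Fin 2) : tEl hω hF i ∈ Stab hω hF :=
  ⟨kWord_mem hω hF _, by rw [(tEl_real hω hF i).app_dec hω, (t_checks i).2.1]⟩

/-- The group generated by the two generators. -/
noncomputable def Tgen : Subgroup (GS F) := Subgroup.closure (Set.range (tEl hω hF))

theorem Tgen_le : Tgen hω hF ≤ Stab hω hF :=
  (Subgroup.closure_le _).2 (by rintro _ ⟨i, rfl⟩; exact tEl_mem hω hF i)

/-- The product of a word in the generators. -/
noncomputable def tWord : List ℕ → GS F
  | [] => 1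
  | i :: w => tEl hω hF ⟨i % 2, Nat.mod_lt _ (by norm_num)⟩ * tWord w

theorem tWord_mem : ∀ w, tWord hω hF w ∈ Tgen hω hF
  | [] => one_mem _
  | _ :: w => mul_mem (Subgroup.subset_closure ⟨_, rfl⟩) (tWord_mem w)

theorem tWord_append : ∀ a b, tWord hω hF (a ++ b) = tWord hω hF a * tWord hω hF b
  | [], _ => (one_mul _).symm
  | i :: a, b => by rw [List.cons_append, tWord, tWord, tWord_append a b, mul_assoc]

theorem tWord_real : ∀ {w : List ℕ}, (∀ i ∈ w, i < 2) → Real ω (tWord hω hF w) (wordM tMats w)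
  | [], _ => (mdec_idM hω).symm
  | i :: w, h => by
    have hi : i < 2 := h i (List.mem_cons_self ..)
    have e := tEl_real hω hF ⟨i % 2, Nat.mod_lt _ (by norm_num)⟩
    show mat (tEl hω hF _) * mat (tWord hω hF w) = mdec ω (mulM _ _)
    rw [mdec_mulM hω _ (wordM_length _ w), tWord_real (fun j hj => h j (List.mem_cons_of_mem _ hj)), e]
    simp only [tM, Nat.mod_eq_of_lt hi]

/-- A block of vectors. -/
def Bl (ω : F) (j : Fin 6) : Set (Fin 6 → F) := vdec ω '' {c | c ∈ blk j}

theorem blk_checks (j : Fin 6) : (∀ c ∈ blk j, c < 4096) ∧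
    ∀ k : Fin 6, k ≠ j → (blk j).getD 0 0 ∉ blk k := by
  have h := of_range blkOK_true j.2
  simp only [Bool.and_eq_true, List.all_eq_true, List.mem_range, Bool.or_eq_true, Bool.not_eq_true',
    List.any_eq_false] at h
  refine ⟨fun c hc => Nat.blt_eq.mp (h.1 c hc), fun k hk hmem => ?_⟩
  rcases h.2 k k.2 with e | e
  · exact hk (Fin.ext (Nat.eq_of_beq_eq_true e).symm)
  · exact e _ hmem (Nat.beq_refl _)

theorem blk_head (j : Fin 6) : (blk j).getD 0 0 ∈ blk j := by
  have h : ∀ j : Fin 6, 0 < (blk j).length := by decide +kernel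
  rw [List.getD_eq_getElem _ _ (h j)]
  exact List.getElem_mem _

include hω in
theorem Bl_injective : Function.Injective (Bl ω) := by
  intro j k e
  by_contra hne
  have h : vdec ω ((blk j).getD 0 0) ∈ Bl ω k := e ▸ ⟨_, blk_head j, rfl⟩
  obtain ⟨c, hc, e'⟩ := h
  have := vdec_inj hω ((blk_checks k).1 c hc) ((blk_checks j).1 _ (blk_head j)) e'
  exact (blk_checks j).2 k (Ne.symm hne) (this ▸ hc)

theorem app_Bl (i : Fin 2) (j : Fin 6) : app (tEl hω hF i) '' Bl ω j =
    Bl ω ⟨sigV i j, ((t_checks i).2.2 j j.2).1⟩ := by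
  obtain ⟨-, h1, h2⟩ := (t_checks i).2.2 j j.2
  ext v
  constructor
  · rintro ⟨_, ⟨c, hc, rfl⟩, rfl⟩
    obtain ⟨d, hd, e⟩ := h1 c hc
    exact ⟨d, hd, by rw [(tEl_real hω hF i).app_dec hω, e]⟩
  · rintro ⟨d, hd, rfl⟩
    obtain ⟨c, hc, e⟩ := h2 d hd
    exact ⟨_, ⟨c, hc, rfl⟩, by rw [(tEl_real hω hF i).app_dec hω, e]⟩

theorem exists_blk {g : GS F} (hg : g ∈ Tgen hω hF) : ∀ j, ∃ k, app g '' Bl ω j = Bl ω k := by
  induction hg using Subgroup.closure_induction with
  | mem g hg => obtain ⟨i, rfl⟩ := hg; exact fun j => ⟨_, app_Bl hω hF i j⟩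
  | one => intro j; exact ⟨j, by simp [app_one]⟩
  | mul g h _ _ ihg ihh =>
    intro j
    obtain ⟨k, hk⟩ := ihh j
    obtain ⟨l, hl⟩ := ihg k
    exact ⟨l, by rw [← hl, ← hk, Set.image_image]; simp [app_mul]⟩
  | inv g _ ih =>
    choose f hf using ih
    have hinj : Function.Injective f := fun a b e => Bl_injective hω
      ((Set.image_injective.2 (app_injective g)) (by rw [hf, hf, e]))
    intro j
    obtain ⟨k, rfl⟩ := Finite.surjective_of_injective hinj j
    exact ⟨k, by rw [← hf, Set.image_image]; simp only [app_inv, Set.image_id']⟩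

/-- The image of a block. -/
noncomputable def blkMap (g : Tgen hω hF) (j : Fin 6) : Fin 6 := (exists_blk hω hF g.2 j).choose

theorem blkMap_spec (g : Tgen hω hF) (j : Fin 6) : app (g : GS F) '' Bl ω j = Bl ω (blkMap hω hF g j) :=
  (exists_blk hω hF g.2 j).choose_spec

theorem blkMap_mul (g h : Tgen hω hF) (j : Fin 6) :
    blkMap hω hF (g * h) j = blkMap hω hF g (blkMap hω hF h j) := by
  refine Bl_injective hω ?_
  rw [← blkMap_spec, ← blkMap_spec, ← blkMap_spec, Set.image_image]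
  simp [app_mul]

theorem blkMap_one (j : Fin 6) : blkMap hω hF 1 j = j := by
  refine Bl_injective hω ?_
  rw [← blkMap_spec]
  simp [app_one]

/-- The action on the blocks. -/
noncomputable def blockHom : Tgen hω hF →* Equiv.Perm (Fin 6) where
  toFun g :=
    { toFun := blkMap hω hF g
      invFun := blkMap hω hF g⁻¹
      left_inv := fun j => by rw [← blkMap_mul, inv_mul_cancel, blkMap_one]
      right_inv := fun j => by rw [← blkMap_mul, mul_inv_cancel, blkMap_one] }
  map_one' := Equiv.ext (blkMap_one hω hF)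
  map_mul' g h := Equiv.ext (blkMap_mul hω hF g h)

theorem blockHom_t (i : Fin 2) (j : Fin 6) :
    ((blockHom hω hF ⟨tEl hω hF i, Subgroup.subset_closure ⟨i, rfl⟩⟩ j : Fin 6) : ℕ) = sigV i j := by
  show ((blkMap hω hF _ j : Fin 6) : ℕ) = _
  have h := (blkMap_spec hω hF ⟨tEl hω hF i, Subgroup.subset_closure ⟨i, rfl⟩⟩ j).symm.trans
    (app_Bl hω hF i j)
  rw [Bl_injective hω h]

/-- The permutation of a word. -/
theorem blockHom_word : ∀ {w : List ℕ}, (∀ i ∈ w, i < 2) → ∀ j : Fin 6,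
    ((blockHom hω hF ⟨tWord hω hF w, tWord_mem hω hF w⟩ j : Fin 6) : ℕ) = permW w j
  | [], _, j => by
    have : (⟨tWord hω hF [], tWord_mem hω hF []⟩ : Tgen hω hF) = 1 := rfl
    rw [this, map_one]
    rfl
  | i :: w, h, j => by
    have hi : i < 2 := h i (List.mem_cons_self ..)
    have e : (⟨tWord hω hF (i :: w), tWord_mem hω hF (i :: w)⟩ : Tgen hω hF) =
        ⟨tEl hω hF ⟨i % 2, Nat.mod_lt _ (by norm_num)⟩, Subgroup.subset_closure ⟨_, rfl⟩⟩ *
          ⟨tWord hω hF w, tWord_mem hω hF w⟩ := rfl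
    rw [e, map_mul, Equiv.Perm.mul_apply, blockHom_t,
      blockHom_word (fun k hk => h k (List.mem_cons_of_mem _ hk))]
    simp only [permW, Nat.mod_eq_of_lt hi]

theorem blockHom_sign (g : Tgen hω hF) : Equiv.Perm.sign (blockHom hω hF g) = 1 := by
  obtain ⟨g, hg⟩ := g
  have hs : ∀ i : Fin 2, ∀ σ : Equiv.Perm (Fin 6), (∀ j : Fin 6, ((σ j : Fin 6) : ℕ) = sigV i j) →
      Equiv.Perm.sign σ = 1 := by
    decide +kernel
  induction hg using Subgroup.closure_induction with
  | mem x hx => obtain ⟨i, rfl⟩ := hx; exact hs i _ (blockHom_t hω hF i)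
  | one => exact (congrArg _ (map_one (blockHom hω hF))).trans (map_one _)
  | mul x y hx hy ihx ihy =>
    rw [show (⟨x * y, mul_mem hx hy⟩ : Tgen hω hF) = ⟨x, hx⟩ * ⟨y, hy⟩ from rfl, map_mul, map_mul, ihx,
      ihy, one_mul]
  | inv x hx ih =>
    rw [show (⟨x⁻¹, inv_mem hx⟩ : Tgen hω hF) = ⟨x, hx⟩⁻¹ from rfl, map_inv, map_inv, ih, inv_one]

theorem card_checks : (∀ w ∈ trProds, ∀ i ∈ w, i < 2) ∧ (trProds.map permCode).Nodup ∧
    trProds.length = 360 ∧ (∀ w ∈ nProds, (∀ i ∈ w, i < 2) ∧ ∀ j < 6, permW w j = j) ∧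
    nProds.length = 16 ∧ (nProds.map fun w => matNum (wordM tMats w)).Nodup := by
  have h := cardOK_true
  simp only [cardOK, Bool.and_eq_true, List.all_eq_true, List.mem_range] at h
  refine ⟨fun w hw i hi => Nat.blt_eq.mp (h.1.1.1.1.1 w hw i hi), distinct_nodup h.1.1.1.2,
    Nat.eq_of_beq_eq_true h.1.1.1.1.2,
    fun w hw => ⟨fun i hi => Nat.blt_eq.mp ((h.1.1.2 w hw).1 i hi),
      fun j hj => Nat.eq_of_beq_eq_true ((h.1.1.2 w hw).2 j hj)⟩,
    Nat.eq_of_beq_eq_true h.1.2, distinct_nodup h.2⟩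

theorem card_range_ge : 360 ≤ Nat.card (blockHom hω hF).range := by
  obtain ⟨hw, hnd, hlen, -⟩ := card_checks
  let f : Fin trProds.length → (blockHom hω hF).range := fun a =>
    ⟨_, ⟨⟨tWord hω hF (trProds.get a), tWord_mem hω hF _⟩, rfl⟩⟩
  have hf : Function.Injective f := by
    intro a b e
    have e' := congrArg Subtype.val e
    refine List.nodup_iff_injective_get.1 (hnd.of_map _) ?_
    refine List.inj_on_of_nodup_map hnd (List.get_mem _ _) (List.get_mem _ _) ?_
    refine congrArg List.sum (List.map_congr_left fun j hj => ?_)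
    have hj6 : j < 6 := List.mem_range.1 hj
    rw [← blockHom_word hω hF (hw _ (List.get_mem _ _)) ⟨j, hj6⟩,
      ← blockHom_word hω hF (hw _ (List.get_mem _ _)) ⟨j, hj6⟩]
    exact congrArg (fun σ : Equiv.Perm (Fin 6) => ((σ ⟨j, hj6⟩ : Fin 6) : ℕ) * 8 ^ j) e'
  have := Nat.card_le_card_of_injective f hf
  rwa [Nat.card_fin, hlen] at this

/-- A vector code in the long orbit. -/
theorem orbV_mem : ∀ i, i < 1701 → ∃ g ∈ Kb hω hF 0, app g (sVec ω) = vdec ω (orbV i) := by
  intro i
  induction i using Nat.strong_induction_on with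
  | _ i ih =>
    intro hi
    have h := of_range orbit_ok hi
    simp only [orbStep, Bool.and_eq_true] at h
    obtain ⟨-, h⟩ := h
    by_cases h0 : i = 0
    · rw [if_pos h0] at h
      exact ⟨1, one_mem _, by rw [app_one, Nat.eq_of_beq_eq_true h]⟩
    · rw [if_neg h0] at h
      simp only [Bool.and_eq_true] at h
      have hp : orbU i / 2 < i := Nat.blt_eq.mp h.1
      obtain ⟨g, hg, e⟩ := ih _ hp (by omega)
      refine ⟨kEl hω hF ⟨orbU i % 2, Nat.mod_lt _ (by norm_num)⟩ * g, mul_mem (kEl_mem hω hF _) hg, ?_⟩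
      rw [app_mul, e, (kEl_real hω hF _).app_dec hω, Nat.eq_of_beq_eq_true h.2]

theorem card_Stab_le : Nat.card (Stab hω hF) ≤ 5760 := by
  choose r hr hre using fun i : Fin 1701 => orbV_mem hω hF i i.2
  let f : Fin 1701 × Stab hω hF → Kb hω hF 0 := fun p => ⟨r p.1 * p.2, mul_mem (hr _) p.2.2.1⟩
  have hf : Function.Injective f := by
    rintro ⟨a, x⟩ ⟨b, y⟩ e
    have e' : r a * (x : GS F) = r b * y := congrArg Subtype.val e
    have hv := congrArg (fun g => app g (sVec ω)) e'
    simp only [app_mul, x.2.2, y.2.2, hre] at hv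
    have hlt : ∀ i : Fin 1701, orbV i < 4096 := fun i => Nat.mod_lt _ (by norm_num)
    have hv' := vdec_inj hω (hlt a) (hlt b) hv
    have hpos : ∀ i : Fin 1701, orbP (orbV i) = i + 1 := fun i => by
      have h := of_range orbit_ok i.2
      simp only [orbStep, Bool.and_eq_true] at h
      exact Nat.eq_of_beq_eq_true h.1
    have hab : a = b := by
      have h1 := hpos a
      rw [hv', hpos b] at h1
      exact Fin.ext (by omega)
    subst hab
    exact Prod.ext rfl (Subtype.ext (mul_left_cancel e'))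
  have h := Nat.card_le_card_of_injective f hf
  rw [Nat.card_prod, Nat.card_fin, card_Kb] at h
  omega

/-- A generator of the normal subgroup. -/
noncomputable def nEl (i : Fin 4) : GS F := tWord hω hF (nWords.getD i [])

/-- The normal subgroup of order sixteen. -/
noncomputable def Nsub : Subgroup (GS F) := Subgroup.closure (Set.range (nEl hω hF))

theorem n_checks (i : Fin 4) : (∀ j ∈ nWords.getD i [], j < 2) ∧
    wordM tMats (nWords.getD i []) = nM i ∧ (∀ j < 6, permW (nWords.getD i []) j = j) ∧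
    mulV (nM i) svec = svec ∧
    ∀ j : Fin 4, mulV (nM i) (bVecs.getD j 0) =
      Nat.xor (bVecs.getD j 0) (if (i : ℕ) = j then svec else 0) := by
  have h := of_range nOK_true i.2
  simp only [Bool.and_eq_true, List.all_eq_true, List.mem_range] at h
  exact ⟨fun j hj => Nat.blt_eq.mp (h.1.1.1.1 j hj), eq_of_beq h.1.1.1.2,
    fun j hj => Nat.eq_of_beq_eq_true (h.1.1.2 j hj), Nat.eq_of_beq_eq_true h.1.2,
    fun j => Nat.eq_of_beq_eq_true (h.2 j j.2)⟩

theorem nEl_real (i : Fin 4) : Real ω (nEl hω hF i) (nM i) :=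
  (n_checks i).2.1 ▸ tWord_real hω hF (n_checks i).1

theorem Nsub_le_Tgen : Nsub hω hF ≤ Tgen hω hF :=
  (Subgroup.closure_le _).2 (by rintro _ ⟨i, rfl⟩; exact tWord_mem hω hF _)

theorem Nsub_le_ker : (Nsub hω hF).subgroupOf (Tgen hω hF) ≤ (blockHom hω hF).ker := by
  have h : Nsub hω hF ≤ (blockHom hω hF).ker.map (Tgen hω hF).subtype := by
    refine (Subgroup.closure_le _).2 ?_
    rintro _ ⟨i, rfl⟩
    refine ⟨⟨_, tWord_mem hω hF _⟩, ?_, rfl⟩
    refine Equiv.ext fun j => Fin.ext ?_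
    rw [blockHom_word hω hF (n_checks i).1, (n_checks i).2.2.1 j j.2]
    rfl
  intro x hx
  obtain ⟨y, hy, e⟩ := h hx
  exact Subtype.ext e ▸ hy

theorem nProd_mem (e : ℕ) (L : List ℕ) (hL : ∀ i ∈ L, i < 4) :
    tWord hω hF (L.foldr (fun i w => if e.testBit i then nWords.getD i [] ++ w else w) []) ∈ Nsub hω hF := by
  induction L with
  | nil => exact one_mem _
  | cons i L ih =>
    rw [List.foldr_cons]
    have ih' := ih fun j hj => hL j (List.mem_cons_of_mem _ hj)
    split
    · rw [tWord_append]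
      exact mul_mem (Subgroup.subset_closure ⟨⟨i, hL i (List.mem_cons_self ..)⟩, rfl⟩) ih'
    · exact ih'

theorem card_Nsub_ge : 16 ≤ Nat.card (Nsub hω hF) := by
  obtain ⟨-, -, -, hw, hlen, hnd⟩ := card_checks
  have hmem : ∀ w ∈ nProds, tWord hω hF w ∈ Nsub hω hF := by
    intro w hw'
    obtain ⟨e, -, rfl⟩ := List.mem_map.1 hw'
    exact nProd_mem hω hF e _ fun i hi => List.mem_range.1 hi
  let f : Fin nProds.length → Nsub hω hF := fun a => ⟨tWord hω hF (nProds.get a), hmem _ (List.get_mem _ _)⟩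
  have hf : Function.Injective f := by
    intro a b e
    have e' := congrArg (fun x : Nsub hω hF => mat (x : GS F)) e
    refine List.nodup_iff_injective_get.1 (hnd.of_map _) ?_
    refine List.inj_on_of_nodup_map hnd (List.get_mem _ _) (List.get_mem _ _) ?_
    refine congrArg matNum ?_
    simp only [f] at e'
    rw [tWord_real hω hF (hw _ (List.get_mem _ _)).1, tWord_real hω hF (hw _ (List.get_mem _ _)).1] at e'
    have hl := fun w => wordM_length tMats w
    have hlt : ∀ w, ∀ c ∈ wordM tMats w, c < 4096 := by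
      intro w
      induction w with
      | nil => decide
      | cons i w _ =>
        intro c hc
        obtain ⟨d, -, rfl⟩ := List.mem_map.1 hc
        exact mulV_lt _ _
    refine List.ext_getElem (by rw [hl, hl]) fun c h1 h2 => ?_
    have hc : c < 6 := hl _ ▸ h1
    have h3 : vdec ω (colM (wordM tMats (nProds.get a)) c) =
        vdec ω (colM (wordM tMats (nProds.get b)) c) := funext fun r => congrFun (congrFun e' r) ⟨c, hc⟩
    simp only [colM, List.getD_eq_getElem _ _ h1, List.getD_eq_getElem _ _ h2] at h3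
    exact vdec_inj hω (hlt _ _ (List.getElem_mem _)) (hlt _ _ (List.getElem_mem _)) h3
  have := Nat.card_le_card_of_injective f hf
  rwa [Nat.card_fin, hlen] at this

/-- Orders. -/
theorem structure_Tgen : Tgen hω hF = Stab hω hF ∧ Nat.card (Stab hω hF) = 5760 ∧
    Nat.card (Nsub hω hF) = 16 ∧ (blockHom hω hF).range = alternatingGroup (Fin 6) ∧
    (blockHom hω hF).ker = (Nsub hω hF).subgroupOf (Tgen hω hF) := by
  have hle : (blockHom hω hF).range ≤ alternatingGroup (Fin 6) := by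
    rintro _ ⟨g, rfl⟩
    exact Equiv.Perm.mem_alternatingGroup.2 (blockHom_sign hω hF g)
  have hA : Nat.card (alternatingGroup (Fin 6)) = 360 := by
    rw [nat_card_alternatingGroup, Nat.card_eq_fintype_card]; rfl
  have hr := card_range_ge hω hF
  have hrange : (blockHom hω hF).range = alternatingGroup (Fin 6) :=
    Subgroup.eq_of_le_of_card_ge hle (hA ▸ hr)
  have hk : 16 ≤ Nat.card (blockHom hω hF).ker := by
    refine (card_Nsub_ge hω hF).trans ?_
    rw [← Nat.card_congr (Subgroup.subgroupOfEquivOfLe (Nsub_le_Tgen hω hF)).toEquiv]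
    exact Subgroup.card_le_of_le (Nsub_le_ker hω hF)
  have hmul := (blockHom hω hF).ker.card_mul_index
  rw [Subgroup.index_ker, hrange, hA] at hmul
  have hT := Subgroup.card_le_of_le (Tgen_le hω hF)
  have hS := card_Stab_le hω hF
  have hker : Nat.card (blockHom hω hF).ker = 16 := by omega
  have hN : Nat.card (Nsub hω hF) = 16 := le_antisymm (by
    rw [← Nat.card_congr (Subgroup.subgroupOfEquivOfLe (Nsub_le_Tgen hω hF)).toEquiv, ← hker]
    exact Subgroup.card_le_of_le (Nsub_le_ker hω hF)) (card_Nsub_ge hω hF)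
  refine ⟨Subgroup.eq_of_le_of_card_ge (Tgen_le hω hF) (by omega), by omega, hN, hrange,
    (Subgroup.eq_of_le_of_card_ge (Nsub_le_ker hω hF) ?_).symm⟩
  rw [hker, Nat.card_congr (Subgroup.subgroupOfEquivOfLe (Nsub_le_Tgen hω hF)).toEquiv, hN]

theorem card_Stab : Nat.card (Stab hω hF) = 5760 := (structure_Tgen hω hF).2.1

theorem card_Nsub : Nat.card (Nsub hω hF) = 16 := (structure_Tgen hω hF).2.2.1

theorem Tgen_eq : Tgen hω hF = Stab hω hF := (structure_Tgen hω hF).1

theorem Nsub_le : Nsub hω hF ≤ Stab hω hF := (Nsub_le_Tgen hω hF).trans (Tgen_le hω hF)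

/-- The stabiliser maps onto the alternating group of degree six with kernel the normal subgroup. -/
theorem exists_hom : ∃ φ : Stab hω hF →* alternatingGroup (Fin 6), Function.Surjective φ ∧
    φ.ker = (Nsub hω hF).subgroupOf (Stab hω hF) := by
  obtain ⟨hT, -, -, hr, hk⟩ := structure_Tgen hω hF
  let ψ : Tgen hω hF →* alternatingGroup (Fin 6) :=
    (blockHom hω hF).codRestrict _ fun g => hr ▸ ⟨g, rfl⟩
  refine ⟨ψ.comp (MulEquiv.subgroupCongr hT.symm).toMonoidHom, ?_, ?_⟩
  · rintro ⟨σ, hσ⟩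
    obtain ⟨g, hg⟩ := (show σ ∈ (blockHom hω hF).range from hr ▸ hσ)
    exact ⟨MulEquiv.subgroupCongr hT g, Subtype.ext hg⟩
  · ext x
    have : x ∈ (ψ.comp (MulEquiv.subgroupCongr hT.symm).toMonoidHom).ker ↔
        (⟨(x : GS F), hT.symm ▸ x.2⟩ : Tgen hω hF) ∈ (blockHom hω hF).ker := by
      rw [MonoidHom.mem_ker, MonoidHom.mem_ker]
      exact Subtype.ext_iff
    rw [this, hk]
    rfl

theorem isSimpleGroup_A6 : IsSimpleGroup (alternatingGroup (Fin 6)) :=
  alternatingGroup.isSimpleGroup (by simp)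

theorem Nsub_normal : ((Nsub hω hF).subgroupOf (Stab hω hF)).Normal := by
  obtain ⟨φ, -, hk⟩ := exists_hom hω hF
  exact hk ▸ φ.normal_ker

/-- The largest normal `2`-subgroup of the stabiliser. -/
theorem le_Nsub {S : Subgroup (GS F)} (hS : S ≤ Stab hω hF) (h2 : IsPGroup 2 S)
    (hn : ∀ g ∈ Stab hω hF, ∀ x ∈ S, g * x * g⁻¹ ∈ S) : S ≤ Nsub hω hF := by
  obtain ⟨φ, hφ, hk⟩ := exists_hom hω hF
  haveI := isSimpleGroup_A6
  haveI : (S.subgroupOf (Stab hω hF)).Normal := ⟨fun x hx g => hn g g.2 x hx⟩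
  rcases ((Subgroup.Normal.map (inferInstance : (S.subgroupOf (Stab hω hF)).Normal) φ hφ).eq_bot_or_eq_top)
    with h | h
  · intro x hx
    have : (⟨x, hS hx⟩ : Stab hω hF) ∈ φ.ker :=
      ((Subgroup.map_eq_bot_iff _).1 h) (Subgroup.mem_subgroupOf.2 hx)
    rw [hk] at this
    exact this
  · exfalso
    have hp : IsPGroup 2 ((S.subgroupOf (Stab hω hF)).map φ) :=
      (h2.of_equiv (Subgroup.subgroupOfEquivOfLe hS).symm).map φ
    obtain ⟨k, hk2⟩ := IsPGroup.iff_card.1 hp
    rw [h, Subgroup.card_top, nat_card_alternatingGroup, Nat.card_eq_fintype_card] at hk2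
    have h3 : 3 ∣ 2 ^ k := ⟨120, hk2.symm.trans (by rfl)⟩
    exact absurd (Nat.prime_three.dvd_of_dvd_pow h3) (by norm_num)

end CfsgLib.Trans3.FischerType
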