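import Cfsg.Agent.Lib.Trans3.FischerType.ModelBasic
import Cfsg.Agent.Lib.Trans3.FischerType.StabData

/-!
Kernel checks on the stabiliser of a vector of the long orbit.
-/

set_option autoImplicit false
set_option maxRecDepth 100000
set_option Elab.async false

namespace CfsgLib.Trans3.FischerType

open CfsgLib.Chev.U43U6

/-- The code of one of the two generators of the stabiliser. -/
def tM (i : ℕ) : List ℕ := tMats.getD i []

/-- The code of one of the four generators of the normal subgroup. -/
def nM (i : ℕ) : List ℕ := nMats.getD i []

/-- A block. -/
def blk (j : ℕ) : List ℕ := blkTab.getD j []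

/-- The image of a block under a generator. -/
def sigV (i j : ℕ) : ℕ := (sigTab.getD i []).getD j 0

/-- The image of a block under a word. -/
def permW : List ℕ → ℕ → ℕ
  | [], j => j
  | i :: w, j => sigV i (permW w j)

/-- The code of the permutation of a word. -/
def permCode (w : List ℕ) : ℕ := ((List.range 6).map fun j => permW w j * 8 ^ j).sum

/-- The products of transversal words. -/
def trProds : List (List ℕ) :=
  (trWords.getD 0 []).flatMap fun a => (trWords.getD 1 []).flatMap fun b =>
    (trWords.getD 2 []).flatMap fun c => (trWords.getD 3 []).map fun d => a ++ b ++ c ++ d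

/-- The products of subsets of the four generators. -/
def nProds : List (List ℕ) :=
  (List.range 16).map fun e => (List.range 4).foldr (fun i w => if e.testBit i then nWords.getD i [] ++ w else w) []

/-- A number for a matrix code. -/
def matNum (m : List ℕ) : ℕ := m.foldl (fun a c => a * 4096 + c) 0

/-- The span of some vector codes. -/
def spanL : List ℕ → List ℕ
  | [] => [0]
  | v :: L => (spanL L).flatMap fun c => [c, Nat.xor v c]

/-- The vectors moved by the normal subgroup only along the vector. -/
def sdL : List ℕ := spanL (svec :: sclV 2 svec :: bVecs)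

/-- A basis. -/
def basV : List ℕ := svec :: bVecs ++ [1]

/-- The coordinates of the standard basis in it. -/
def stdCo : List ℕ := [1024, 1028, 1040, 1045, 384, 448]

/-- A linear combination. -/
def combV (c : ℕ) : ℕ :=
  (List.range 6).foldr (fun i r => Nat.xor (sclV (crd c i) (basV.getD i 0)) r) 0

/-- The generators of the stabiliser. -/
def tOK : Bool :=
  (List.range 2).all fun i => wordOK (tWords.getD i []) (tM i) && Nat.beq (mulV (tM i) svec) svec &&
    (List.range 6).all fun j => Nat.blt (sigV i j) 6 &&
      ((blk j).all fun c => (blk (sigV i j)).any (Nat.beq (mulV (tM i) c))) &&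
      ((blk (sigV i j)).all fun d => (blk j).any fun c => Nat.beq (mulV (tM i) c) d)

/-- The blocks. -/
def blkOK : Bool :=
  (List.range 6).all fun j => (blk j).all (fun c => Nat.blt c 4096) &&
    (List.range 6).all fun k => Nat.beq j k || !(blk k).any (Nat.beq ((blk j).getD 0 0))

/-- The transversals and the sixteen products. -/
def cardOK : Bool :=
  (trProds.all fun w => w.all fun i => Nat.blt i 2) && Nat.beq trProds.length 360 &&
  distinct (trProds.map permCode) &&
  (nProds.all fun w => (w.all fun i => Nat.blt i 2) && (List.range 6).all fun j => Nat.beq (permW w j) j) &&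
  Nat.beq nProds.length 16 && distinct (nProds.map fun w => matNum (wordM tMats w))

/-- The four generators of the normal subgroup. -/
def nOK : Bool :=
  (List.range 4).all fun i => ((nWords.getD i []).all fun j => Nat.blt j 2) &&
    (wordM tMats (nWords.getD i []) == nM i) &&
    ((List.range 6).all fun j => Nat.beq (permW (nWords.getD i []) j) j) &&
    (Nat.beq (mulV (nM i) svec) svec) &&
    (List.range 4).all fun j => Nat.beq (mulV (nM i) (bVecs.getD j 0))
      (Nat.xor (bVecs.getD j 0) (if i = j then svec else 0))

/-- The vectors moved only along the vector. -/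
def sdOK : Bool :=
  ((List.range 4096).all fun c => !((List.range 4).all fun i =>
      Nat.beq (mulV (nM i) c) c || Nat.beq (mulV (nM i) c) (Nat.xor c svec)) || sdL.any (Nat.beq c)) &&
  ((List.range 6).all fun j => Nat.beq (combV (stdCo.getD j 0)) (colM idM j)) &&
  ((List.range 4).all fun j => Nat.beq (herm (bVecs.getD j 0) svec) 0) &&
  Nat.beq (herm svec svec) 0 && Nat.beq (herm 1 svec) 1

/-- The transvection moves a frame off the frames of the subgroup. -/
def tvOK : Bool :=
  let m := mulM tvMat (mulM ((kMat 0).getD 0 []) tvMat)
  isSU tvMat && Nat.beq (mulV tvMat svec) svec &&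
  ((List.range 4).all fun j => Nat.beq (mulV tvMat (bVecs.getD j 0)) (bVecs.getD j 0)) &&
  Nat.beq (mulV tvMat 1) (Nat.xor 1 svec) &&
  !((kMasks 0).any (Nat.beq (mask (baseFr.map (imgP m)))))

/-- A vector of the long orbit. -/
def orbV (i : ℕ) : ℕ := Nat.shiftRight orbTab (12 * i) % 4096

/-- The position in the long orbit, plus one. -/
def orbP (c : ℕ) : ℕ := Nat.shiftRight orbPos (11 * c) % 2048

/-- Twice the parent plus the generator. -/
def orbU (i : ℕ) : ℕ := Nat.shiftRight orbPar (12 * i) % 4096

/-- A step of the long orbit. -/
def orbStep (i : ℕ) : Bool :=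
  Nat.beq (orbP (orbV i)) (i + 1) &&
    (if i = 0 then Nat.beq (orbV i) svec
      else Nat.blt (orbU i / 2) i &&
        Nat.beq (mulV ((kMat 0).getD (orbU i % 2) []) (orbV (orbU i / 2))) (orbV i))

theorem tOK_true : tOK = true := by decide +kernel

theorem blkOK_true : blkOK = true := by decide +kernel

theorem cardOK_true : cardOK = true := by decide +kernel

theorem nOK_true : nOK = true := by decide +kernel

theorem sdOK_true : sdOK = true := by decide +kernel

theorem tvOK_true : tvOK = true := by decide +kernel

theorem orbit_ok : ((List.range 1701).all orbStep) = true := by decide +kernel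

end CfsgLib.Trans3.FischerType
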