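import Cfsg.Agent.Lib.Trans3.FiLarge.BigConj
import Cfsg.Agent.Lib.Trans3.FischerType.PairStructure

/-!
The two stabiliser theorems, from coordinates with cover number `0`.
-/

set_option autoImplicit false
set_option linter.unusedSectionVars false

namespace CfsgLib.Trans3.FischerType

open CfsgLib.Trans3.FiLarge

/-- The stabiliser of a noncentral involution. -/
theorem small_stabiliser {G : Type*} [Group G] [Finite G] (z : G) (Q : Subgroup (Subgroup.centralizer ({z} : Set G))) [Q.Normal] (hF : Cfsg.IsOfLargeFischerTypeAt z Q)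
    (c : Coord z Q) (hb : c.b = 0) (t : Subgroup.centralizer ({z} : Set G)) (htQ : t ∈ Q) (ht2 : orderOf t = 2) (ht : ¬ IsConj z (t : G)) (S : Subgroup (Subgroup.centralizer ({z} : Set G))) (hS : ∀ h : Subgroup.centralizer ({z} : Set G), h ∈ S ↔ (h * t * h⁻¹ = t ∨ ((h * t * h⁻¹ : Subgroup.centralizer ({z} : Set G)) : G) = t * z)) : Nonempty (↥(S.map (QuotientGroup.mk' Q)) ≃* Cfsg.isometryGroup (ZMod 2) (Cfsg.quadFormMinus 2 (ZMod 2) 1 1)) := by
  obtain ⟨⟨-, -, -, -, g, ⟨hq, hqQ⟩, hgne⟩, -⟩ := id hF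
  have hconj : IsConj z (g * z * g⁻¹) := isConj_iff.2 ⟨g, rfl⟩
  have hbig := inBig_of_conj hF c hqQ hgne hconj
  exact SmallStab.iso_of_coord c htQ ht2 ht
    (fun h hh => SmallStab.semi_two c fun q hq' r hr a e => outer_semi hF c hb hqQ hbig hconj hh hq' hr e)
    (fun u hu _ hne hbu => (big_iff_conj hF c hu hne).1 hbu) S hS

/-- The stabiliser of a conjugate of `z`. -/
theorem conjugate_stabiliser {G : Type*} [Group G] [Finite G] (z : G) (Q : Subgroup (Subgroup.centralizer ({z} : Set G))) [Q.Normal] (hF : Cfsg.IsOfLargeFischerTypeAt z Q)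
    (c : Coord z Q) (hb : c.b = 0) (s : G) (hsQ : ∃ hsc : s ∈ Subgroup.centralizer ({z} : Set G), (⟨s, hsc⟩ : Subgroup.centralizer ({z} : Set G)) ∈ Q) (hs : IsConj z s) (hs1 : s ≠ z) (g : G) (hg : g * z * g⁻¹ = s) (X E : Subgroup ((Subgroup.centralizer ({z} : Set G)) ⧸ Q)) (hX : X = ((Subgroup.centralizer ({z} : Set G) ⊓ Subgroup.centralizer ({s} : Set G)).subgroupOf (Subgroup.centralizer ({z} : Set G))).map (QuotientGroup.mk' Q)) (hE : E = ((((Q.map (Subgroup.centralizer ({z} : Set G)).subtype)).map (MulAut.conj g).toMonoidHom ⊓ Subgroup.centralizer ({z} : Set G)).subgroupOf (Subgroup.centralizer ({z} : Set G))).map (QuotientGroup.mk' Q)) : Cfsg.IsElementaryAbelian 2 ((Q.map (Subgroup.centralizer ({z} : Set G)).subtype) ⊓ ((Q.map (Subgroup.centralizer ({z} : Set G)).subtype)).map (MulAut.conj g).toMonoidHom) ∧ Nat.card ↥((Q.map (Subgroup.centralizer ({z} : Set G)).subtype) ⊓ ((Q.map (Subgroup.centralizer ({z} : Set G)).subtype)).map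 (MulAut.conj g).toMonoidHom) = 2 ^ 7 ∧ E ≤ X ∧ (∀ x ∈ X, ∀ y ∈ E, x * y * x⁻¹ ∈ E) ∧ Cfsg.IsElementaryAbelian 2 E ∧ Nat.card E = 32 ∧ ∃ _ : (E.subgroupOf X).Normal, Nonempty (↥X ⧸ E.subgroupOf X ≃* alternatingGroup (Fin 6)) := by
  obtain ⟨hsc, hsQ'⟩ := hsQ
  obtain ⟨c', -, d⟩ := pair_structure hF c hb hsQ' (inBig_of_conj hF c hsQ' hs1 hs) (g := g) hg
  obtain ⟨h1, h2, h3⟩ := d.local_structure
  exact ⟨h1, h2, h3 X E hX hE⟩

end CfsgLib.Trans3.FischerType
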