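import Cfsg.Agent.Lib.Trans3.FischerType.StabChecks
import Cfsg.Agent.Lib.Trans3.FischerType.SylowData

/-!
Kernel checks on a Sylow 2-subgroup of order `128` and its elementary abelian subgroups.
-/

set_option autoImplicit false
set_option maxRecDepth 100000
set_option Elab.async false

namespace CfsgLib.Trans3.FischerType

open CfsgLib.Chev.U43U6

/-- The code of an element. -/
def pE (e : ℕ) : List ℕ := pTab.getD e []

/-- The code of a generator. -/
def pG (i : ℕ) : List ℕ := pMats.getD i []

/-- The position of an involution. -/
def posI (e : ℕ) : ℕ := Nat.shiftRight invPos (8 * e) % 256 - 1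

/-- The index of an involution. -/
def invE (a : ℕ) : ℕ := invTab.getD a 0

/-- The index of the product of two commuting involutions given by positions. -/
def comI (a b : ℕ) : ℕ := Nat.shiftRight comPack (8 * (35 * a + b)) % 256

/-- Two involutions commute. -/
def cmI (a b : ℕ) : Bool := !Nat.beq (comI a b) 255

/-- The masks of the commuting neighbours of the involutions. -/
def nbrTab : List ℕ := [34359738366, 32765, 32763, 32759, 32751, 32212287455, 32212287423, 32639, 32511, 2013298175, 2013297663, 134215679, 134213631, 24575, 16383, 27514574849, 27514542081, 6979164161, 6979033089, 133666817, 133142529, 132093953, 129996801, 125802497, 117413889, 100636673, 67082241, 8321893889, 8187676161, 27246298625, 26709427713, 30467817569, 28320333921, 25233031265, 16643096673]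

/-- The mask of the commuting neighbours. -/
def nbr (a : ℕ) : ℕ := nbrTab.getD a 0

/-- The mask of the involutions of the first subgroup. -/
def maskB : ℕ := 134191105

/-- The mask of the involutions of the second subgroup. -/
def maskN : ℕ := 32767

/-- The number of bits below `35`. -/
def popI (S : ℕ) : ℕ := ((List.range 35).filter fun i => Nat.testBit S i).length

/-- A search for commuting sets of at least fifteen involutions between two sets. -/
def cliqueOK : ℕ → ℕ → ℕ → Bool
  | 0, _, _ => false
  | f + 1, S, C => Nat.blt (popI (Nat.lor S C)) 15 || Nat.beq (Nat.lor S C) maskB ||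
      Nat.beq (Nat.lor S C) maskN ||
      match (List.range 35).find? fun v => Nat.testBit C v with
      | none => false
      | some v => cliqueOK f (Nat.lor S (2 ^ v)) (Nat.land C (nbr v)) && cliqueOK f S (Nat.xor C (2 ^ v))

/-- The generators and the elements. -/
def pOK : Bool :=
  ((List.range 7).all fun i => ((pWords.getD i []).all fun j => Nat.blt j 2) &&
    (wordM tMats (pWords.getD i []) == pG i)) &&
  (pE 0 == idM) && Nat.beq pTab.length 128 && (pTab.all fun m => Nat.beq m.length 6 && m.all fun c => Nat.blt c 4096) &&
  distinct (pTab.map matNum) &&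
  ((List.range 7).all fun i => (List.range (2 ^ i)).all fun e => pE (2 ^ i + e) == mulM (pG i) (pE e)) &&
  ((List.range 7).all fun i => (List.range 128).all fun e => pTab.any (· == mulM (pG i) (pE e)))

/-- The involutions and their commuting products. -/
def invOK : Bool :=
  ((List.range 128).all fun e => if Nat.blt 0 e && (mulM (pE e) (pE e) == idM)
    then Nat.blt (posI e) 35 && Nat.beq (invE (posI e)) e else true) &&
  ((List.range 35).all fun a => Nat.blt 0 (invE a) && Nat.blt (invE a) 128 &&
    Nat.beq (posI (invE a)) a && (mulM (pE (invE a)) (pE (invE a)) == idM) &&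
    (List.range 35).all fun b => if cmI a b
      then Nat.blt (comI a b) 128 && (mulM (pE (invE a)) (pE (invE b)) == pE (comI a b)) &&
        (mulM (pE (invE b)) (pE (invE a)) == pE (comI a b))
      else !(mulM (pE (invE a)) (pE (invE b)) == mulM (pE (invE b)) (pE (invE a))))

/-- The commuting sets of at least fifteen involutions. -/
def searchOK : Bool :=
  ((List.range 35).all fun a => (List.range 35).all fun b =>
    (Nat.testBit (nbr a) b == (cmI a b && !Nat.beq a b))) &&
  ((List.range 35).all fun a => (Nat.testBit maskB a == bIdx.any (Nat.beq (invE a))) &&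
    (Nat.testBit maskN a == nIdx.any (Nat.beq (invE a)))) &&
  cliqueOK 36 0 (2 ^ 35 - 1)

/-- The first subgroup: closed, commutative, of exponent two. -/
def bOK : Bool :=
  bIdx.all (fun a => Nat.blt a 128 && (mulM (pE a) (pE a) == idM) &&
    bIdx.all fun b => (mulM (pE a) (pE b) == mulM (pE b) (pE a)) &&
      bIdx.any fun c => mulM (pE a) (pE b) == pE c) &&
  Nat.beq bIdx.length 16 && distinct bIdx && bIdx.any (Nat.beq 0)

/-- The fixed plane. -/
def wOK : Bool :=
  Nat.beq wTab.length 64 && distinct wTab &&
  (wTab.all fun v => Nat.blt v 4096 && (wTab.all fun u => Nat.beq (herm u v) 0) &&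
    bIdx.all fun e => Nat.beq (mulV (pE e) v) v) &&
  ((List.range 4096).all fun v => !(bIdx.all fun e => Nat.beq (mulV (pE e) v) v) ||
    wTab.any (Nat.beq v)) &&
  (List.range 4096).all fun v => !(nIdx.all fun e => Nat.beq (mulV (pE e) v) v) ||
    [0, 85, 170, 255].any (Nat.beq v)

/-- The normalising elements move the first subgroup transitively. -/
def cOK : Bool :=
  ((List.range 3).all fun k => wordOK (cWords.getD k []) (cMats.getD k []) &&
    bIdx.all fun a => bIdx.any fun b =>
      mulM (cMats.getD k []) (pE a) == mulM (pE b) (cMats.getD k [])) &&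
  ((List.range 15).all fun i => let t := bTree.getD i (0, 0, 0)
    bIdx.any (Nat.beq t.1) &&
    if i = 0 then true else Nat.blt t.2.1 i && Nat.blt t.2.2 3 &&
      (mulM (cMats.getD t.2.2 []) (pE (bTree.getD t.2.1 (0, 0, 0)).1) ==
        mulM (pE t.1) (cMats.getD t.2.2 []))) &&
  bIdx.all fun a => Nat.beq a 0 || bTree.any fun t => Nat.beq t.1 a

theorem pOK_true : pOK = true := by decide +kernel

theorem invOK_true : invOK = true := by decide +kernel

theorem searchOK_true : searchOK = true := by decide +kernel

theorem bOK_true : bOK = true := by decide +kernel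

theorem wOK_true : wOK = true := by decide +kernel

theorem cOK_true : cOK = true := by decide +kernel

end CfsgLib.Trans3.FischerType
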