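import Cfsg.Agent.Lib.Trans3.FischerType.Stab
import Cfsg.Agent.Lib.Trans3.FischerType.SylowChecks
import Cfsg.Prelude.Def_Transfer

/-!
A Sylow 2-subgroup of order `128` of the cover number `0`: its elementary abelian subgroups have order at most
sixteen, and only one of those of order sixteen fixes more than four vectors.
-/

set_option autoImplicit false
set_option linter.unusedSectionVars false
set_option linter.style.haveILetI false
set_option maxRecDepth 100000

namespace CfsgLib.Trans3.FischerType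

open CfsgLib.Chev.U43U6
open Matrix

variable {F : Type*} [Field F] [Fintype F] {ω : F} (hω : IsOmega ω) (hF : Fintype.card F = 4)

theorem p_facts : (∀ i < 7, (∀ j ∈ pWords.getD i [], j < 2) ∧ wordM tMats (pWords.getD i []) = pG i) ∧
    pE 0 = idM ∧ pTab.length = 128 ∧ (∀ m ∈ pTab, m.length = 6 ∧ ∀ c ∈ m, c < 4096) ∧
    (pTab.map matNum).Nodup ∧ (∀ i < 7, ∀ e < 2 ^ i, pE (2 ^ i + e) = mulM (pG i) (pE e)) ∧
    ∀ i < 7, ∀ e < 128, ∃ e' < 128, pE e' = mulM (pG i) (pE e) := by
  have h := pOK_true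
  simp only [pOK, Bool.and_eq_true, List.all_eq_true, List.mem_range, List.any_eq_true, beq_iff_eq] at h
  obtain ⟨⟨⟨⟨⟨⟨h1, h2⟩, h3⟩, h4⟩, h5⟩, h6⟩, h7⟩ := h
  refine ⟨fun i hi => ⟨fun j hj => Nat.blt_eq.mp ((h1 i hi).1 j hj), (h1 i hi).2⟩, h2,
    Nat.eq_of_beq_eq_true h3, fun m hm => ⟨Nat.eq_of_beq_eq_true (h4 m hm).1,
      fun c hc => Nat.blt_eq.mp ((h4 m hm).2 c hc)⟩, distinct_nodup h5, h6, fun i hi e he => ?_⟩
  obtain ⟨m, hm, e'⟩ := h7 i hi e he
  obtain ⟨k, hk, rfl⟩ := List.getElem_of_mem hm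
  have h128 : pTab.length = 128 := Nat.eq_of_beq_eq_true h3
  exact ⟨k, h128 ▸ hk, by rw [pE, List.getD_eq_getElem _ _ hk]; exact e'⟩

theorem pE_mem {e : ℕ} (he : e < 128) : pE e ∈ pTab := by
  have h : e < pTab.length := p_facts.2.2.1.symm ▸ he
  rw [pE, List.getD_eq_getElem _ _ h]; exact List.getElem_mem h

include hω in
theorem code_inj {a b : List ℕ} (la : a.length = 6 ∧ ∀ c ∈ a, c < 4096)
    (lb : b.length = 6 ∧ ∀ c ∈ b, c < 4096) (h : mdec ω a = mdec ω b) : a = b := by
  refine List.ext_getElem (la.1.trans lb.1.symm) fun i h1 h2 =>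
    vdec_inj hω (la.2 _ (List.getElem_mem h1)) (lb.2 _ (List.getElem_mem h2)) (funext fun r => ?_)
  have hr := congrFun (congrFun h r) ⟨i, la.1 ▸ h1⟩
  simp only [mdec, colM, List.getD_eq_getElem _ _ h1, List.getD_eq_getElem _ _ h2] at hr
  exact hr

include hω in
theorem pE_inj {a b : ℕ} (ha : a < 128) (hb : b < 128) {g : GS F} (hga : Real ω g (pE a))
    (hgb : Real ω g (pE b)) : a = b := by
  have e := code_inj hω (p_facts.2.2.2.1 _ (pE_mem ha)) (p_facts.2.2.2.1 _ (pE_mem hb)) (hga.symm.trans hgb)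
  have h1 : a < pTab.length := p_facts.2.2.1.symm ▸ ha
  have h2 : b < pTab.length := p_facts.2.2.1.symm ▸ hb
  rw [pE, pE, List.getD_eq_getElem _ _ h1, List.getD_eq_getElem _ _ h2] at e
  exact (p_facts.2.2.2.2.1.of_map _).getElem_inj_iff.1 e

/-- A generator of the Sylow subgroup. -/
noncomputable def pEl (i : Fin 7) : GS F := tWord hω hF (pWords.getD i [])

/-- The Sylow subgroup. -/
noncomputable def Psub : Subgroup (GS F) := Subgroup.closure (Set.range (pEl hω hF))

theorem pEl_real (i : Fin 7) : Real ω (pEl hω hF i) (pG i) :=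
  (p_facts.1 i i.2).2 ▸ tWord_real hω hF (p_facts.1 i i.2).1

include hω in
theorem real_mul {g h : GS F} {a b : List ℕ} (hg : Real ω g a) (hh : Real ω h b) (hb : b.length = 6) :
    Real ω (g * h) (mulM a b) := by
  show mat g * mat h = _
  rw [mdec_mulM hω _ hb, hg, hh]

theorem Psub_le : Psub hω hF ≤ Stab hω hF :=
  ((Subgroup.closure_le _).2 (by rintro _ ⟨i, rfl⟩; exact tWord_mem hω hF _)).trans (Tgen_le hω hF)

theorem Psub_le_Kb : Psub hω hF ≤ Kb hω hF 0 := fun _ hg => (Psub_le hω hF hg).1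

theorem exists_pE : ∀ e < 128, ∃ g ∈ Psub hω hF, Real ω g (pE e) := by
  suffices h : ∀ k ≤ 7, ∀ e < 2 ^ k, ∃ g ∈ Psub hω hF, Real ω g (pE e) from h 7 le_rfl
  intro k
  induction k with
  | zero =>
    intro _ e he
    obtain rfl : e = 0 := by omega
    exact ⟨1, one_mem _, by rw [p_facts.2.1]; exact (mdec_idM hω).symm⟩
  | succ k ih =>
    intro hk e he
    rcases Nat.lt_or_ge e (2 ^ k) with h | h
    · exact ih (by omega) e h
    · obtain ⟨g, hg, hr⟩ := ih (by omega) (e - 2 ^ k) (by rw [pow_succ] at he; omega)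
      refine ⟨pEl hω hF ⟨k, by omega⟩ * g, mul_mem (Subgroup.subset_closure ⟨_, rfl⟩) hg, ?_⟩
      have e' : pE e = mulM (pG k) (pE (e - 2 ^ k)) := by
        rw [← p_facts.2.2.2.2.2.1 k (by omega) (e - 2 ^ k) (by rw [pow_succ] at he; omega),
          Nat.add_sub_cancel' h]
      have h128 : e < 128 := lt_of_lt_of_le he
        (le_trans (Nat.pow_le_pow_right (n := 2) (by norm_num) hk) (by norm_num))
      exact e' ▸ real_mul hω (pEl_real hω hF _) hr (p_facts.2.2.2.1 _ (pE_mem (by omega))).1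

theorem mem_Psub {g : GS F} : g ∈ Psub hω hF ↔ ∃ e < 128, Real ω g (pE e) := by
  refine ⟨fun hg => ?_, ?_⟩
  · suffices h : ∀ x : GS F, ∀ e < 128, Real ω x (pE e) → ∃ e' < 128, Real ω (g * x) (pE e') by
      obtain ⟨e, he, hr⟩ := h 1 0 (by norm_num) (by rw [p_facts.2.1]; exact (mdec_idM hω).symm)
      exact ⟨e, he, by rwa [mul_one] at hr⟩
    induction hg using Subgroup.closure_induction with
    | mem y hy =>
      obtain ⟨i, rfl⟩ := hy
      intro x e he hr
      obtain ⟨e', he', h'⟩ := p_facts.2.2.2.2.2.2 i i.2 e he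
      exact ⟨e', he', h' ▸ real_mul hω (pEl_real hω hF i) hr (p_facts.2.2.2.1 _ (pE_mem he)).1⟩
    | one => exact fun x e he hr => ⟨e, he, by rwa [one_mul]⟩
    | mul y w _ _ ihy ihw =>
      intro x e he hr
      obtain ⟨e', he', hr'⟩ := ihw x e he hr
      obtain ⟨e'', he'', hr''⟩ := ihy _ e' he' hr'
      exact ⟨e'', he'', by rwa [mul_assoc]⟩
    | inv y _ ih =>
      have hfin : IsOfFinOrder y := isOfFinOrder_of_finite y
      rw [show y⁻¹ = y ^ (orderOf y - 1) by
        rw [inv_eq_of_mul_eq_one_right]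
        rw [← pow_succ', Nat.sub_add_cancel (orderOf_pos y), pow_orderOf_eq_one]]
      generalize orderOf y - 1 = n
      induction n with
      | zero => exact fun x e he hr => ⟨e, he, by rwa [pow_zero, one_mul]⟩
      | succ n ihn =>
        intro x e he hr
        obtain ⟨e', he', hr'⟩ := ihn x e he hr
        obtain ⟨e'', he'', hr''⟩ := ih _ e' he' hr'
        exact ⟨e'', he'', by rwa [pow_succ', mul_assoc]⟩
  · rintro ⟨e, he, hr⟩
    obtain ⟨g', hg', hr'⟩ := exists_pE hω hF e he
    exact mat_injective (hr.trans hr'.symm) ▸ hg'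

theorem card_Psub : Nat.card (Psub hω hF) = 128 := by
  choose r hr hre using fun e : Fin 128 => exists_pE hω hF e e.2
  refine le_antisymm ?_ ?_
  · choose f hf hfr using fun g : Psub hω hF => (mem_Psub hω hF).1 g.2
    have := Nat.card_le_card_of_injective (fun g => (⟨f g, hf g⟩ : Fin 128)) fun a b e => by
      have e' : f a = f b := congrArg Fin.val e
      exact Subtype.ext (mat_injective ((hfr a).trans (e' ▸ (hfr b).symm)))
    rwa [Nat.card_fin] at this
  · have := Nat.card_le_card_of_injective (fun e => (⟨r e, hr e⟩ : Psub hω hF)) fun a b e => by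
      have e' : r a = r b := congrArg Subtype.val e
      exact Fin.ext (pE_inj hω a.2 b.2 (hre a) (e' ▸ hre b))
    rwa [Nat.card_fin] at this

/-- Every 2-subgroup of the cover is conjugate into the Sylow subgroup. -/
theorem exists_conj_Psub {S : Subgroup (GS F)} (hS : S ≤ Kb hω hF 0) (h2 : IsPGroup 2 S) :
    ∃ k ∈ Kb hω hF 0, ∀ s ∈ S, k * s * k⁻¹ ∈ Psub hω hF := by
  haveI : Fact (Nat.Prime 2) := ⟨Nat.prime_two⟩
  have hP : IsPGroup 2 ((Psub hω hF).subgroupOf (Kb hω hF 0)) := IsPGroup.of_card (n := 7)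
    (by rw [Nat.card_congr (Subgroup.subgroupOfEquivOfLe (Psub_le_Kb hω hF)).toEquiv, card_Psub]; rfl)
  obtain ⟨P', hP'⟩ := hP.exists_le_sylow
  obtain ⟨k, hk⟩ := IsPGroup.iff_card.1 P'.2
  have hd : 2 ^ k ∣ 9797760 := by
    rw [← card_Kb hω hF 0, ← hk]; exact Subgroup.card_subgroup_dvd_card _
  have hk7 : k ≤ 7 := by
    by_contra h
    have := (pow_dvd_pow 2 (show 8 ≤ k by omega)).trans hd
    norm_num at this
  have heq : (Psub hω hF).subgroupOf (Kb hω hF 0) = (P' : Subgroup (Kb hω hF 0)) := by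
    refine Subgroup.eq_of_le_of_card_ge hP' ?_
    rw [hk, Nat.card_congr (Subgroup.subgroupOfEquivOfLe (Psub_le_Kb hω hF)).toEquiv, card_Psub]
    exact (Nat.pow_le_pow_right (by norm_num) hk7).trans (by norm_num)
  obtain ⟨Q', hQ'⟩ := (h2.of_equiv (Subgroup.subgroupOfEquivOfLe hS).symm).exists_le_sylow
  obtain ⟨x, hx⟩ := MulAction.exists_smul_eq (Kb hω hF 0) Q' P'
  refine ⟨x, x.2, fun s hs => ?_⟩
  have : x * ⟨s, hS hs⟩ * x⁻¹ ∈ (P' : Subgroup (Kb hω hF 0)) := by
    rw [← hx]
    exact ⟨⟨s, hS hs⟩, hQ' (Subgroup.mem_subgroupOf.2 hs), rfl⟩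
  rw [← heq] at this
  exact this

theorem inv_facts : (∀ e < 128, 0 < e → mulM (pE e) (pE e) = idM → posI e < 35 ∧ invE (posI e) = e) ∧
    (∀ a < 35, 0 < invE a ∧ invE a < 128 ∧ mulM (pE (invE a)) (pE (invE a)) = idM) ∧
    (∀ a < 35, ∀ b < 35, mulM (pE (invE a)) (pE (invE b)) = mulM (pE (invE b)) (pE (invE a)) → a ≠ b →
      (nbr a).testBit b = true) ∧
    (∀ a < 35, maskB.testBit a = true → invE a ∈ bIdx) ∧
    (∀ a < 35, maskN.testBit a = true → invE a ∈ nIdx) := by
  have h := invOK_true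
  have h' := searchOK_true
  simp only [invOK, Bool.and_eq_true, List.all_eq_true, List.mem_range] at h
  simp only [searchOK, Bool.and_eq_true, List.all_eq_true, List.mem_range, beq_iff_eq] at h'
  obtain ⟨h1, h2⟩ := h
  obtain ⟨⟨h3, h4⟩, -⟩ := h'
  refine ⟨fun e he h0 hsq => ?_, fun a ha => ?_, fun a ha b hb hcomm hne => ?_, fun a ha hb => ?_,
    fun a ha hb => ?_⟩
  · have := h1 e he
    rw [if_pos (by simp [hsq, Nat.blt_eq, h0])] at this
    simp only [Bool.and_eq_true] at this
    exact ⟨Nat.blt_eq.mp this.1, Nat.eq_of_beq_eq_true this.2⟩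
  · exact ⟨Nat.blt_eq.mp (h2 a ha).1.1.1.1, Nat.blt_eq.mp (h2 a ha).1.1.1.2, eq_of_beq (h2 a ha).1.2⟩
  · have := (h2 a ha).2 b hb
    rw [h3 a ha b hb]
    by_cases hc : cmI a b = true
    · rw [hc, Bool.true_and, Bool.not_eq_true']
      exact Bool.eq_false_iff.2 fun e => hne (Nat.eq_of_beq_eq_true e)
    · rw [if_neg hc] at this
      simp [hcomm] at this
  · have := (h4 a ha).1
    rw [hb] at this
    obtain ⟨x, hx, e⟩ := List.any_eq_true.1 this.symm
    exact Nat.eq_of_beq_eq_true e ▸ hx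
  · have := (h4 a ha).2
    rw [hb] at this
    obtain ⟨x, hx, e⟩ := List.any_eq_true.1 this.symm
    exact Nat.eq_of_beq_eq_true e ▸ hx

/-- The positions of a mask. -/
def bitsI (S : ℕ) : Finset ℕ := (Finset.range 35).filter fun i => S.testBit i

theorem bitsI_card (S : ℕ) : (bitsI S).card = popI S := by
  rw [bitsI, popI, Finset.card_def, Finset.filter_val, Finset.range_val, Multiset.range, Multiset.filter_coe,
    Multiset.coe_card]
  exact congrArg List.length (List.filter_congr fun _ _ => by simp)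

theorem cliqueOK_sound : ∀ (f S C : ℕ), cliqueOK f S C = true → ∀ K : Finset ℕ, (∀ a ∈ K, a < 35) →
    (∀ a ∈ K, ∀ b ∈ K, a ≠ b → (nbr a).testBit b = true) → (∀ a < 35, S.testBit a = true → a ∈ K) →
    (∀ a ∈ K, S.testBit a = true ∨ C.testBit a = true) → 15 ≤ K.card →
    K = bitsI maskB ∨ K = bitsI maskN := by
  intro f
  induction f with
  | zero => intro S C h; simp [cliqueOK] at h
  | succ f ih =>
    intro S C h K hlt hcl hS hSC h15
    have hsub : K ⊆ bitsI (Nat.lor S C) := fun a ha => by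
      refine Finset.mem_filter.2 ⟨Finset.mem_range.2 (hlt a ha), ?_⟩
      show (S ||| C).testBit a = true
      rw [Nat.testBit_or, Bool.or_eq_true]
      exact hSC a ha
    simp only [cliqueOK, Bool.or_eq_true] at h
    rcases h with ((h | h) | h) | h
    · have := Finset.card_le_card hsub
      rw [bitsI_card] at this
      have := Nat.blt_eq.mp h
      omega
    · left
      rw [Nat.eq_of_beq_eq_true h] at hsub
      exact Finset.eq_of_subset_of_card_le hsub
        (le_trans ((by decide +kernel : (bitsI maskB).card ≤ 15)) h15)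
    · right
      rw [Nat.eq_of_beq_eq_true h] at hsub
      exact Finset.eq_of_subset_of_card_le hsub
        (le_trans ((by decide +kernel : (bitsI maskN).card ≤ 15)) h15)
    · split at h
      · exact Bool.noConfusion h
      · next v hv =>
        have hCv : C.testBit v = true := by simpa using List.find?_some hv
        have hv35 : v < 35 := List.mem_range.1 (List.mem_of_find?_eq_some hv)
        simp only [Bool.and_eq_true] at h
        by_cases hvK : v ∈ K
        · refine ih _ _ h.1 K hlt hcl (fun a ha hb => ?_) (fun a ha => ?_) h15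
          · have hb' : (S ||| 2 ^ v).testBit a = true := hb
            rw [Nat.testBit_or, Bool.or_eq_true, Nat.testBit_two_pow, decide_eq_true_iff] at hb'
            rcases hb' with hb' | rfl
            exacts [hS a ha hb', hvK]
          · show (S ||| 2 ^ v).testBit a = true ∨ (C &&& nbr v).testBit a = true
            rw [Nat.testBit_or, Nat.testBit_and, Bool.or_eq_true, Bool.and_eq_true, Nat.testBit_two_pow,
              decide_eq_true_iff]
            by_cases e : v = a
            · exact Or.inl (Or.inr e)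
            · exact (hSC a ha).imp Or.inl fun hC => ⟨hC, hcl v hvK a ha e⟩
        · refine ih _ _ h.2 K hlt hcl hS (fun a ha => ?_) h15
          show S.testBit a = true ∨ (C ^^^ 2 ^ v).testBit a = true
          rw [Nat.testBit_xor, Nat.testBit_two_pow]
          have e : v ≠ a := fun e => hvK (e ▸ ha)
          rw [decide_eq_false e, Bool.xor_false]
          exact hSC a ha

/-- The elements of the subgroup with the indices `bIdx`. -/
def idxSet (ω : F) (L : List ℕ) : Set (GS F) := {g | ∃ e ∈ L, Real ω g (pE e)}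

theorem bIdx_lt : ∀ e ∈ bIdx, e < 128 := by decide +kernel

theorem nIdx_lt : ∀ e ∈ nIdx, e < 128 := by decide +kernel

/-- An elementary abelian subgroup of the Sylow subgroup of order at least sixteen. -/
theorem ea_Psub {A : Subgroup (GS F)} (hA : A ≤ Psub hω hF) (hel : Cfsg.IsElementaryAbelian 2 A)
    (hc : 16 ≤ Nat.card A) : (A : Set (GS F)) = idxSet ω bIdx ∨ (A : Set (GS F)) = idxSet ω nIdx := by
  classical
  choose ix hix hixr using fun g : A => (mem_Psub hω hF).1 (hA g.2)
  have hcomm : ∀ g h : A, mulM (pE (ix g)) (pE (ix h)) = mulM (pE (ix h)) (pE (ix g)) := fun g h => by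
    have hl := fun x : A => p_facts.2.2.2.1 _ (pE_mem (hix x))
    have hlen : ∀ (a b : List ℕ), b.length = 6 → (mulM a b).length = 6 ∧ ∀ c ∈ mulM a b, c < 4096 :=
      fun a b hb => ⟨by simp [mulM, hb], fun c hc => by
        obtain ⟨d, -, rfl⟩ := List.mem_map.1 hc
        exact mulV_lt _ _⟩
    refine code_inj hω (hlen _ _ (hl h).1) (hlen _ _ (hl g).1) ?_
    have h1 := real_mul hω (hixr g) (hixr h) (hl h).1
    have h2 := real_mul hω (hixr h) (hixr g) (hl g).1
    have e : (g : GS F) * h = h * g := congrArg Subtype.val (hel.1.1.comm g h)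
    rw [e] at h1
    exact h1.symm.trans h2
  have hsq : ∀ g : A, mulM (pE (ix g)) (pE (ix g)) = idM := fun g => by
    have hl := p_facts.2.2.2.1 _ (pE_mem (hix g))
    refine code_inj hω ⟨by simp [mulM, hl.1], fun c hc => by
      obtain ⟨d, -, rfl⟩ := List.mem_map.1 hc
      exact mulV_lt _ _⟩ ⟨rfl, by decide⟩ ?_
    rw [← real_mul hω (hixr g) (hixr g) hl.1, mdec_idM hω, ← pow_two, hel.2 g g.2]
    rfl
  have hpos : ∀ g : A, (g : GS F) ≠ 1 → 0 < ix g := fun g hg => Nat.pos_of_ne_zero fun e => hg (by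
    have h := hixr g
    rw [e, p_facts.2.1] at h
    exact mat_injective (h.trans (mdec_idM hω)))
  have hp : ∀ g : A, (g : GS F) ≠ 1 → posI (ix g) < 35 ∧ invE (posI (ix g)) = ix g := fun g hg =>
    inv_facts.1 _ (hix g) (hpos g hg) (hsq g)
  set K : Finset ℕ := (Finset.range 35).filter fun a => ∃ g : A, (g : GS F) ≠ 1 ∧ posI (ix g) = a
  have hK : ∀ a, a ∈ K ↔ a < 35 ∧ ∃ g : A, (g : GS F) ≠ 1 ∧ posI (ix g) = a := by simp [K]
  have h15 : 15 ≤ K.card := by
    let f : A → Option K := fun g =>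
      if hg : (g : GS F) = 1 then none else some ⟨posI (ix g), (hK _).2 ⟨(hp g hg).1, g, hg, rfl⟩⟩
    have hf : Function.Injective f := by
      intro g h e
      simp only [f] at e
      split at e <;> split at e
      · exact Subtype.ext (by simp_all)
      · simp at e
      · simp at e
      · next hg hh =>
        have e' : posI (ix g) = posI (ix h) := by simpa using e
        have e'' : ix g = ix h := by rw [← (hp g hg).2, e', (hp h hh).2]
        exact Subtype.ext (mat_injective ((hixr g).trans (e'' ▸ (hixr h).symm)))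
    have := Nat.card_le_card_of_injective f hf
    rw [Nat.card_eq_fintype_card (α := Option K), Fintype.card_option, Fintype.card_coe] at this
    omega
  have hcl : ∀ a ∈ K, ∀ b ∈ K, a ≠ b → (nbr a).testBit b = true := by
    intro a ha b hb hne
    obtain ⟨ha35, g, hg, rfl⟩ := (hK a).1 ha
    obtain ⟨hb35, h, hh, rfl⟩ := (hK b).1 hb
    exact inv_facts.2.2.1 _ ha35 _ hb35 (by rw [(hp g hg).2, (hp h hh).2]; exact hcomm g h) hne
  have hok := searchOK_true
  simp only [searchOK, Bool.and_eq_true] at hok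
  have key := cliqueOK_sound _ _ _ hok.2 K (fun a ha => ((hK a).1 ha).1) hcl (fun a _ h => by simp at h)
    (fun a ha => Or.inr (by rw [Nat.testBit_two_pow_sub_one, decide_eq_true_iff]; exact ((hK a).1 ha).1)) h15
  have fin : ∀ L : List ℕ, (∀ e ∈ L, e < 128) → L.length = 16 → 0 ∈ L →
      (∀ a ∈ K, invE a ∈ L) → (A : Set (GS F)) = idxSet ω L := by
    intro L hL hlen h0 hmem
    have hsub : ∀ g : A, ix g ∈ L := fun g => by
      by_cases hg : (g : GS F) = 1
      · have h := hixr g
        rw [hg] at h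
        rw [pE_inj hω (hix g) (show 0 < 128 by norm_num) h (by rw [p_facts.2.1]; exact (mdec_idM hω).symm)]
        exact h0
      · rw [← (hp g hg).2]; exact hmem _ ((hK _).2 ⟨(hp g hg).1, g, hg, rfl⟩)
    let f : A → L.toFinset := fun g => ⟨ix g, List.mem_toFinset.2 (hsub g)⟩
    have hfi : Function.Injective f := fun g h e => by
      have e' : ix g = ix h := congrArg Subtype.val e
      exact Subtype.ext (mat_injective ((hixr g).trans (e' ▸ (hixr h).symm)))
    have hle : Nat.card L.toFinset ≤ Nat.card A := by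
      rw [Nat.card_eq_fintype_card, Fintype.card_coe]
      exact le_trans (List.toFinset_card_le L) (hlen ▸ hc)
    have hb := (Nat.bijective_iff_injective_and_card f).2
      ⟨hfi, le_antisymm (Nat.card_le_card_of_injective f hfi) hle⟩
    ext x
    constructor
    · exact fun hx => ⟨ix ⟨x, hx⟩, hsub ⟨x, hx⟩, hixr ⟨x, hx⟩⟩
    · rintro ⟨e, he, hr⟩
      obtain ⟨g, hg⟩ := hb.2 ⟨e, List.mem_toFinset.2 he⟩
      have e' : ix g = e := congrArg Subtype.val hg
      rw [← e'] at hr
      exact mat_injective (hr.trans (hixr g).symm) ▸ g.2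
  rcases key with h | h
  · exact Or.inl (fin bIdx bIdx_lt (by decide) (by decide) fun a ha => by
      rw [h] at ha
      obtain ⟨ha1, ha2⟩ := Finset.mem_filter.1 ha
      exact inv_facts.2.2.2.1 a (Finset.mem_range.1 ha1) ha2)
  · exact Or.inr (fin nIdx nIdx_lt (by decide) (by decide) fun a ha => by
      rw [h] at ha
      obtain ⟨ha1, ha2⟩ := Finset.mem_filter.1 ha
      exact inv_facts.2.2.2.2 a (Finset.mem_range.1 ha1) ha2)

/-- The vectors fixed by a set of elements. -/
def fixV (S : Set (GS F)) : Set (Fin 6 → F) := {v | ∀ g ∈ S, app g v = v}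

include hω hF in
theorem ncard_idxSet_le {L : List ℕ} : (idxSet ω L).ncard ≤ L.length := by
  classical
  choose ix hix hixr using fun g : idxSet (F := F) ω L => g.2
  rw [← Nat.card_coe_set_eq]
  have := Nat.card_le_card_of_injective (fun g => (⟨ix g, List.mem_toFinset.2 (hix g)⟩ : L.toFinset))
    fun g h e => by
      have e' : ix g = ix h := congrArg Subtype.val e
      exact Subtype.ext (mat_injective ((hixr g).trans (e' ▸ (hixr h).symm)))
  rw [Nat.card_eq_fintype_card (α := L.toFinset), Fintype.card_coe] at this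
  exact this.trans (List.toFinset_card_le L)

include hω hF in
theorem fixV_idx {L W : List ℕ} (hL : ∀ e ∈ L, e < 128)
    (h : ∀ v < 4096, (∀ e ∈ L, mulV (pE e) v = v) → v ∈ W) :
    (fixV (idxSet ω L)).ncard ≤ W.length := by
  classical
  have hsub : fixV (idxSet ω L) ⊆ ↑((W.map (vdec ω)).toFinset) := by
    intro v hv
    obtain ⟨c, hc, rfl⟩ : ∃ c < 4096, vdec ω c = v := by
      choose a ha e using fun i => dec_surj hω hF (v i)
      set f : ℕ → ℕ := fun i => if h : i < 6 then a ⟨i, h⟩ else 0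
      have hf : ∀ i, f i < 4 := fun i => by simp only [f]; split <;> [exact ha _; norm_num]
      refine ⟨vec6 f, ?_, funext fun i => ?_⟩
      · have := hf 0; have := hf 1; have := hf 2; have := hf 3; have := hf 4; have := hf 5
        simp only [vec6]; omega
      · show dec ω (crd (vec6 f) i) = v i
        rw [crd_vec6 f hf i.2]
        simp only [f, i.2, dif_pos, Fin.eta]
        exact e i
    rw [List.coe_toFinset]
    refine List.mem_map.2 ⟨c, h c hc fun e he => ?_, rfl⟩
    obtain ⟨g, -, hr⟩ := exists_pE hω hF e (hL e he)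
    have := hv g ⟨e, he, hr⟩
    rw [hr.app_dec hω] at this
    exact vdec_inj hω (mulV_lt _ _) hc this
  refine (Set.ncard_le_ncard hsub (Finset.finite_toSet _)).trans ?_
  rw [Set.ncard_coe_finset]
  exact (List.toFinset_card_le _).trans (le_of_eq (List.length_map _))

theorem w_facts : wTab.length = 64 ∧
    (∀ v < 4096, (∀ e ∈ bIdx, mulV (pE e) v = v) → v ∈ wTab) ∧
    ∀ v < 4096, (∀ e ∈ nIdx, mulV (pE e) v = v) → v ∈ [0, 85, 170, 255] := by
  have h := wOK_true
  simp only [wOK, Bool.and_eq_true, List.all_eq_true, List.mem_range, Bool.or_eq_true,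
    Bool.not_eq_true', List.any_eq_true] at h
  obtain ⟨⟨⟨⟨h1, -⟩, -⟩, h4⟩, h5⟩ := h
  refine ⟨Nat.eq_of_beq_eq_true h1, fun v hv hfix => ?_, fun v hv hfix => ?_⟩
  · rcases h4 v hv with h | ⟨x, hx, e⟩
    · rw [List.all_eq_false] at h
      obtain ⟨e, he, hne⟩ := h
      rw [hfix e he, Nat.beq_refl] at hne
      exact absurd rfl hne
    · exact Nat.eq_of_beq_eq_true e ▸ hx
  · rcases h5 v hv with h | ⟨x, hx, e⟩
    · rw [List.all_eq_false] at h
      obtain ⟨e, he, hne⟩ := h
      rw [hfix e he, Nat.beq_refl] at hne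
      exact absurd rfl hne
    · exact Nat.eq_of_beq_eq_true e ▸ hx

theorem fixV_map {k : GS F} (A : Subgroup (GS F)) :
    (fixV ((A.map (MulAut.conj k).toMonoidHom : Subgroup (GS F)) : Set (GS F))).ncard =
      (fixV (A : Set (GS F))).ncard := by
  have e : fixV ((A.map (MulAut.conj k).toMonoidHom : Subgroup (GS F)) : Set (GS F)) =
      app k '' fixV (A : Set (GS F)) := by
    ext v
    constructor
    · intro hv
      refine ⟨app k⁻¹ v, fun g hg => ?_, by rw [← app_mul, mul_inv_cancel, app_one]⟩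
      have h := hv (k * g * k⁻¹) ⟨g, hg, rfl⟩
      conv_rhs => rw [← h]
      rw [← app_mul, ← app_mul]
      congr 1
      group
    · rintro ⟨u, hu, rfl⟩ _ ⟨g, hg, rfl⟩
      show app (k * g * k⁻¹) (app k u) = app k u
      rw [← app_mul, inv_mul_cancel_right, app_mul, hu g hg]
  rw [e, Set.ncard_image_of_injective _ (app_injective k)]

/-- The three facts for an elementary abelian subgroup of order at least sixteen of the cover. -/
theorem ea_Kb {A : Subgroup (GS F)} (hA : A ≤ Kb hω hF 0) (hel : Cfsg.IsElementaryAbelian 2 A)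
    (hc : 16 ≤ Nat.card A) : Nat.card A = 16 ∧ (fixV (A : Set (GS F))).ncard ≤ 64 ∧
      ∃ k ∈ Kb hω hF 0, (∀ a ∈ A, k * a * k⁻¹ ∈ Psub hω hF) := by
  have h2 : IsPGroup 2 A := fun a => ⟨1, Subtype.ext (by rw [pow_one]; push_cast; exact hel.2 a a.2)⟩
  obtain ⟨k, hk, hconj⟩ := exists_conj_Psub hω hF hA h2
  set A' := A.map (MulAut.conj k).toMonoidHom
  have hA' : A' ≤ Psub hω hF := by rintro _ ⟨a, ha, rfl⟩; exact hconj a ha
  have hcard : Nat.card A' = Nat.card A := (Nat.card_congr (A.equivMapOfInjective _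
    (MulAut.conj k).injective).toEquiv).symm
  have hel' : Cfsg.IsElementaryAbelian 2 A' := by
    refine ⟨⟨⟨fun x y => Subtype.ext ?_⟩⟩, ?_⟩
    · obtain ⟨a, ha, e⟩ := x.2
      obtain ⟨b, hb, e'⟩ := y.2
      push_cast
      rw [← e, ← e', ← map_mul, ← map_mul]
      exact congrArg _ (congrArg Subtype.val (hel.1.1.comm ⟨a, ha⟩ ⟨b, hb⟩))
    · rintro _ ⟨a, ha, rfl⟩
      rw [← map_pow, hel.2 a ha, map_one]
  have hset := ea_Psub hω hF hA' hel' (hcard ▸ hc)
  refine ⟨?_, ?_, k, hk, hconj⟩
  · refine le_antisymm ?_ hc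
    have h16 : ((A' : Subgroup (GS F)) : Set (GS F)).ncard ≤ 16 := by
      rcases hset with h | h <;> rw [h]
      · exact (ncard_idxSet_le hω hF).trans (by decide)
      · exact (ncard_idxSet_le hω hF).trans (by decide)
    rw [← Nat.card_coe_set_eq, SetLike.coe_sort_coe, hcard] at h16
    exact h16
  · rw [← fixV_map (k := k)]
    rcases hset with h | h <;> rw [h]
    · exact (fixV_idx hω hF bIdx_lt w_facts.2.1).trans w_facts.1.le
    · exact (fixV_idx hω hF nIdx_lt w_facts.2.2).trans (by decide)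

/-- A 2-subgroup contains at most one such subgroup fixing more than four vectors. -/
theorem unique_wide {S A B : Subgroup (GS F)} (hS : S ≤ Kb hω hF 0) (h2 : IsPGroup 2 S) (hAS : A ≤ S)
    (hBS : B ≤ S) (hA : Cfsg.IsElementaryAbelian 2 A) (hB : Cfsg.IsElementaryAbelian 2 B)
    (hAc : 16 ≤ Nat.card A) (hBc : 16 ≤ Nat.card B) (hAf : 4 < (fixV (A : Set (GS F))).ncard)
    (hBf : 4 < (fixV (B : Set (GS F))).ncard) : A = B := by
  obtain ⟨k, hk, hconj⟩ := exists_conj_Psub hω hF hS h2
  have key : ∀ C : Subgroup (GS F), C ≤ S → Cfsg.IsElementaryAbelian 2 C → 16 ≤ Nat.card C →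
      4 < (fixV (C : Set (GS F))).ncard →
      ((C.map (MulAut.conj k).toMonoidHom : Subgroup (GS F)) : Set (GS F)) = idxSet ω bIdx := by
    intro C hCS hC hCc hCf
    have hC' : Cfsg.IsElementaryAbelian 2 (C.map (MulAut.conj k).toMonoidHom) := by
      refine ⟨⟨⟨fun x y => Subtype.ext ?_⟩⟩, ?_⟩
      · obtain ⟨a, ha, e⟩ := x.2
        obtain ⟨b, hb, e'⟩ := y.2
        push_cast
        rw [← e, ← e', ← map_mul, ← map_mul]
        exact congrArg _ (congrArg Subtype.val (hC.1.1.comm ⟨a, ha⟩ ⟨b, hb⟩))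
      · rintro _ ⟨a, ha, rfl⟩
        rw [← map_pow, hC.2 a ha, map_one]
    refine (ea_Psub hω hF ?_ hC' ?_).resolve_right fun h => ?_
    · rintro _ ⟨a, ha, rfl⟩; exact hconj a (hCS ha)
    · rwa [Nat.card_congr (C.equivMapOfInjective _ (MulAut.conj k).injective).toEquiv.symm]
    · rw [← fixV_map (k := k), h] at hCf
      have := fixV_idx hω hF nIdx_lt w_facts.2.2
      simp only [List.length_cons, List.length_nil] at this
      omega
  refine Subgroup.map_injective (f := (MulAut.conj k).toMonoidHom) (MulAut.conj k).injective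
    (SetLike.coe_injective ?_)
  rw [key A hAS hA hAc hAf, key B hBS hB hBc hBf]

end CfsgLib.Trans3.FischerType
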