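import Cfsg.Agent.Lib.PLocal.LargeExtraPair
import Cfsg.Prelude.Def_Transfer
import Mathlib.LinearAlgebra.Matrix.Transvection
import Mathlib.LinearAlgebra.Matrix.SpecialLinearGroup

/-!
An elementary abelian group of order eight lying in three self-centralising extraspecial subgroups
with independent centres: its normaliser induces all of `SL₃(2)` on it.
-/

set_option autoImplicit false
set_option linter.unusedSectionVars false

namespace CfsgLib.Trans3.FischerType

open Subgroup CfsgLib.PLocal.LargeExtra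
open scoped MatrixGroups

/-- The six elementary matrices generate `SL₃(2)`. -/
theorem sl_three_two_eq_top {K : Subgroup SL(3, ZMod 2)}
    (h : ∀ i j : Fin 3, ∀ hij : i ≠ j, Matrix.SpecialLinearGroup.transvection hij (1 : ZMod 2) ∈ K) :
    K = ⊤ := by
  refine eq_top_iff.2 fun A _ => ?_
  let P : Matrix (Fin 3) (Fin 3) (ZMod 2) → Prop := fun M => ∃ B ∈ K, (B : Matrix (Fin 3) (Fin 3) (ZMod 2)) = M
  have hP : P A := by
    refine Matrix.diagonal_transvection_induction_of_det_ne_zero P _ (by rw [A.2]; exact one_ne_zero)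
      (fun D hD => ?_) (fun t => ?_) ?_
    · refine ⟨1, one_mem _, ?_⟩
      have hall : ∀ i, D i = 1 := fun i => by
        have hi : D i ≠ 0 := fun e => hD (by
          rw [Matrix.det_diagonal]
          exact Finset.prod_eq_zero (Finset.mem_univ i) e)
        revert hi
        generalize D i = a
        revert a
        decide
      rw [Matrix.SpecialLinearGroup.coe_one, funext hall, Matrix.diagonal_one]
    · obtain ⟨i, j, hij, c⟩ := t
      have hc : c = 0 ∨ c = 1 := by revert c; decide
      rcases hc with rfl | rfl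
      · exact ⟨1, one_mem _, by simp [Matrix.TransvectionStruct.toMatrix]⟩
      · exact ⟨_, h i j hij, rfl⟩
    · rintro M N _ _ ⟨B, hB, rfl⟩ ⟨C, hC, rfl⟩
      exact ⟨B * C, mul_mem hB hC, Matrix.SpecialLinearGroup.coe_mul _ _⟩
  obtain ⟨B, hB, e⟩ := hP
  rwa [← Subtype.ext e]

variable {G : Type*} [Group G] [Finite G]

/-- A transvection of the centre induced by a self-centralising extraspecial subgroup. -/
theorem exists_transvection {P : Subgroup G} {c : G} (hP : Pack P c) {a b : G} (ha : a ∈ P) (hb : b ∈ P)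
    (hb2 : b * b = 1) (hb1 : b ≠ 1 ∧ b ≠ c) (hind : a ≠ 1 ∧ a ≠ c ∧ a ≠ b ∧ a ≠ c * b) :
    ∃ q ∈ P, q * c * q⁻¹ = c ∧ q * a * q⁻¹ = c * a ∧ q * b * q⁻¹ = b := by
  obtain ⟨q, hq, hqb, hqa⟩ : ∃ q ∈ P, q * b = b * q ∧ q * a ≠ a * q := by
    by_contra hn
    push Not at hn
    rcases hP.eq_of_commute_centralizer hb hb1 hb2 ha fun p hp hpb => (hn p hp hpb).symm with
      e | e | e | e
    exacts [hind.1 e, hind.2.1 e, hind.2.2.1 e, hind.2.2.2 e]
  exact ⟨q, hq, mul_inv_eq_iff_eq_mul.2 (hP.comm_z hq), hP.conj_of_not_commute hq ha hqa,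
    mul_inv_eq_iff_eq_mul.2 hqb⟩

/-- Three self-centralising extraspecial subgroups, each containing the three centres. -/
structure Tri (P : Fin 3 → Subgroup G) (c : Fin 3 → G) : Prop where
  pack : ∀ i, Pack (P i) (c i)
  mem : ∀ i j, c j ∈ P i
  ne : c 1 ≠ c 0
  notMem : c 2 ∉ closure ({c 0, c 1} : Set G)

namespace Tri

variable {P : Fin 3 → Subgroup G} {c : Fin 3 → G} (t : Tri P c)

/-- The element with given coordinates. -/
def coordElt (c : Fin 3 → G) (v : Fin 3 → ZMod 2) : G :=
  c 0 ^ (v 0).val * c 1 ^ (v 1).val * c 2 ^ (v 2).val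

include t

theorem sq (i : Fin 3) : c i * c i = 1 := (t.pack i).z_mul_z

theorem comm (i j : Fin 3) : Commute (c i) (c j) := ((t.pack i).comm_z (t.mem i j)).symm

theorem pow_add_val (i : Fin 3) (a b : ZMod 2) : c i ^ (a + b).val = c i ^ a.val * c i ^ b.val := by
  rw [← pow_add, ZMod.val_add]
  exact (pow_eq_pow_mod _ (by rw [pow_two]; exact t.sq i)).symm

theorem coordElt_add (v w : Fin 3 → ZMod 2) :
    coordElt c (v + w) = coordElt c v * coordElt c w := by
  simp only [coordElt, Pi.add_apply, t.pow_add_val]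
  have e1 := fun (a b : ℕ) => ((t.comm 0 1).pow_pow a b).eq
  have e2 := fun (a b : ℕ) => ((t.comm 0 2).pow_pow a b).eq
  have e3 := fun (a b : ℕ) => ((t.comm 1 2).pow_pow a b).eq
  calc c 0 ^ (v 0).val * c 0 ^ (w 0).val * (c 1 ^ (v 1).val * c 1 ^ (w 1).val) *
        (c 2 ^ (v 2).val * c 2 ^ (w 2).val)
      = c 0 ^ (v 0).val * (c 0 ^ (w 0).val * c 1 ^ (v 1).val) * (c 1 ^ (w 1).val * c 2 ^ (v 2).val) *
        c 2 ^ (w 2).val := by simp only [mul_assoc]
    _ = c 0 ^ (v 0).val * c 1 ^ (v 1).val * (c 0 ^ (w 0).val * c 2 ^ (v 2).val) * c 1 ^ (w 1).val *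
        c 2 ^ (w 2).val := by rw [e1, e3]; simp only [mul_assoc]
    _ = _ := by rw [e2]; simp only [mul_assoc]

theorem coordElt_ne_one : ∀ v : Fin 3 → ZMod 2, v ≠ 0 → coordElt c v ≠ 1 := by
  intro v hv e
  have h0 := (t.pack 0).z_ne
  have h1 := (t.pack 1).z_ne
  have hU : ∀ a b : ℕ, c 0 ^ a * c 1 ^ b ∈ closure ({c 0, c 1} : Set G) := fun a b =>
    mul_mem (pow_mem (subset_closure (by simp)) _) (pow_mem (subset_closure (by simp)) _)
  have hz : ∀ a : ZMod 2, a = 0 ∨ a = 1 := by decide
  unfold coordElt at e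
  rcases hz (v 2) with h2 | h2 <;> simp only [h2, ZMod.val_zero, ZMod.val_one, pow_zero, pow_one,
    mul_one] at e
  · rcases hz (v 1) with k1 | k1 <;> rcases hz (v 0) with k0 | k0 <;>
      simp only [k1, k0, ZMod.val_zero, ZMod.val_one, pow_zero, pow_one, mul_one, one_mul] at e
    · exact hv (funext fun i => by fin_cases i <;> assumption)
    · exact h0 e
    · exact h1 e
    · exact t.ne (mul_left_cancel (e.trans (t.sq 0).symm))
  · refine t.notMem ?_
    rw [eq_inv_of_mul_eq_one_right e]
    exact inv_mem (hU _ _)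

theorem coordElt_injective : Function.Injective (coordElt c) := by
  intro v w e
  by_contra hne
  refine t.coordElt_ne_one (v + w) (fun h0 => hne ?_) ?_
  · funext i
    have := congrFun h0 i
    simp only [Pi.add_apply, Pi.zero_apply] at this
    revert this
    generalize v i = a
    generalize w i = b
    revert a b
    decide
  · rw [t.coordElt_add, e, ← t.coordElt_add,
      show w + w = 0 from funext fun i => ZModModule.add_self (w i)]
    simp [coordElt]

omit t in
theorem coordElt_single (c : Fin 3 → G) (i : Fin 3) : coordElt c (Pi.single i 1) = c i := by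
  fin_cases i <;> simp [coordElt, ZMod.val_one]

theorem mem_closure_range {x : G} : x ∈ closure (Set.range c) ↔ ∃ v, coordElt c v = x := by
  refine ⟨fun hx => ?_, ?_⟩
  · induction hx using closure_induction with
    | mem x hx => obtain ⟨i, rfl⟩ := hx; exact ⟨_, coordElt_single c i⟩
    | one => exact ⟨0, by simp [coordElt]⟩
    | mul a b _ _ ha hb =>
      obtain ⟨v, rfl⟩ := ha
      obtain ⟨w, rfl⟩ := hb
      exact ⟨v + w, t.coordElt_add v w⟩
    | inv a _ ha =>
      obtain ⟨v, rfl⟩ := ha
      refine ⟨v, (inv_eq_of_mul_eq_one_right ?_).symm⟩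
      rw [← t.coordElt_add, show v + v = 0 from funext fun i => ZModModule.add_self (v i)]
      simp [coordElt]
  · rintro ⟨v, rfl⟩
    have h : ∀ i (k : ℕ), c i ^ k ∈ closure (Set.range c) := fun i k =>
      pow_mem (subset_closure (Set.mem_range_self i)) k
    exact mul_mem (mul_mem (h 0 _) (h 1 _)) (h 2 _)

theorem elementary : Cfsg.IsElementaryAbelian 2 (closure (Set.range c)) := by
  refine ⟨⟨⟨fun a b => Subtype.ext ?_⟩⟩, fun a ha => ?_⟩
  · obtain ⟨v, hv⟩ := t.mem_closure_range.1 a.2
    obtain ⟨w, hw⟩ := t.mem_closure_range.1 b.2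
    show (a : G) * b = b * a
    rw [← hv, ← hw, ← t.coordElt_add, ← t.coordElt_add, add_comm]
  · obtain ⟨v, rfl⟩ := t.mem_closure_range.1 ha
    rw [pow_two, ← t.coordElt_add, show v + v = 0 from funext fun i => ZModModule.add_self (v i)]
    simp [coordElt]

theorem card_eight : Nat.card ↥(closure (Set.range c)) = 8 := by
  have e : Set.range (coordElt c) = (closure (Set.range c) : Set G) := by
    ext x
    exact (Set.mem_range.trans t.mem_closure_range.symm)
  have h := Nat.card_range_of_injective t.coordElt_injective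
  rw [e] at h
  simpa using h

theorem le_pack (i : Fin 3) : closure (Set.range c) ≤ P i := by
  rw [closure_le]
  rintro x ⟨j, rfl⟩
  exact t.mem i j

theorem pack_le_normalizer (i : Fin 3) : P i ≤ normalizer ((closure (Set.range c) : Subgroup G) : Set G) := by
  intro q hq
  refine mem_normalizer_iff_map_conj_eq.2 (eq_of_le_of_card_ge ?_ (le_of_eq
    (card_map_of_injective (MulEquiv.injective _)).symm))
  rw [MonoidHom.map_closure, closure_le]
  rintro _ ⟨_, ⟨j, rfl⟩, rfl⟩
  show q * c j * q⁻¹ ∈ closure (Set.range c)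
  rcases (t.pack i).conj_cases hq (t.mem i j) with e | e <;> rw [e]
  exacts [subset_closure ⟨j, rfl⟩, mul_mem (subset_closure ⟨i, rfl⟩) (subset_closure ⟨j, rfl⟩)]

theorem exists_elementary (i j : Fin 3) (hij : i ≠ j) :
    ∃ q ∈ P i, q * c j * q⁻¹ = c i * c j ∧ ∀ k, k ≠ j → q * c k * q⁻¹ = c k := by
  have hthird : ∀ i j : Fin 3, i ≠ j → ∃ k, k ≠ i ∧ k ≠ j := by decide
  have hsingle : ∀ a b : Fin 3, (Pi.single a 1 : Fin 3 → ZMod 2) = Pi.single b 1 → a = b := by decide
  have hsum : ∀ a b d : Fin 3, a ≠ b → (Pi.single a 1 : Fin 3 → ZMod 2) ≠ Pi.single b 1 + Pi.single d 1 := by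
    decide
  obtain ⟨k, hki, hkj⟩ := hthird i j hij
  have hne : ∀ a b : Fin 3, a ≠ b → c a ≠ c b := fun a b hab e => hab (hsingle a b
    (t.coordElt_injective ((coordElt_single c a).trans (e.trans (coordElt_single c b).symm))))
  have hpair : c i * c k = coordElt c (Pi.single i 1 + Pi.single k 1) := by
    rw [t.coordElt_add, coordElt_single, coordElt_single]
  obtain ⟨q, hq, h1, h2, h3⟩ := exists_transvection (t.pack i) (t.mem i j) (t.mem i k) (t.sq k)
    ⟨(t.pack k).z_ne, hne k i hki⟩
    ⟨(t.pack j).z_ne, hne j i hij.symm, hne j k hkj.symm, fun e => hsum j i k hij.symm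
      (t.coordElt_injective ((coordElt_single c j).trans (e.trans hpair)))⟩
  refine ⟨q, hq, h2, fun l hl => ?_⟩
  have hcase : ∀ i j k l : Fin 3, i ≠ j → k ≠ i → k ≠ j → l ≠ j → l = i ∨ l = k := by decide
  have := hcase i j k l hij hki hkj hl
  rcases this with rfl | rfl
  exacts [h1, h3]

/-- The action of the normaliser in coordinates. -/
theorem exists_action :
    ∃ φ : ↥(normalizer ((closure (Set.range c) : Subgroup G) : Set G)) →* SL(3, ZMod 2),
      Function.Surjective φ ∧
      (∀ l : ↥(normalizer ((closure (Set.range c) : Subgroup G) : Set G)), φ l = 1 ↔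
        (l : G) ∈ centralizer ((closure (Set.range c) : Subgroup G) : Set G)) ∧
      ∀ g ∈ (⊤ : Subgroup SL(3, ZMod 2)), ∃ l : ↥(normalizer ((closure (Set.range c) : Subgroup G) : Set G)),
        (l : G) ∈ P 0 ⊔ P 1 ⊔ P 2 ∧ φ l = g := by
  let L := normalizer ((closure (Set.range c) : Subgroup G) : Set G)
  have hcl : ∀ (l : ↥L) v, (l : G) * coordElt c v * (l : G)⁻¹ ∈ closure (Set.range c) := fun l v =>
    (mem_normalizer_iff.1 l.2 _).1 (t.mem_closure_range.2 ⟨v, rfl⟩)
  choose f hf using fun l v => t.mem_closure_range.1 (hcl l v)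
  have hadd : ∀ l v w, f l (v + w) = f l v + f l w := fun l v w => t.coordElt_injective (by
    rw [t.coordElt_add, hf, hf, hf, t.coordElt_add]; group)
  have hmul : ∀ l m v, f (l * m) v = f l (f m v) := fun l m v => t.coordElt_injective (by
    rw [hf, hf, hf]; simp [mul_assoc])
  have hone : ∀ v, f 1 v = v := fun v => t.coordElt_injective (by rw [hf]; simp)
  let lin : ↥L → ((Fin 3 → ZMod 2) →ₗ[ZMod 2] (Fin 3 → ZMod 2)) := fun l =>
    (AddMonoidHom.mk' (f l) (hadd l)).toZModLinearMap 2
  let M : ↥L → Matrix (Fin 3) (Fin 3) (ZMod 2) := fun l => LinearMap.toMatrix' (lin l)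
  have hMmul : ∀ l m, M (l * m) = M l * M m := fun l m => by
    rw [← LinearMap.toMatrix'_mul]
    exact congrArg (LinearMap.toMatrix' : _ → Matrix (Fin 3) (Fin 3) (ZMod 2))
      (LinearMap.ext fun v => hmul l m v : lin (l * m) = lin l * lin m)
  have hMone : M 1 = 1 := by
    rw [← LinearMap.toMatrix'_one]
    exact congrArg (LinearMap.toMatrix' : _ → Matrix (Fin 3) (Fin 3) (ZMod 2))
      (LinearMap.ext fun v => hone v : lin 1 = 1)
  have hdet : ∀ l, (M l).det = 1 := fun l => by
    have h : (M l).det * (M l⁻¹).det = 1 := by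
      rw [← Matrix.det_mul, ← hMmul, mul_inv_cancel, hMone, Matrix.det_one]
    revert h
    generalize (M l).det = a
    generalize (M l⁻¹).det = b
    revert a b
    decide
  let φ : ↥L →* SL(3, ZMod 2) :=
    MonoidHom.mk' (fun l => ⟨M l, hdet l⟩) fun l m => Subtype.ext (hMmul l m)
  have hker : ∀ l : ↥L, φ l = 1 ↔ (l : G) ∈ centralizer ((closure (Set.range c) : Subgroup G) : Set G) := by
    refine fun l => ⟨fun h => mem_centralizer_iff.2 fun x hx => ?_, fun h => Subtype.ext ?_⟩
    · obtain ⟨v, rfl⟩ := t.mem_closure_range.1 hx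
      have hv : f l v = v := by
        have e : lin l = 1 := LinearMap.toMatrix'.injective
          ((congrArg Subtype.val h).trans LinearMap.toMatrix'_one.symm)
        exact LinearMap.congr_fun e v
      have := hf l v
      rw [hv] at this
      exact (mul_inv_eq_iff_eq_mul.1 this.symm).symm
    · show M l = 1
      rw [← LinearMap.toMatrix'_one]
      refine congrArg (LinearMap.toMatrix' : _ → Matrix (Fin 3) (Fin 3) (ZMod 2))
        (LinearMap.ext fun v => t.coordElt_injective ?_ : lin l = 1)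
      show coordElt c (f l v) = coordElt c v
      rw [hf, ← mem_centralizer_iff.1 h _ (t.mem_closure_range.2 ⟨v, rfl⟩), mul_inv_cancel_right]
  have htop : (((P 0 ⊔ P 1 ⊔ P 2).subgroupOf L).map φ) = ⊤ := by
    refine sl_three_two_eq_top fun i j hij => ?_
    obtain ⟨q, hq, hqj, hqk⟩ := t.exists_elementary i j hij
    have hqP : q ∈ P 0 ⊔ P 1 ⊔ P 2 := by
      fin_cases i
      exacts [mem_sup_left (mem_sup_left hq), mem_sup_left (mem_sup_right hq), mem_sup_right hq]
    refine ⟨⟨q, t.pack_le_normalizer i hq⟩, mem_subgroupOf.2 hqP, Subtype.ext ?_⟩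
    show M _ = Matrix.transvection i j (1 : ZMod 2)
    ext a b
    show LinearMap.toMatrix' (lin _) a b = _
    rw [LinearMap.toMatrix'_apply]
    show f ⟨q, t.pack_le_normalizer i hq⟩ (Pi.single b 1) a = _
    have hv : f ⟨q, t.pack_le_normalizer i hq⟩ (Pi.single b 1) =
        if b = j then Pi.single i 1 + Pi.single j 1 else Pi.single b 1 := t.coordElt_injective (by
      rw [hf, coordElt_single]
      split_ifs with hb
      · rw [t.coordElt_add, coordElt_single, coordElt_single, hb]; exact hqj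
      · rw [coordElt_single]; exact hqk b hb)
    have htv : ∀ i j a b : Fin 3, i ≠ j →
        ((if b = j then (Pi.single i 1 + Pi.single j 1 : Fin 3 → ZMod 2) else Pi.single b 1) a : ZMod 2) =
          ((Matrix.transvection i j (1 : ZMod 2)) a b : ZMod 2) := by
      intro i j a b
      fin_cases i <;> fin_cases j <;> fin_cases a <;> fin_cases b <;>
        simp [Matrix.transvection, Matrix.single] <;> decide
    rw [hv]
    exact htv i j a b hij
  refine ⟨φ, fun g => ?_, hker, fun g hg => ?_⟩
  · obtain ⟨l, -, e⟩ := htop.symm ▸ mem_top g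
    exact ⟨l, e⟩
  · obtain ⟨l, hl, e⟩ := htop.symm ▸ hg
    exact ⟨l, mem_subgroupOf.1 hl, e⟩

end Tri

end CfsgLib.Trans3.FischerType
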