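import Cfsg.Agent.Lib.Trans3.FischerType.TripleQuot
import Cfsg.Agent.Lib.PLocal.LargeExtraPairSeries

/-!
From the facts at a point of `Q / Z` to the normaliser of the elementary abelian group of order eight.
-/

set_option autoImplicit false
set_option linter.unusedSectionVars false

namespace CfsgLib.Trans3.FischerType

open Subgroup CfsgLib.PLocal.LargeExtra
open scoped MatrixGroups

variable {G : Type*} [Group G] [Finite G]

theorem conj_cases_index {P : Subgroup G} {c : G} (hP : Pack P c) {g : G} (hg : g ∈ P) {A : Subgroup G}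
    (hA : A ≤ P) : A.relIndex (A ⊓ centralizer ({g} : Set G)) ≤ 1 ∧
      (A ⊓ centralizer ({g} : Set G)).relIndex A ≤ 2 := by
  refine ⟨le_of_eq (Subgroup.relIndex_eq_one.2 inf_le_left), ?_⟩
  by_cases hall : A ≤ centralizer ({g} : Set G)
  · rw [inf_eq_left.2 hall, Subgroup.relIndex_self]; norm_num
  obtain ⟨a, ha, hag⟩ := SetLike.not_le_iff_exists.1 hall
  have hag' : a * g ≠ g * a := fun e => hag (mem_centralizer_singleton_iff.2 e)
  refine le_of_eq (Subgroup.index_eq_two_iff.2 ⟨⟨a, ha⟩, fun b => ?_⟩)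
  rw [mem_subgroupOf, mem_subgroupOf]
  show Xor _ _
  by_cases hb : (b : G) * g = g * b
  · refine Or.inr ⟨⟨b.2, mem_centralizer_singleton_iff.2 hb⟩, fun h => hag' ?_⟩
    have h' := mem_centralizer_singleton_iff.1 h.2
    push_cast at h'
    exact mul_left_cancel (a := (b : G)) (by
      rw [← mul_assoc, h', ← mul_assoc, ← mul_assoc, hb])
  · refine Or.inl ⟨⟨mul_mem b.2 ha, mem_centralizer_singleton_iff.2 ?_⟩, fun h =>
      hb (mem_centralizer_singleton_iff.1 h.2)⟩
    push_cast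
    exact hP.mul_commute (hA b.2) (hA ha) hg hb hag'

/-- A self-centralising extraspecial group of order at least 64 has no abelian subgroup of index at
most four. -/
theorem not_abelian {P : Subgroup G} {c : G} (hP : Pack P c) (h64 : 64 ≤ Nat.card P) {A : Subgroup G}
    (hA : A ≤ P) (hi : A.relIndex P ≤ 4) : ¬ ∀ a ∈ A, ∀ b ∈ A, a * b = b * a := by
  intro hab
  haveI : Fact (Nat.Prime 2) := ⟨Nat.prime_two⟩
  have hcardA : Nat.card A * A.relIndex P = Nat.card P := by
    have h1 := Subgroup.relIndex_mul_relIndex ⊥ A P bot_le hA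
    rwa [Subgroup.relIndex_bot_left, Subgroup.relIndex_bot_left] at h1
  have hApos : 0 < Nat.card A := Nat.card_pos
  -- two elements generating `P` over `A`
  obtain ⟨g₁, hg₁, g₂, hg₂, hgen⟩ : ∃ g₁ ∈ P, ∃ g₂ ∈ P, P ≤ A ⊔ closure {g₁, g₂} := by
    by_cases h1 : P ≤ A
    · exact ⟨1, one_mem _, 1, one_mem _, h1.trans le_sup_left⟩
    obtain ⟨g₁, hg₁, hg₁A⟩ := SetLike.not_le_iff_exists.1 h1
    obtain ⟨B, hB⟩ : ∃ B, B = A ⊔ closure {g₁} := ⟨_, rfl⟩
    have hBP : B ≤ P := hB ▸ sup_le hA ((closure_le _).2 (by simpa using hg₁))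
    have hAB : A ≤ B := hB ▸ le_sup_left
    have h2 : 2 ≤ A.relIndex B := by
      rcases Nat.lt_or_ge (A.relIndex B) 2 with h | h
      · have hpos : A.relIndex B ≠ 0 := Subgroup.index_ne_zero_of_finite
        have : A.relIndex B = 1 := by omega
        exact absurd (Subgroup.relIndex_eq_one.1 this (hB ▸ mem_sup_right (subset_closure rfl))) hg₁A
      · exact h
    have hmul := Subgroup.relIndex_mul_relIndex A B P hAB hBP
    by_cases h3 : P ≤ B
    · exact ⟨g₁, hg₁, g₁, hg₁, h3.trans (hB ▸ sup_le le_sup_left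
        (le_trans (closure_mono (by simp)) le_sup_right))⟩
    obtain ⟨g₂, hg₂, hg₂B⟩ := SetLike.not_le_iff_exists.1 h3
    obtain ⟨B', hB'⟩ : ∃ B', B' = B ⊔ closure {g₂} := ⟨_, rfl⟩
    have hB'P : B' ≤ P := hB' ▸ sup_le hBP ((closure_le _).2 (by simpa using hg₂))
    have hBB : B ≤ B' := hB' ▸ le_sup_left
    have h4 : 2 ≤ B.relIndex B' := by
      rcases Nat.lt_or_ge (B.relIndex B') 2 with h | h
      · have hpos : B.relIndex B' ≠ 0 := Subgroup.index_ne_zero_of_finite
        have : B.relIndex B' = 1 := by omega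
        exact absurd (Subgroup.relIndex_eq_one.1 this (hB' ▸ mem_sup_right (subset_closure rfl))) hg₂B
      · exact h
    have hmul2 := Subgroup.relIndex_mul_relIndex B B' P hBB hB'P
    have hpos : B'.relIndex P ≠ 0 := Subgroup.index_ne_zero_of_finite
    have h5 : B'.relIndex P = 1 := by
      by_contra h6
      have h7 : 2 * (2 * 2) ≤ A.relIndex B * (B.relIndex B' * B'.relIndex P) :=
        Nat.mul_le_mul h2 (Nat.mul_le_mul h4 (by omega))
      rw [hmul2, hmul] at h7
      omega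
    refine ⟨g₁, hg₁, g₂, hg₂, (Subgroup.relIndex_eq_one.1 h5).trans ?_⟩
    rw [hB', hB, sup_assoc, ← Subgroup.closure_union, Set.singleton_union]
  obtain ⟨-, k1⟩ := conj_cases_index hP hg₁ hA
  obtain ⟨-, k2⟩ := conj_cases_index hP hg₂ (A := A ⊓ centralizer ({g₁} : Set G)) (inf_le_left.trans hA)
  obtain ⟨D, hD⟩ : ∃ D, D = A ⊓ centralizer ({g₁} : Set G) ⊓ centralizer ({g₂} : Set G) := ⟨_, rfl⟩
  have hDA : D ≤ A := hD ▸ inf_le_left.trans inf_le_left
  have hDc : ∀ d ∈ D, d = 1 ∨ d = c := fun d hd => by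
    refine hP.eq_of_central (hA (hDA hd)) fun b hb => ?_
    have hdm : d ∈ centralizer ({g₁} : Set G) ∧ d ∈ centralizer ({g₂} : Set G) := by
      rw [hD] at hd; exact ⟨hd.1.2, hd.2⟩
    have hle : A ⊔ closure {g₁, g₂} ≤ centralizer ({d} : Set G) := sup_le
      (fun a ha => mem_centralizer_singleton_iff.2 (hab a ha d (hDA hd)))
      ((closure_le _).2 fun x hx => by
        rcases hx with rfl | rfl
        exacts [mem_centralizer_singleton_iff.2 (mem_centralizer_singleton_iff.1 hdm.1).symm,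
          mem_centralizer_singleton_iff.2 (mem_centralizer_singleton_iff.1 hdm.2).symm])
    exact (mem_centralizer_singleton_iff.1 (hle (hgen hb))).symm
  have hD2 : Nat.card D ≤ 2 := by
    classical
    haveI := Fintype.ofFinite D
    rw [Nat.card_eq_fintype_card, ← Finset.card_univ,
      ← Finset.card_map ⟨((↑) : D → G), Subtype.val_injective⟩]
    refine (Finset.card_le_card (t := ({1, c} : Finset G)) fun x hx => ?_).trans Finset.card_le_two
    simp only [Finset.mem_map, Finset.mem_univ, true_and, Function.Embedding.coeFn_mk] at hx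
    obtain ⟨x, rfl⟩ := hx
    rcases hDc x x.2 with e | e <;> simp [e]
  have hDmul : Nat.card D * D.relIndex A = Nat.card A := by
    have h1 := Subgroup.relIndex_mul_relIndex ⊥ D A bot_le hDA
    rwa [Subgroup.relIndex_bot_left, Subgroup.relIndex_bot_left] at h1
  have hDi : D.relIndex A ≤ 4 := by
    rw [← Subgroup.relIndex_mul_relIndex D (A ⊓ centralizer ({g₁} : Set G)) A (hD ▸ inf_le_left) inf_le_left]
    rw [← hD] at k2
    calc _ ≤ 2 * 2 := Nat.mul_le_mul k2 k1
      _ = 4 := rfl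
  have : Nat.card A ≤ 8 := hDmul ▸ (Nat.mul_le_mul hD2 hDi)
  have : Nat.card P ≤ 32 := hcardA ▸ (Nat.mul_le_mul this hi)
  omega

/-- The facts at a point. -/
structure PointFacts (Q T M : Subgroup G) (z s x : G) : Prop where
  pair : Pair Q T z s
  card : 64 ≤ Nat.card Q
  M_le : M ≤ centralizer ({z} : Set G)
  Q_le : Q ≤ M
  M_two : ∀ a b : G, a * z = z * a → b * z = z * b → a ∉ M → b ∉ M → a * b ∈ M
  M_norm : centralizer ({z} : Set G) ≤ normalizer (M : Set G)
  xz : x * z = z * x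
  xnorm : x ∈ normalizer ((closure (Set.range ![z, s, x * s * x⁻¹]) : Subgroup G) : Set G)
  ymem : x * s * x⁻¹ ∈ Q
  ynot : x * s * x⁻¹ ∉ closure ({z, s} : Set G)
  lin : ∀ m ∈ M, m * s = s * m →
    m * (x * s * x⁻¹) * m⁻¹ = x * s * x⁻¹ ∨ m * (x * s * x⁻¹) * m⁻¹ = z * (x * s * x⁻¹)
  stab : ∃ R : Subgroup G,
    R = Cfsg.pCoreOf 2 (M ⊓ centralizer ((closure (Set.range ![z, s, x * s * x⁻¹]) : Subgroup G) : Set G)) ∧
    Nat.card R = 2 ^ 15 ∧
    (∃ π : ↥(M ⊓ centralizer ((closure (Set.range ![z, s, x * s * x⁻¹]) : Subgroup G) : Set G)) →*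
        ↥(alternatingGroup (Fin 6)), Function.Surjective π ∧ ∀ m, π m = 1 ↔ (m : G) ∈ R) ∧
    (∀ r ∈ R, (∀ a ∈ Q, a ∈ centralizer ((closure (Set.range ![z, s, x * s * x⁻¹]) : Subgroup G) : Set G) →
      r * a = a * r) → r ∈ closure (Set.range ![z, s, x * s * x⁻¹])) ∧
    (∀ a ∈ Q, a ∈ centralizer ((closure (Set.range ![z, s, x * s * x⁻¹]) : Subgroup G) : Set G) →
      ∀ r ∈ R, a * r * a⁻¹ * r⁻¹ ∈ closure (Set.range ![z, s, x * s * x⁻¹])) ∧
    (∀ r ∈ R, r ∉ Q → ∃ a ∈ Q,
      a ∈ centralizer ((closure (Set.range ![z, s, x * s * x⁻¹]) : Subgroup G) : Set G) ∧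
      r * a * r⁻¹ * a⁻¹ ∉ closure ({z, s} : Set G)) ∧
    ∀ S : Subgroup G,
      Q ⊓ centralizer ((closure (Set.range ![z, s, x * s * x⁻¹]) : Subgroup G) : Set G) ≤ S → S ≤ R →
      M ⊓ centralizer ((closure (Set.range ![z, s, x * s * x⁻¹]) : Subgroup G) : Set G) ≤ normalizer (S : Set G) →
      S = Q ⊓ centralizer ((closure (Set.range ![z, s, x * s * x⁻¹]) : Subgroup G) : Set G) ∨ S = R

namespace PointFacts

variable {Q T M : Subgroup G} {z s x : G} (d : PointFacts Q T M z s x)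
include d

local notation "y" => x * s * x⁻¹
local notation "V" => closure (Set.range ![z, s, x * s * x⁻¹])

theorem mem_V : z ∈ V ∧ s ∈ V ∧ y ∈ V :=
  ⟨subset_closure ⟨0, rfl⟩, subset_closure ⟨1, rfl⟩, subset_closure ⟨2, rfl⟩⟩

theorem s_mem : s ∈ Q := d.pair.xmem

theorem V_le_Q : V ≤ Q := by
  rw [closure_le]
  rintro _ ⟨i, rfl⟩
  fin_cases i
  exacts [d.pair.left.mem, d.pair.xmem, d.ymem]

/-- The third element lies in `T` as well. -/
theorem ymem_right : y ∈ T := by
  obtain ⟨R, hR, -, ⟨π, hπ, hπk⟩, -, hcomm, hmove, -⟩ := d.stab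
  have hsV := d.mem_V
  have hUV : closure ({z, s} : Set G) ≤ V := by
    rw [closure_le]
    rintro u (rfl | rfl)
    exacts [hsV.1, hsV.2.1]
  -- an element of `M ∩ T` centralising `z`, outside `Q`
  obtain ⟨D, hD⟩ : ∃ D, D = T ⊓ centralizer ({z} : Set G) ⊓ M := ⟨_, rfl⟩
  have hDT : D ≤ T := hD ▸ inf_le_left.trans inf_le_left
  have hDi : D.relIndex T ≤ 4 := by
    obtain ⟨-, k1⟩ := conj_cases_index d.pair.right d.pair.zmem (le_refl T)
    have k2 : D.relIndex (T ⊓ centralizer ({z} : Set G)) ≤ 2 := by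
      by_cases hall : T ⊓ centralizer ({z} : Set G) ≤ M
      · rw [hD, inf_eq_left.2 hall, Subgroup.relIndex_self]; norm_num
      obtain ⟨a, ha, haM⟩ := SetLike.not_le_iff_exists.1 hall
      refine le_of_eq (Subgroup.index_eq_two_iff.2 ⟨⟨a, ha⟩, fun b => ?_⟩)
      rw [mem_subgroupOf, mem_subgroupOf, hD]
      show Xor _ _
      by_cases hb : (b : G) ∈ M
      · refine Or.inr ⟨⟨b.2, hb⟩, fun h => haM ?_⟩
        have := mul_mem (inv_mem hb) h.2
        simpa [← mul_assoc] using this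
      · exact Or.inl ⟨⟨mul_mem b.2 ha, d.M_two _ _ (mem_centralizer_singleton_iff.1 b.2.2)
          (mem_centralizer_singleton_iff.1 ha.2) hb haM⟩, fun h => hb h.2⟩
    rw [← Subgroup.relIndex_mul_relIndex D (T ⊓ centralizer ({z} : Set G)) T (hD ▸ inf_le_left) inf_le_left]
    calc _ ≤ 2 * 2 := Nat.mul_le_mul k2 k1
      _ = 4 := rfl
  have hcT : 64 ≤ Nat.card T := by
    obtain ⟨g, hg, -⟩ := d.pair.isconj
    rw [hg, card_map_of_injective (MulEquiv.injective _)]
    exact d.card
  obtain ⟨r, hr, hrQ⟩ : ∃ r ∈ D, r ∉ Q := by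
    by_contra hn
    push Not at hn
    exact not_abelian d.pair.right hcT hDT hDi fun a ha b hb =>
      congrArg Subtype.val (d.pair.elementary.1.1.1 ⟨a, hn a ha, hDT ha⟩ ⟨b, hn b hb, hDT hb⟩)
  rw [hD] at hr
  have hrz : r * z = z * r := mem_centralizer_singleton_iff.1 hr.1.2
  have hrs : r * s = s * r := d.pair.right.comm_z hr.1.1
  -- adjust by an element of `Q` to centralise `V`
  obtain ⟨q, hq, hqz, hqs, hqy⟩ := exists_transvection d.pair.left d.ymem d.pair.xmem d.pair.hx2
    ⟨d.pair.right.z_ne, d.pair.ne⟩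
    ⟨fun e => d.ynot (by rw [e]; exact one_mem _),
      fun e => d.ynot (by rw [e]; exact subset_closure (Set.mem_insert z {s})),
      fun e => d.ynot (by rw [e]; exact subset_closure (Set.mem_insert_of_mem z rfl)),
      fun e => d.ynot (by
        rw [e]
        exact mul_mem (subset_closure (Set.mem_insert z {s})) (subset_closure (Set.mem_insert_of_mem z rfl)))⟩
  have hcen : ∀ w : G, w * z = z * w → w * s = s * w → w * y = y * w → w ∈ centralizer (V : Set G) :=
    fun w h1 h2 h3 => mem_centralizer_iff.2 fun v hv => by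
      have hle : V ≤ centralizer ({w} : Set G) := by
        rw [closure_le]
        rintro _ ⟨i, rfl⟩
        fin_cases i
        exacts [mem_centralizer_singleton_iff.2 h1.symm, mem_centralizer_singleton_iff.2 h2.symm,
          mem_centralizer_singleton_iff.2 h3.symm]
      exact mem_centralizer_singleton_iff.1 (hle hv)
  obtain ⟨a₀, ha₀, hw⟩ : ∃ a₀ ∈ Q, a₀ * s = s * a₀ ∧ r * a₀ ∈ M ⊓ centralizer (V : Set G) := by
    rcases d.lin r hr.2 hrs with e | e
    · exact ⟨1, one_mem _, by simp, by rw [mul_one]; exact ⟨hr.2, hcen r hrz hrs (mul_inv_eq_iff_eq_mul.1 e)⟩⟩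
    · have hqs' : q * s = s * q := mul_inv_eq_iff_eq_mul.1 hqy
      have hqz' : q * z = z * q := mul_inv_eq_iff_eq_mul.1 hqz
      refine ⟨q, hq, hqs', mul_mem hr.2 (d.Q_le hq), hcen _ ?_ ?_ ?_⟩
      · rw [mul_assoc, hqz', ← mul_assoc, hrz, mul_assoc]
      · rw [mul_assoc, hqs', ← mul_assoc, hrs, mul_assoc]
      · refine mul_inv_eq_iff_eq_mul.1 ?_
        rw [show r * q * y * (r * q)⁻¹ = r * (q * y * q⁻¹) * r⁻¹ by group, hqs,
          show r * (z * y) * r⁻¹ = r * z * r⁻¹ * (r * y * r⁻¹) by group, e,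
          mul_inv_eq_iff_eq_mul.2 hrz, ← mul_assoc, d.pair.hz2, one_mul]
  obtain ⟨ha₀s, hw⟩ := hw
  -- it lies in the core
  obtain ⟨S, hS⟩ : ∃ S, S = ((T ⊓ centralizer ({z} : Set G)) ⊔ (Q ⊓ centralizer ({s} : Set G))) ⊓
      (M ⊓ centralizer (V : Set G)) := ⟨_, rfl⟩
  have hSR : S ≤ R := by
    rw [hR]
    refine Amalgam.le_pCoreOf (hS ▸ inf_le_right) (fun m hm => ?_)
      (d.pair.isPGroup_rad.to_le (hS ▸ inf_le_left))
    refine mem_normalizer_iff_map_conj_eq.2 (eq_of_le_of_card_ge ?_ (le_of_eq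
      (card_map_of_injective (MulEquiv.injective _)).symm))
    have hmz : m * z = z * m := mem_centralizer_singleton_iff.1 (d.M_le hm.1)
    have hms : m * s = s * m := (mem_centralizer_iff.1 hm.2 s hsV.2.1).symm
    rintro _ ⟨a, ha, rfl⟩
    rw [hS] at ha ⊢
    obtain ⟨ha1, ha2⟩ := ha
    refine ⟨?_, Subgroup.mul_mem _ (Subgroup.mul_mem _ hm ha2) (Subgroup.inv_mem _ hm)⟩
    have hcl : ((T ⊓ centralizer ({z} : Set G)) ⊔ (Q ⊓ centralizer ({s} : Set G))).map
        (MulAut.conj m).toMonoidHom ≤ (T ⊓ centralizer ({z} : Set G)) ⊔ (Q ⊓ centralizer ({s} : Set G)) := by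
      rw [Subgroup.map_sup]
      have hc : ∀ w a : G, m * w = w * m → a * w = w * a → m * a * m⁻¹ * w = w * (m * a * m⁻¹) :=
        fun w a h1 h2 => ((show Commute m w from h1).mul_left h2).mul_left
          (show Commute m w from h1).inv_left
      refine sup_le_sup ?_ ?_ <;> rintro _ ⟨b, ⟨hb, hb'⟩, rfl⟩
      · exact ⟨d.pair.conj_mem_right hms hb, mem_centralizer_singleton_iff.2
          (hc z b hmz (mem_centralizer_singleton_iff.1 hb'))⟩
      · exact ⟨d.pair.conj_mem_left hmz hb, mem_centralizer_singleton_iff.2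
          (hc s b hms (mem_centralizer_singleton_iff.1 hb'))⟩
    exact hcl ⟨a, ha1, rfl⟩
  have hrR : r * a₀ ∈ R := hSR (hS ▸ ⟨mul_mem (mem_sup_left hr.1)
    (mem_sup_right ⟨ha₀, mem_centralizer_singleton_iff.2 ha₀s⟩), hw⟩)
  obtain ⟨a, ha, hac, hout⟩ := hmove _ hrR fun h => hrQ (by
    simpa using mul_mem h (inv_mem ha₀))
  -- the commutator lies in `V ∩ T`, outside the four-group
  obtain ⟨w, hwd⟩ : ∃ w, w = r * a₀ * a * (r * a₀)⁻¹ * a⁻¹ := ⟨_, rfl⟩
  rw [← hwd] at hout
  have hwV : w ∈ V := by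
    have h := hcomm a ha hac _ hrR
    rw [hwd, show r * a₀ * a * (r * a₀)⁻¹ * a⁻¹ = (a * (r * a₀) * a⁻¹ * (r * a₀)⁻¹)⁻¹ by group]
    exact inv_mem h
  have has : a * s = s * a := (mem_centralizer_iff.1 hac s hsV.2.1).symm
  have hza : a₀ * a * a₀⁻¹ * a⁻¹ ∈ closure ({z, s} : Set G) := by
    rcases d.pair.left.comm_cases ha₀ ha with e | e <;> rw [e]
    exacts [one_mem _, subset_closure (by simp)]
  have hraT : r * a * r⁻¹ * a⁻¹ ∈ T := by
    rw [show r * a * r⁻¹ * a⁻¹ = r * (a * r⁻¹ * a⁻¹) by group]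
    exact mul_mem hr.1.1 (d.pair.conj_mem_right has (inv_mem hr.1.1))
  have hwT : w ∈ T := by
    have e : w = r * (a₀ * a * a₀⁻¹ * a⁻¹) * r⁻¹ * (r * a * r⁻¹ * a⁻¹) := by rw [hwd]; group
    rw [e]
    refine mul_mem (mul_mem (mul_mem hr.1.1 ?_) (inv_mem hr.1.1)) hraT
    exact ((closure_le _).2 (by
      rintro u (rfl | rfl)
      exacts [d.pair.zmem, d.pair.right.mem]) : closure ({z, s} : Set G) ≤ T) hza
  have hU : closure ({z, s} : Set G) ≤ T := (closure_le _).2 (by
    rintro u (rfl | rfl)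
    exacts [d.pair.zmem, d.pair.right.mem])
  have hy2 : y * y = 1 := by
    rw [show y * y = x * (s * s) * x⁻¹ by group, d.pair.hx2]; group
  have hyi : y⁻¹ = y := inv_eq_of_mul_eq_one_right hy2
  have hyU : ∀ u ∈ closure ({z, s} : Set G), y * u * y ∈ closure ({z, s} : Set G) := by
    intro u hu
    have h := d.pair.conj_mem_four (mem_sup_left d.ymem) hu
    rwa [hyi] at h
  have hsplit : ∀ v ∈ V, v ∈ closure ({z, s} : Set G) ∨ y * v ∈ closure ({z, s} : Set G) := by
    intro v hv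
    induction hv using closure_induction with
    | mem v hv =>
      obtain ⟨i, rfl⟩ := hv
      fin_cases i
      · exact Or.inl (subset_closure (Set.mem_insert z {s}))
      · exact Or.inl (subset_closure (Set.mem_insert_of_mem z rfl))
      · refine Or.inr ?_
        show y * y ∈ _
        rw [hy2]; exact one_mem _
    | one => exact Or.inl (one_mem _)
    | mul u v _ _ hu hv =>
      rcases hu with hu | hu <;> rcases hv with hv | hv
      · exact Or.inl (mul_mem hu hv)
      · refine Or.inr ?_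
        rw [show y * (u * v) = y * u * y * (y⁻¹ * v) by group, hyi]
        exact mul_mem (hyU u hu) hv
      · refine Or.inr ?_
        rw [← mul_assoc]; exact mul_mem hu hv
      · refine Or.inl ?_
        have h1 := hyU _ hu
        rw [← mul_assoc y y u, hy2, one_mul] at h1
        rw [show u * v = u * y * (y⁻¹ * v) by group, hyi]
        exact mul_mem h1 hv
    | inv u _ hu =>
      rcases hu with hu | hu
      · exact Or.inl (inv_mem hu)
      · refine Or.inr ?_
        have h1 := hyU _ (inv_mem hu)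
        rw [mul_inv_rev, hyi, mul_assoc y (u⁻¹ * y) y, mul_assoc u⁻¹ y y, hy2, mul_one] at h1
        exact h1
  rcases hsplit w hwV with h | h
  · exact absurd h hout
  · have h' := mul_mem (hU h) (inv_mem hwT)
    rwa [mul_inv_cancel_right] at h'

theorem V_le_T : V ≤ T := by
  rw [closure_le]
  rintro _ ⟨k, rfl⟩
  fin_cases k
  exacts [d.pair.zmem, d.pair.right.mem, d.ymem_right]

/-- The three subgroups. -/
theorem exists_tri : ∃ S, Tri ![Q, T, S] ![z, s, y] ∧
    ∃ k, S = Q.map (MulAut.conj k).toMonoidHom ∧ y = k * z * k⁻¹ := by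
  obtain ⟨g, hg, hs⟩ := d.pair.isconj
  have hk : y = x * g * z * (x * g)⁻¹ := by
    rw [show x * g * z * (x * g)⁻¹ = x * (g * z * g⁻¹) * x⁻¹ by group, ← hs]
  refine ⟨_, ⟨fun i => ?_, fun i j => ?_, d.pair.ne, d.ynot⟩, x * g, rfl, hk⟩
  · fin_cases i
    · exact d.pair.left
    · exact d.pair.right
    · show Pack (Q.map (MulAut.conj (x * g)).toMonoidHom) y
      rw [hk]; exact d.pair.left.map _
  · fin_cases i
    · exact d.V_le_Q (subset_closure ⟨j, rfl⟩)
    · exact d.V_le_T (subset_closure ⟨j, rfl⟩)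
    · show _ ∈ Q.map (MulAut.conj (x * g)).toMonoidHom
      have h := d.V_le_T ((mem_normalizer_iff.1 (inv_mem d.xnorm) _).1
        (subset_closure (Set.mem_range_self j)))
      rw [hg] at h
      obtain ⟨b, hb, e⟩ := h
      refine ⟨b, hb, ?_⟩
      show x * g * b * (x * g)⁻¹ = _
      rw [show x * g * b * (x * g)⁻¹ = x * (g * b * g⁻¹) * x⁻¹ by group,
        show g * b * g⁻¹ = _ from e]
      group

/-- The normaliser structure. -/
theorem exists_data : ∃ S R, TriData ![Q, T, S] ![z, s, y] R := by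
  obtain ⟨S, t, k, hS, hk⟩ := d.exists_tri
  have hV := d.mem_V
  have hVQ := d.V_le_Q
  -- a transvection of `T` inside the centraliser of `z`, outside `M`
  obtain ⟨l, hlT, hl2, hlk⟩ := t.exists_elementary 1 2 (by decide)
  have hlz : l * z = z * l := mul_inv_eq_iff_eq_mul.1 (hlk 0 (by decide))
  have hls : l * s = s * l := mul_inv_eq_iff_eq_mul.1 (hlk 1 (by decide))
  have hly : l * y * l⁻¹ = s * y := hl2
  have hbad : ∀ w, w = z * y ∨ w = y → w ≠ s * y := by
    rintro w (rfl | rfl) e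
    · exact d.pair.ne (mul_right_cancel e).symm
    · exact d.pair.right.z_ne (mul_eq_right.1 e.symm)
  have hlM : l ∉ M := fun h => by
    rcases d.lin l h hls with e | e
    exacts [hbad _ (Or.inr rfl) (e.symm.trans hly), hbad _ (Or.inl rfl) (e.symm.trans hly)]
  have hC : centralizer (V : Set G) = M ⊓ centralizer (V : Set G) := by
    refine le_antisymm (fun w hw => ⟨?_, hw⟩) inf_le_right
    by_contra hwM
    have hwz : w * z = z * w := (mem_centralizer_iff.1 hw z hV.1).symm
    have hws : w * s = s * w := (mem_centralizer_iff.1 hw s hV.2.1).symm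
    have hwy : w * y = y * w := (mem_centralizer_iff.1 hw y hV.2.2).symm
    have hlw : l * w ∈ M := d.M_two l w hlz hwz hlM hwM
    have e1 : l * w * s = s * (l * w) := by rw [mul_assoc, hws, ← mul_assoc, hls, mul_assoc]
    have e2 : l * w * y * (l * w)⁻¹ = s * y := by
      rw [show l * w * y * (l * w)⁻¹ = l * (w * y * w⁻¹) * l⁻¹ by group,
        mul_inv_eq_iff_eq_mul.2 hwy, hly]
    rcases d.lin _ hlw e1 with e | e
    exacts [hbad _ (Or.inr rfl) (e.symm.trans e2), hbad _ (Or.inl rfl) (e.symm.trans e2)]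
  obtain ⟨R, hR, hcard, ⟨π, hπ, hπk⟩, hcen, hcomm, -, hirr⟩ := d.stab
  rw [← hC] at hR hirr
  obtain ⟨ι, hι⟩ : ∃ ι : ↥(centralizer (V : Set G)) →* ↥(M ⊓ centralizer (V : Set G)), ∀ w, (ι w : G) = w :=
    ⟨Subgroup.inclusion hC.le, fun _ => rfl⟩
  have hidx : (T ⊓ centralizer (V : Set G)).relIndex T ≤ 4 ∧
      (Q ⊓ centralizer (V : Set G)).relIndex Q ≤ 4 := by
    have hgen : ∀ {P : Subgroup G} {c a b : G}, Pack P c → a ∈ P → b ∈ P →
        (∀ v ∈ V, v ∈ closure ({c, a, b} : Set G)) → (P ⊓ centralizer (V : Set G)).relIndex P ≤ 4 := by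
      intro P c a b hP ha hb hle
      obtain ⟨-, k1⟩ := conj_cases_index hP ha (le_refl P)
      obtain ⟨-, k2⟩ := conj_cases_index hP hb (A := P ⊓ centralizer ({a} : Set G)) inf_le_left
      have hsub : P ⊓ centralizer ({a} : Set G) ⊓ centralizer ({b} : Set G) ≤
          P ⊓ centralizer (V : Set G) := fun w hw => ⟨hw.1.1, mem_centralizer_iff.2 fun v hv => by
        have h : closure ({c, a, b} : Set G) ≤ centralizer ({w} : Set G) := by
          rw [closure_le]
          rintro u (rfl | rfl | rfl)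
          exacts [mem_centralizer_singleton_iff.2 (hP.comm_z hw.1.1).symm,
            mem_centralizer_singleton_iff.2 (mem_centralizer_singleton_iff.1 hw.1.2).symm,
            mem_centralizer_singleton_iff.2 (mem_centralizer_singleton_iff.1 hw.2).symm]
        exact mem_centralizer_singleton_iff.1 (h (hle v hv))⟩
      have hne : (P ⊓ centralizer ({a} : Set G) ⊓ centralizer ({b} : Set G)).relIndex P ≠ 0 :=
        Subgroup.index_ne_zero_of_finite
      refine (Subgroup.relIndex_le_of_le_left hsub hne).trans ?_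
      rw [← Subgroup.relIndex_mul_relIndex (P ⊓ centralizer ({a} : Set G) ⊓ centralizer ({b} : Set G))
        (P ⊓ centralizer ({a} : Set G)) P inf_le_left inf_le_left]
      calc _ ≤ 2 * 2 := Nat.mul_le_mul k2 k1
        _ = 4 := rfl
    refine ⟨hgen d.pair.right d.pair.zmem d.ymem_right fun v hv => ?_,
      hgen d.pair.left d.pair.xmem d.ymem fun v hv => ?_⟩
    · refine (closure_le _).2 ?_ hv
      rintro _ ⟨i, rfl⟩
      fin_cases i
      exacts [subset_closure (Or.inr (Or.inl rfl)), subset_closure (Or.inl rfl),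
        subset_closure (Or.inr (Or.inr rfl))]
    · refine (closure_le _).2 ?_ hv
      rintro _ ⟨i, rfl⟩
      fin_cases i
      exacts [subset_closure (Or.inl rfl), subset_closure (Or.inr (Or.inl rfl)),
        subset_closure (Or.inr (Or.inr rfl))]
  have hcT : 64 ≤ Nat.card T := by
    obtain ⟨g, hg, -⟩ := d.pair.isconj
    rw [hg, card_map_of_injective (MulEquiv.injective _)]
    exact d.card
  refine ⟨S, R, ⟨t, fun i => ?_, hR, hcard, ⟨π.comp ι, fun a => ?_, fun w => ?_⟩, hcen, hcomm, hirr, ?_, ?_⟩⟩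
  · fin_cases i
    · refine ⟨1, ?_, ?_⟩
      · show Q = Q.map (MulAut.conj (1 : G)).toMonoidHom
        ext w; simp
      · show z = 1 * z * 1⁻¹
        group
    · exact d.pair.isconj
    · exact ⟨k, hS, hk⟩
  · obtain ⟨m, rfl⟩ := hπ a
    refine ⟨⟨m, m.2.2⟩, ?_⟩
    show π (ι _) = π m
    exact congrArg π (Subtype.ext (hι _))
  · show π (ι w) = 1 ↔ _
    rw [hπk, hι]
  · intro hle
    exact not_abelian d.pair.right hcT inf_le_left hidx.1 fun a ha b hb =>
      congrArg Subtype.val (d.pair.elementary.1.1.1 ⟨a, hle ha, ha.1⟩ ⟨b, hle hb, hb.1⟩)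
  · by_contra hn
    push Not at hn
    exact not_abelian d.pair.left d.card inf_le_left hidx.2 fun a ha b hb => by
      rcases d.pair.left.comm_cases ha.1 hb.1 with e | e
      · exact mul_inv_eq_iff_eq_mul.1 (mul_inv_eq_one.1 e)
      · exact absurd e (hn a ha.1 b hb.1 ha.2 hb.2)

end PointFacts

end CfsgLib.Trans3.FischerType
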