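import Cfsg.Agent.Lib.Trans3.FischerType.TripleAction
import Cfsg.Agent.Lib.Amalgam.PCoreOf
import Cfsg.Agent.Lib.Transfer.PPrimeAut
import Cfsg.Agent.Lib.InvChar.TripleAlt

/-!
The structure of the normaliser of an elementary abelian group of order eight in three extraspecial
subgroups: a special group extended by `SL₃(2) × A₆`.
-/

set_option autoImplicit false
set_option linter.unusedSectionVars false

namespace CfsgLib.Trans3.FischerType

open Subgroup CfsgLib.PLocal.LargeExtra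
open scoped MatrixGroups commutatorElement

theorem zmod_two_one : ∀ a : ZMod 2, a ≠ 0 → a = 1 := by decide

theorem zmod_two_swap : ∀ a b : ZMod 2, a = b + a + b := by decide

/-- `SL₃(2)` has no non-trivial normal 2-subgroup. -/
theorem sl_three_two_no_two_core {N : Subgroup SL(3, ZMod 2)} (hN : N.Normal) (hp : IsPGroup 2 ↥N) :
    N = ⊥ := by
  haveI : Fact (Nat.Prime 2) := ⟨Nat.prime_two⟩
  letI : MulAction SL(3, ZMod 2) (Fin 3 → ZMod 2) :=
    { smul := fun A v => (A : Matrix (Fin 3) (Fin 3) (ZMod 2)).mulVec v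
      one_smul := fun v => Matrix.one_mulVec v
      mul_smul := fun A B v => (Matrix.mulVec_mulVec v _ _).symm }
  have hdef : ∀ (A : SL(3, ZMod 2)) (v : Fin 3 → ZMod 2),
      A • v = (A : Matrix (Fin 3) (Fin 3) (ZMod 2)).mulVec v := fun A v => rfl
  obtain ⟨F, hF⟩ : ∃ F, F = MulAction.fixedPoints ↥N (Fin 3 → ZMod 2) := ⟨_, rfl⟩
  have hmem : ∀ v, v ∈ F ↔ ∀ n ∈ N, (n : Matrix (Fin 3) (Fin 3) (ZMod 2)).mulVec v = v := fun v => by
    rw [hF]
    exact ⟨fun h n hn => h ⟨n, hn⟩, fun h n => h n n.2⟩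
  have h0 : (0 : Fin 3 → ZMod 2) ∈ F := (hmem 0).2 fun n _ => Matrix.mulVec_zero _
  have hadd : ∀ v ∈ F, ∀ w ∈ F, v + w ∈ F := fun v hv w hw => (hmem _).2 fun n hn => by
    rw [Matrix.mulVec_add, (hmem v).1 hv n hn, (hmem w).1 hw n hn]
  have hinv : ∀ (A : SL(3, ZMod 2)), ∀ v ∈ F, A • v ∈ F := fun A v hv => (hmem _).2 fun n hn => by
    have h := (hmem v).1 hv _ (hN.conj_mem n hn A⁻¹)
    rw [← hdef] at h ⊢
    rw [inv_inv, mul_smul, mul_smul, inv_smul_eq_iff] at h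
    exact h
  have htwo : ∃ v ∈ F, v ≠ 0 := by
    by_contra hn
    push Not at hn
    have h1 : F = {0} := Set.ext fun v => ⟨fun hv => hn v hv, fun hv => hv ▸ h0⟩
    have h2 := hp.card_modEq_card_fixedPoints (α := Fin 3 → ZMod 2)
    rw [← hF, h1, Nat.card_coe_set_eq, Set.ncard_singleton, Nat.ModEq] at h2
    simp at h2
  obtain ⟨v, hv, hv0⟩ := htwo
  obtain ⟨j, hj⟩ : ∃ j, v j ≠ 0 := by
    by_contra hn
    push Not at hn
    exact hv0 (funext hn)
  have hj1 : v j = 1 := zmod_two_one _ hj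
  have hsingle : ∀ i j : Fin 3, i ≠ j → ∀ w ∈ F, w j = 1 → Pi.single i 1 ∈ F := by
    intro i j hij w hw hwj
    have h := hadd _ (hinv (Matrix.SpecialLinearGroup.transvection hij (1 : ZMod 2)) w hw) w hw
    rw [hdef, show ((Matrix.SpecialLinearGroup.transvection hij (1 : ZMod 2) : SL(3, ZMod 2)) :
      Matrix (Fin 3) (Fin 3) (ZMod 2)) = Matrix.transvection i j 1 from rfl] at h
    convert h using 1
    have key : ∀ i j : Fin 3, ∀ w : Fin 3 → ZMod 2, i ≠ j → w j = 1 → ∀ a,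
        (Pi.single i 1 : Fin 3 → ZMod 2) a =
          (Matrix.transvection i j (1 : ZMod 2)).mulVec w a + w a := by
      intro i j w _ hwj a
      rw [Matrix.transvection, Matrix.add_mulVec, Matrix.one_mulVec]
      simp only [Pi.add_apply, Matrix.single_mulVec, hwj]
      rw [one_mul]
      simpa [Pi.single_apply, Function.update_apply] using zmod_two_swap _ (w a)
    exact funext fun a => key i j w hij hwj a
  have hall : ∀ i, (Pi.single i 1 : Fin 3 → ZMod 2) ∈ F := fun i => by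
    by_cases hij : i = j
    · subst hij
      obtain ⟨k, hk⟩ : ∃ k : Fin 3, k ≠ i := exists_ne i
      exact hsingle i k hk.symm _ (hsingle k i hk v hv hj1) (by simp)
    · exact hsingle i j hij v hv hj1
  refine (Subgroup.eq_bot_iff_forall _).2 fun n hn => Subtype.ext ?_
  refine Matrix.ext_of_mulVec_single fun i => ?_
  rw [(hmem _).1 (hall i) n hn, Matrix.SpecialLinearGroup.coe_one, Matrix.one_mulVec]

/-- `A₆` has trivial centre. -/
theorem center_alternating_six : Subgroup.center ↥(alternatingGroup (Fin 6)) = ⊥ := by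
  haveI := alternatingGroup.isSimpleGroup (α := Fin 6) (by simp)
  refine ((Subgroup.center ↥(alternatingGroup (Fin 6))).normal_of_characteristic.eq_bot_or_eq_top).resolve_right
    fun e => ?_
  have : ∀ a b : ↥(alternatingGroup (Fin 6)), a * b = b * a := fun a b =>
    mem_center_iff.1 (e ▸ mem_top b : b ∈ Subgroup.center _) a
  obtain ⟨a, b, hab⟩ : ∃ a b : Equiv.Perm (Fin 6), a ∈ alternatingGroup (Fin 6) ∧
      b ∈ alternatingGroup (Fin 6) ∧ a * b ≠ b * a :=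
    ⟨Equiv.swap 0 1 * Equiv.swap 1 2, Equiv.swap 1 2 * Equiv.swap 2 3,
      Equiv.Perm.mem_alternatingGroup.2 (by simp), Equiv.Perm.mem_alternatingGroup.2 (by simp), by decide⟩
  exact hab.2.2 (congrArg Subtype.val (this ⟨a, hab.1⟩ ⟨b, hab.2.1⟩))

/-- `A₆` has no non-trivial normal 2-subgroup. -/
theorem alternating_six_no_two_core {N : Subgroup ↥(alternatingGroup (Fin 6))} (hN : N.Normal)
    (hp : IsPGroup 2 ↥N) : N = ⊥ := by
  haveI := alternatingGroup.isSimpleGroup (α := Fin 6) (by simp)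
  haveI : Fact (Nat.Prime 2) := ⟨Nat.prime_two⟩
  refine hN.eq_bot_or_eq_top.resolve_right fun e => ?_
  subst e
  obtain ⟨n, hn⟩ := hp.exists_card_eq
  have h : Nat.card ↥(alternatingGroup (Fin 6)) = 360 := InvChar.TripleAlt.card_six
  rw [Subgroup.card_top, h] at hn
  have h3 : 3 ∣ 2 ^ n := hn ▸ (by norm_num : 3 ∣ 360)
  exact absurd (Nat.prime_three.dvd_of_dvd_pow h3) (by norm_num)

variable {G : Type*} [Group G] [Finite G]

/-- What the group-theoretic conclusion needs. -/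
structure TriData (P : Fin 3 → Subgroup G) (c : Fin 3 → G) (R : Subgroup G) : Prop where
  tri : Tri P c
  conj : ∀ i, ∃ g : G, P i = (P 0).map (MulAut.conj g).toMonoidHom ∧ c i = g * c 0 * g⁻¹
  core : R = Cfsg.pCoreOf 2 (centralizer ((closure (Set.range c) : Subgroup G) : Set G))
  card : Nat.card R = 2 ^ 15
  quot : ∃ π : ↥(centralizer ((closure (Set.range c) : Subgroup G) : Set G)) →* ↥(alternatingGroup (Fin 6)),
    Function.Surjective π ∧ ∀ x, π x = 1 ↔ (x : G) ∈ R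
  cenR : ∀ r ∈ R, (∀ a ∈ P 0, a ∈ centralizer ((closure (Set.range c) : Subgroup G) : Set G) →
    r * a = a * r) → r ∈ closure (Set.range c)
  commR : ∀ a ∈ P 0, a ∈ centralizer ((closure (Set.range c) : Subgroup G) : Set G) → ∀ r ∈ R,
    a * r * a⁻¹ * r⁻¹ ∈ closure (Set.range c)
  irr : ∀ S : Subgroup G, P 0 ⊓ centralizer ((closure (Set.range c) : Subgroup G) : Set G) ≤ S → S ≤ R →
    centralizer ((closure (Set.range c) : Subgroup G) : Set G) ≤ normalizer (S : Set G) →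
    S = P 0 ⊓ centralizer ((closure (Set.range c) : Subgroup G) : Set G) ∨ S = R
  not_le : ¬ P 1 ⊓ centralizer ((closure (Set.range c) : Subgroup G) : Set G) ≤ P 0
  noncomm : ∃ a ∈ P 0, ∃ b ∈ P 0,
    a ∈ centralizer ((closure (Set.range c) : Subgroup G) : Set G) ∧
    b ∈ centralizer ((closure (Set.range c) : Subgroup G) : Set G) ∧ a * b * a⁻¹ * b⁻¹ = c 0

namespace TriData

variable {P : Fin 3 → Subgroup G} {c : Fin 3 → G} {R : Subgroup G} (d : TriData P c R)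
include d

local notation "V" => closure (Set.range c)
local notation "L" => normalizer ((closure (Set.range c) : Subgroup G) : Set G)
local notation "C" => centralizer ((closure (Set.range c) : Subgroup G) : Set G)

omit d in
theorem C_le_L : C ≤ L := Subgroup.centralizer_le_normalizer _

omit d in
theorem conj_mem_C {l x : G} (hl : l ∈ L) (hx : x ∈ C) : l * x * l⁻¹ ∈ C := by
  refine mem_centralizer_iff.2 fun v hv => ?_
  have h := mem_centralizer_iff.1 hx _ ((mem_normalizer_iff.1 (inv_mem hl) v).1 hv)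
  rw [inv_inv] at h
  calc v * (l * x * l⁻¹) = l * (l⁻¹ * v * l * x) * l⁻¹ := by group
    _ = l * x * l⁻¹ * v := by rw [h]; group

theorem R_le : R ≤ C := d.core ▸ Amalgam.pCoreOf_le _

theorem R_normal {l x : G} (hl : l ∈ L) (hx : x ∈ R) : l * x * l⁻¹ ∈ R := by
  have hle : R.map (MulAut.conj l).toMonoidHom ≤ R := by
    rw [d.core]
    conv_lhs => rw [← d.core]
    refine Amalgam.le_pCoreOf ?_ ?_ ((d.core ▸ Amalgam.isPGroup_pCoreOf _ : IsPGroup 2 ↥R).map _)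
    · rintro _ ⟨y, hy, rfl⟩
      exact conj_mem_C hl (d.R_le hy)
    · intro y hy
      refine mem_normalizer_iff_map_conj_eq.2 (eq_of_le_of_card_ge ?_ (le_of_eq
        (card_map_of_injective (MulEquiv.injective _)).symm))
      rintro _ ⟨_, ⟨r, hr, rfl⟩, rfl⟩
      have hy' : l⁻¹ * y * l ∈ C := by simpa using conj_mem_C (inv_mem hl) hy
      refine ⟨l⁻¹ * y * l * r * (l⁻¹ * y * l)⁻¹, ?_, ?_⟩
      · rw [SetLike.mem_coe, d.core] at hr ⊢
        exact (mem_normalizer_iff.1 (Amalgam.le_normalizer_pCoreOf _ hy') r).1 hr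
      · show l * (l⁻¹ * y * l * r * (l⁻¹ * y * l)⁻¹) * l⁻¹ = y * (l * r * l⁻¹) * y⁻¹
        group
  exact hle ⟨x, hx, rfl⟩

theorem P_inf_le (i : Fin 3) : P i ⊓ C ≤ R := by
  rw [d.core]
  refine Amalgam.le_pCoreOf inf_le_right (fun y hy => ?_) ((d.tri.pack i).ext.1.1.to_le inf_le_left)
  have hyc : y ∈ centralizer ({c i} : Set G) := mem_centralizer_singleton_iff.2
    (mem_centralizer_iff.1 hy _ (subset_closure (Set.mem_range_self i))).symm
  refine mem_normalizer_iff_map_conj_eq.2 (eq_of_le_of_card_ge ?_ (le_of_eq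
    (card_map_of_injective (MulEquiv.injective _)).symm))
  rintro _ ⟨a, ⟨ha, ha'⟩, rfl⟩
  exact ⟨(mem_normalizer_iff.1 ((d.tri.pack i).norm hyc) a).1 ha, conj_mem_C (C_le_L hy) ha'⟩

/-- Elements of the three subgroups act trivially on `C / R`. -/
theorem pack_centralises (i : Fin 3) {q x : G} (hq : q ∈ P i) (hx : x ∈ C) :
    q * x * q⁻¹ * x⁻¹ ∈ R := by
  refine d.P_inf_le i ⟨?_, Subgroup.mul_mem _ (conj_mem_C (d.tri.pack_le_normalizer i hq) hx) (Subgroup.inv_mem _ hx)⟩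
  have hxc : x ∈ centralizer ({c i} : Set G) := mem_centralizer_singleton_iff.2
    (mem_centralizer_iff.1 hx _ (subset_closure (Set.mem_range_self i))).symm
  rw [show q * x * q⁻¹ * x⁻¹ = q * (x * q⁻¹ * x⁻¹) by group]
  exact mul_mem hq ((mem_normalizer_iff.1 ((d.tri.pack i).norm hxc) _).1 (inv_mem hq))

theorem pGroup_R : IsPGroup 2 ↥R := d.core ▸ Amalgam.isPGroup_pCoreOf _

theorem V_le_R : V ≤ R := fun v hv => d.P_inf_le 0 ⟨d.tri.le_pack 0 hv, mem_centralizer_iff.2 fun w hw =>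
  congrArg Subtype.val (d.tri.elementary.1.1.1 (⟨w, hw⟩ : ↥(closure (Set.range c))) ⟨v, hv⟩)⟩

theorem R_comm_V {r v : G} (hr : r ∈ R) (hv : v ∈ V) : v * r = r * v :=
  mem_centralizer_iff.1 (d.R_le hr) v hv

omit d in
theorem conj_mem_V {l v : G} (hl : l ∈ L) (hv : v ∈ V) : l * v * l⁻¹ ∈ V :=
  (mem_normalizer_iff.1 hl v).1 hv

theorem exists_move {v w : G} (hv : v ∈ V) (hw : w ∈ V) (hv1 : v ≠ 1) (hw1 : w ≠ 1) :
    ∃ l ∈ L, l * v * l⁻¹ = w := by
  obtain ⟨φ, hφ, hker, -⟩ := d.tri.exists_action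
  obtain ⟨a, ha⟩ := d.tri.mem_closure_range.1 hv
  obtain ⟨b, hb⟩ := d.tri.mem_closure_range.1 hw
  -- reach the first centre from every non-trivial element
  have key : ∀ v ∈ V, v ≠ 1 → ∃ l ∈ L, l * v * l⁻¹ = c 0 := by
    intro v hv hv1
    have step : ∀ i j : Fin 3, i ≠ j → ∃ q ∈ L, q * c j * q⁻¹ = c i * c j ∧ ∀ k, k ≠ j → q * c k * q⁻¹ = c k :=
      fun i j hij => by
        obtain ⟨q, hq, h1, h2⟩ := d.tri.exists_elementary i j hij
        exact ⟨q, d.tri.pack_le_normalizer i hq, h1, h2⟩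
    obtain ⟨q01, m01, e01, f01⟩ := step 0 1 (by decide)
    obtain ⟨q10, m10, e10, f10⟩ := step 1 0 (by decide)
    obtain ⟨q20, m20, e20, f20⟩ := step 2 0 (by decide)
    obtain ⟨q02, m02, e02, f02⟩ := step 0 2 (by decide)
    obtain ⟨q12, m12, e12, f12⟩ := step 1 2 (by decide)
    have sq := d.tri.sq
    have cm := fun i j => (d.tri.comm i j).eq
    have h01 : q01 * (c 0 * c 1) * q01⁻¹ = c 1 := by
      rw [show q01 * (c 0 * c 1) * q01⁻¹ = q01 * c 0 * q01⁻¹ * (q01 * c 1 * q01⁻¹) by group, e01,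
        f01 0 (by decide), ← mul_assoc, sq, one_mul]
    have h10 : q10 * (c 0 * c 1) * q10⁻¹ = c 0 := by
      rw [show q10 * (c 0 * c 1) * q10⁻¹ = q10 * c 0 * q10⁻¹ * (q10 * c 1 * q10⁻¹) by group, e10,
        f10 1 (by decide), cm 1 0, mul_assoc, sq, mul_one]
    have h1 : ∃ l ∈ L, l * c 1 * l⁻¹ = c 0 := ⟨q10 * q01, mul_mem m10 m01, by
      rw [show q10 * q01 * c 1 * (q10 * q01)⁻¹ = q10 * (q01 * c 1 * q01⁻¹) * q10⁻¹ by group, e01, h10]⟩
    have h2' : ∃ l ∈ L, l * (c 0 * c 2) * l⁻¹ = c 0 := ⟨q20, m20, by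
      rw [show q20 * (c 0 * c 2) * q20⁻¹ = q20 * c 0 * q20⁻¹ * (q20 * c 2 * q20⁻¹) by group, e20,
        f20 2 (by decide), cm 2 0, mul_assoc, sq, mul_one]⟩
    have h2 : ∃ l ∈ L, l * c 2 * l⁻¹ = c 0 := by
      obtain ⟨l, hl, e⟩ := h2'
      exact ⟨l * q02, mul_mem hl m02, by
        rw [show l * q02 * c 2 * (l * q02)⁻¹ = l * (q02 * c 2 * q02⁻¹) * l⁻¹ by group, e02, e]⟩
    obtain ⟨u, rfl⟩ := d.tri.mem_closure_range.1 hv
    have hu : u ≠ 0 := fun e => hv1 (by simp [e, Tri.coordElt])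
    have hz : ∀ a : ZMod 2, a = 0 ∨ a = 1 := by decide
    have h12 : q12 * (c 1 * c 2) * q12⁻¹ = c 2 := by
      rw [show q12 * (c 1 * c 2) * q12⁻¹ = q12 * c 1 * q12⁻¹ * (q12 * c 2 * q12⁻¹) by group, e12,
        f12 1 (by decide), ← mul_assoc, sq, one_mul]
    have h012 : q12 * (c 0 * c 1 * c 2) * q12⁻¹ = c 0 * c 2 := by
      rw [show q12 * (c 0 * c 1 * c 2) * q12⁻¹ = q12 * c 0 * q12⁻¹ * (q12 * (c 1 * c 2) * q12⁻¹) by group,
        h12, f12 0 (by decide)]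
    rcases hz (u 0) with k0 | k0 <;> rcases hz (u 1) with k1 | k1 <;> rcases hz (u 2) with k2 | k2 <;>
      simp only [Tri.coordElt, k0, k1, k2, ZMod.val_zero, ZMod.val_one, pow_zero, pow_one, one_mul, mul_one]
    · exact absurd (funext fun i => by fin_cases i <;> assumption) hu
    · exact h2
    · exact h1
    · obtain ⟨l, hl, e⟩ := h2
      exact ⟨l * q12, mul_mem hl m12, by
        rw [show l * q12 * (c 1 * c 2) * (l * q12)⁻¹ = l * (q12 * (c 1 * c 2) * q12⁻¹) * l⁻¹ by group,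
          h12, e]⟩
    · exact ⟨1, one_mem _, by group⟩
    · exact h2'
    · exact ⟨q10, m10, h10⟩
    · obtain ⟨l, hl, e⟩ := h2'
      exact ⟨l * q12, mul_mem hl m12, by
        rw [show l * q12 * (c 0 * c 1 * c 2) * (l * q12)⁻¹ =
          l * (q12 * (c 0 * c 1 * c 2) * q12⁻¹) * l⁻¹ by group, h012, e]⟩
  obtain ⟨l, hl, e⟩ := key v hv hv1
  obtain ⟨m, hm, e'⟩ := key w hw hw1
  exact ⟨m⁻¹ * l, mul_mem (inv_mem hm) hl, by
    rw [show m⁻¹ * l * v * (m⁻¹ * l)⁻¹ = m⁻¹ * (l * v * l⁻¹) * m by group, e, ← e']; group⟩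

/-- All centres act centrally modulo `V` on `R`. -/
theorem commR_all (i : Fin 3) {a r : G} (ha : a ∈ P i) (ha' : a ∈ C) (hr : r ∈ R) :
    a * r * a⁻¹ * r⁻¹ ∈ V := by
  obtain ⟨l, hl, e⟩ := d.exists_move (v := c 0) (w := c i) (subset_closure (Set.mem_range_self 0))
    (subset_closure (Set.mem_range_self i)) (d.tri.pack 0).z_ne (d.tri.pack i).z_ne
  obtain ⟨g, hg, eg⟩ := d.conj i
  have hPi : P i = (P 0).map (MulAut.conj l).toMonoidHom :=
    hg.trans ((d.tri.pack 0).map_eq_of_eq (eg.symm.trans e.symm))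
  rw [hPi] at ha
  obtain ⟨b, hb, rfl⟩ := ha
  have hb' : b ∈ C := by
    have := conj_mem_C (inv_mem hl) ha'
    simpa [mul_assoc] using this
  have hr' : l⁻¹ * r * l ∈ R := by simpa using d.R_normal (inv_mem hl) hr
  have h := conj_mem_V hl (d.commR b hb hb' _ hr')
  show l * b * l⁻¹ * r * (l * b * l⁻¹)⁻¹ * r⁻¹ ∈ V
  rw [show l * b * l⁻¹ * r * (l * b * l⁻¹)⁻¹ * r⁻¹ =
    l * (b * (l⁻¹ * r * l) * b⁻¹ * (l⁻¹ * r * l)⁻¹) * l⁻¹ by group]
  exact h

theorem R_eq : R = (P 0 ⊓ C) ⊔ (P 1 ⊓ C) := by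
  refine ((d.irr _ le_sup_left (sup_le (d.P_inf_le 0) (d.P_inf_le 1)) fun y hy => ?_).resolve_left
    fun e => d.not_le (le_trans (le_trans le_sup_right e.le) inf_le_left)).symm
  refine mem_normalizer_iff_map_conj_eq.2 ?_
  have key : ∀ i, (P i ⊓ C).map (MulAut.conj y).toMonoidHom = P i ⊓ C := fun i => by
    refine eq_of_le_of_card_ge ?_ (le_of_eq (card_map_of_injective (MulEquiv.injective _)).symm)
    rintro _ ⟨a, ⟨ha, ha'⟩, rfl⟩
    refine ⟨(mem_normalizer_iff.1 ((d.tri.pack i).norm (mem_centralizer_singleton_iff.2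
      (mem_centralizer_iff.1 hy _ (subset_closure (Set.mem_range_self i))).symm)) a).1 ha,
      conj_mem_C (C_le_L hy) ha'⟩
  rw [Subgroup.map_sup]
  exact congrArg₂ (· ⊔ ·) (key 0) (key 1)

theorem commutator_mem {a b : G} (ha : a ∈ R) (hb : b ∈ R) : a * b * a⁻¹ * b⁻¹ ∈ V := by
  have ha' : a ∈ closure (((P 0 ⊓ C : Subgroup G) : Set G) ∪ (P 1 ⊓ C : Subgroup G)) := by
    rw [Subgroup.closure_union, closure_eq, closure_eq, ← d.R_eq]; exact ha
  induction ha' using closure_induction generalizing b with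
  | mem a h =>
    rcases h with h | h
    exacts [d.commR_all 0 h.1 h.2 hb, d.commR_all 1 h.1 h.2 hb]
  | one => simp
  | mul x y hx hy ihx ihy =>
    have hxR : x ∈ R := by
      rw [d.R_eq, ← closure_eq (P 0 ⊓ C), ← closure_eq (P 1 ⊓ C), ← Subgroup.closure_union]; exact hx
    have hyR : y ∈ R := by
      rw [d.R_eq, ← closure_eq (P 0 ⊓ C), ← closure_eq (P 1 ⊓ C), ← Subgroup.closure_union]; exact hy
    rw [show x * y * b * (x * y)⁻¹ * b⁻¹ =
      x * (y * b * y⁻¹ * b⁻¹) * x⁻¹ * (x * b * x⁻¹ * b⁻¹) by group]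
    exact mul_mem (conj_mem_V (C_le_L (d.R_le hxR)) (ihy hyR hb)) (ihx hxR hb)
  | inv x hx ih =>
    have hxR : x ∈ R := by
      rw [d.R_eq, ← closure_eq (P 0 ⊓ C), ← closure_eq (P 1 ⊓ C), ← Subgroup.closure_union]; exact hx
    rw [show x⁻¹ * b * x⁻¹⁻¹ * b⁻¹ = x⁻¹ * (x * b * x⁻¹ * b⁻¹)⁻¹ * x⁻¹⁻¹ by group]
    exact conj_mem_V (inv_mem (C_le_L (d.R_le hxR))) (inv_mem (ih hxR hb))

theorem sq_mem {a : G} (ha : a ∈ R) : a * a ∈ V := by
  have ha' : a ∈ closure (((P 0 ⊓ C : Subgroup G) : Set G) ∪ (P 1 ⊓ C : Subgroup G)) := by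
    rw [Subgroup.closure_union, closure_eq, closure_eq, ← d.R_eq]; exact ha
  have hgen : ∀ i, ∀ a ∈ P i, a * a ∈ V := fun i a ha => by
    rcases (d.tri.pack i).sq_cases ha with e | e <;> rw [e]
    exacts [one_mem _, subset_closure (Set.mem_range_self i)]
  induction ha' using closure_induction with
  | mem a h =>
    rcases h with h | h
    exacts [hgen 0 a h.1, hgen 1 a h.1]
  | one => simp
  | mul x y hx hy ihx ihy =>
    have hxR : x ∈ R := by
      rw [d.R_eq, ← closure_eq (P 0 ⊓ C), ← closure_eq (P 1 ⊓ C), ← Subgroup.closure_union]; exact hx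
    have hyR : y ∈ R := by
      rw [d.R_eq, ← closure_eq (P 0 ⊓ C), ← closure_eq (P 1 ⊓ C), ← Subgroup.closure_union]; exact hy
    rw [show x * y * (x * y) = x * (y * x * y⁻¹ * x⁻¹) * x⁻¹ * (x * x) * (y * y) by group]
    exact mul_mem (mul_mem (conj_mem_V (C_le_L (d.R_le hxR)) (d.commutator_mem hyR hxR)) (ihx hxR)) (ihy hyR)
  | inv x hx ih =>
    have hxR : x ∈ R := by
      rw [d.R_eq, ← closure_eq (P 0 ⊓ C), ← closure_eq (P 1 ⊓ C), ← Subgroup.closure_union]; exact hx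
    rw [show x⁻¹ * x⁻¹ = (x * x)⁻¹ by group]
    exact inv_mem (ih hxR)

theorem special : Cfsg.IsSpecial 2 ↥R ∧ (center ↥R).map R.subtype = V := by
  haveI : Fact (Nat.Prime 2) := ⟨Nat.prime_two⟩
  have hV : ∀ v : ↥R, (v : G) ∈ V → v ∈ center ↥R := fun v hv =>
    mem_center_iff.2 fun r => Subtype.ext (d.R_comm_V r.2 hv).symm
  have hZ : ∀ v : ↥R, v ∈ center ↥R → (v : G) ∈ V := fun v hv => d.cenR _ v.2 fun a ha ha' =>
    (congrArg Subtype.val (mem_center_iff.1 hv ⟨a, d.P_inf_le 0 ⟨ha, ha'⟩⟩)).symm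
  have hcen : (center ↥R).map R.subtype = V := by
    refine le_antisymm ?_ fun v hv => ⟨⟨v, d.V_le_R hv⟩, hV _ hv, rfl⟩
    rintro _ ⟨v, hv, rfl⟩
    exact hZ v hv
  have hcomm : commutator ↥R = center ↥R := by
    refine le_antisymm ?_ fun v hv => ?_
    · rw [_root_.commutator_def, Subgroup.commutator_le]
      exact fun a _ b _ => hV _ (d.commutator_mem a.2 b.2)
    · obtain ⟨a, ha, b, hb, ha', hb', e⟩ := d.noncomm
      rcases eq_or_ne (v : G) 1 with h1 | h1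
      · rw [show v = 1 from Subtype.ext h1]; exact one_mem _
      obtain ⟨l, hl, el⟩ := d.exists_move (subset_closure (Set.mem_range_self 0)) (hZ v hv)
        (d.tri.pack 0).z_ne h1
      have haR := d.R_normal hl (d.P_inf_le 0 ⟨ha, ha'⟩)
      have hbR := d.R_normal hl (d.P_inf_le 0 ⟨hb, hb'⟩)
      have hv' : v = ⁅(⟨_, haR⟩ : ↥R), ⟨_, hbR⟩⁆ := Subtype.ext (by
        rw [commutatorElement_def]
        show (v : G) = l * a * l⁻¹ * (l * b * l⁻¹) * (l * a * l⁻¹)⁻¹ * (l * b * l⁻¹)⁻¹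
        rw [← el, ← e]; group)
      rw [hv', _root_.commutator_def]
      exact Subgroup.commutator_mem_commutator (mem_top _) (mem_top _)
  refine ⟨⟨d.pGroup_R, le_antisymm ?_ ?_, hcomm⟩, hcen⟩
  · exact Transfer.frattini_le_of_elementary_quotient (p := 2) (center ↥R)
      (fun a b => hV _ (d.commutator_mem a.2 b.2))
      fun a => by rw [pow_two]; exact hV _ (d.sq_mem a.2)
  · rw [← hcomm]
    exact Transfer.commutator_le_frattini_pgroup d.pGroup_R

theorem quotient : ∃ Ψ : ↥L →* SL(3, ZMod 2) × ↥(alternatingGroup (Fin 6)),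
    Function.Surjective Ψ ∧ ∀ l : ↥L, Ψ l = 1 ↔ (l : G) ∈ R := by
  obtain ⟨π, hπ, hπk⟩ := d.quot
  obtain ⟨φ, -, hker, htop⟩ := d.tri.exists_action
  let K : Subgroup G :=
    { carrier := {l | l ∈ L ∧ ∀ x ∈ C, l * x * l⁻¹ * x⁻¹ ∈ R}
      one_mem' := ⟨one_mem _, fun x _ => by simp⟩
      mul_mem' := fun {a b} ha hb => ⟨mul_mem ha.1 hb.1, fun x hx => by
        rw [show a * b * x * (a * b)⁻¹ * x⁻¹ = a * (b * x * b⁻¹ * x⁻¹) * a⁻¹ * (a * x * a⁻¹ * x⁻¹) by group]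
        exact mul_mem (d.R_normal ha.1 (hb.2 x hx)) (ha.2 x hx)⟩
      inv_mem' := fun {a} ha => ⟨inv_mem ha.1, fun x hx => by
        rw [show a⁻¹ * x * a⁻¹⁻¹ * x⁻¹ = a⁻¹ * (a * x * a⁻¹ * x⁻¹)⁻¹ * a⁻¹⁻¹ by group]
        exact d.R_normal (inv_mem ha.1) (inv_mem (ha.2 x hx))⟩ }
  have hPK : P 0 ⊔ P 1 ⊔ P 2 ≤ K := sup_le (sup_le ?_ ?_) ?_
  rotate_left
  all_goals first
    | exact fun q hq => ⟨d.tri.pack_le_normalizer 0 hq, fun x hx => d.pack_centralises 0 hq hx⟩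
    | exact fun q hq => ⟨d.tri.pack_le_normalizer 1 hq, fun x hx => d.pack_centralises 1 hq hx⟩
    | exact fun q hq => ⟨d.tri.pack_le_normalizer 2 hq, fun x hx => d.pack_centralises 2 hq hx⟩
    | skip
  have hpi : ∀ x y : ↥C, (x : G)⁻¹ * y ∈ R → π x = π y := fun x y h => by
    have h1 := (hπk (x⁻¹ * y)).2 h
    rw [map_mul, map_inv, inv_mul_eq_one] at h1
    exact h1
  have hKC : ∀ x : ↥C, (x : G) ∈ K → π x = 1 := by
    intro x hx
    refine (Subgroup.eq_bot_iff_forall _).1 (center_alternating_six) (π x) (mem_center_iff.2 fun g => ?_)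
    obtain ⟨y, rfl⟩ := hπ g
    rw [← map_mul, ← map_mul]
    refine hpi _ _ ?_
    have h := hx.2 _ (inv_mem y.2)
    rw [show ((y * x : ↥C) : G)⁻¹ * ((x * y : ↥C) : G) = (x : G)⁻¹ * ((y : G)⁻¹ * x * y * (x : G)⁻¹) * x by
      push_cast; group]
    have h2 := d.R_normal (C_le_L (inv_mem x.2)) (inv_mem h)
    rw [inv_inv] at h2
    convert h2 using 1
    group
  have hsplit : ∀ l : ↥L, ∃ k ∈ K, ∃ x : ↥C, k * (x : G) = l := fun l => by
    obtain ⟨k, hk, e⟩ := htop (φ l) (mem_top _)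
    have : (k⁻¹ * l : ↥L).val ∈ C := (hker _).1 (by rw [map_mul, map_inv, e, inv_mul_cancel])
    exact ⟨k, hPK hk, ⟨_, this⟩, by simp⟩
  choose kf hkf xf hxf using hsplit
  have hwd : ∀ (l : ↥L) (k : G) (x : ↥C), k ∈ K → k * (x : G) = l → π x = π (xf l) := by
    intro l k x hk e
    have h1 : ((xf l * x⁻¹ : ↥C) : G) ∈ K := by
      have : (kf l)⁻¹ * k = ((xf l * x⁻¹ : ↥C) : G) := by
        push_cast
        rw [eq_mul_inv_iff_mul_eq, mul_assoc, e, ← hxf l]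
        group
      exact this ▸ mul_mem (inv_mem (hkf l)) hk
    have h2 := hKC _ h1
    rw [map_mul, map_inv, mul_inv_eq_one] at h2
    exact h2.symm
  let χ : ↥L →* ↥(alternatingGroup (Fin 6)) := MonoidHom.mk' (fun l => π (xf l)) fun l m => by
    have e : (kf l * kf m) * (((kf m)⁻¹ * (xf l : G) * kf m) * (xf m : G)) = ((l * m : ↥L) : G) := by
      push_cast
      rw [← hxf l, ← hxf m]
      group
    have hm : (kf m)⁻¹ * (xf l : G) * kf m ∈ C := by
      simpa using conj_mem_C (inv_mem (hkf m).1) (xf l).2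
    have h := hwd (l * m) _ ⟨_, mul_mem hm (xf m).2⟩ (mul_mem (hkf l) (hkf m)) e
    rw [← h, ← map_mul]
    refine hpi _ _ ?_
    show ((⟨_, mul_mem hm (xf m).2⟩ : ↥C) : G)⁻¹ * ((xf l * xf m : ↥C) : G) ∈ R
    have h3 := d.R_normal (C_le_L (inv_mem (xf m).2))
      ((inv_mem (hkf m) : (kf m)⁻¹ ∈ K).2 _ (inv_mem (xf l).2))
    convert h3 using 1
    push_cast
    group
  refine ⟨φ.prod χ, fun ⟨g, a⟩ => ?_, fun l => ?_⟩
  · obtain ⟨k, hk, e⟩ := htop g (mem_top _)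
    obtain ⟨x, rfl⟩ := hπ a
    refine ⟨k * ⟨x, C_le_L x.2⟩, Prod.ext ?_ ?_⟩
    · show φ (k * ⟨x, C_le_L x.2⟩) = g
      rw [map_mul, (hker ⟨x, C_le_L x.2⟩).2 x.2, mul_one, e]
    · exact (hwd (k * ⟨x, C_le_L x.2⟩) k x (hPK hk) rfl).symm
  · rw [MonoidHom.prod_apply, Prod.mk_eq_one, hker]
    constructor
    · rintro ⟨h1, h2⟩
      have h := hwd l 1 ⟨_, h1⟩ (one_mem _) (one_mul _)
      exact (hπk ⟨_, h1⟩).1 (h.trans h2)
    · intro h
      exact ⟨d.R_le h, (hwd l 1 ⟨_, d.R_le h⟩ (one_mem _) (one_mul _)).symm.trans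
        ((hπk ⟨_, d.R_le h⟩).2 h)⟩

/-- The structure of the normaliser. -/
theorem conclusion : Cfsg.IsElementaryAbelian 2 V ∧ Nat.card ↥(closure (Set.range c)) = 8 ∧ c 0 ∈ V ∧
    ∃ R' : Subgroup G, R' = (Cfsg.pCore 2 ↥L).map (Subgroup.subtype L) ∧ Cfsg.IsSpecial 2 ↥R' ∧
      Nat.card R' = 2 ^ 15 ∧ (center ↥R').map R'.subtype = V ∧ ∃ _ : (R'.subgroupOf L).Normal,
        Nonempty (↥L ⧸ R'.subgroupOf L ≃* SL(3, ZMod 2) × ↥(alternatingGroup (Fin 6))) := by
  obtain ⟨Ψ, hΨ, hk⟩ := d.quotient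
  have hkk : Ψ.ker = R.subgroupOf L := by
    ext l
    rw [MonoidHom.mem_ker, hk, mem_subgroupOf]
  have hn : (R.subgroupOf L).Normal := hkk ▸ Ψ.normal_ker
  have hRL : R ≤ L := d.R_le.trans C_le_L
  have hcore : Cfsg.pCore 2 ↥L = R.subgroupOf L := by
    refine le_antisymm ?_ (Amalgam.le_pCore hn (d.pGroup_R.of_equiv (Subgroup.subgroupOfEquivOfLe hRL).symm))
    rw [← hkk]
    intro x hx
    rw [MonoidHom.mem_ker]
    have hN := (Amalgam.normal_pCore (p := 2) (G := ↥L))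
    have hp := Amalgam.isPGroup_pCore (p := 2) (G := ↥L)
    have h1 := sl_three_two_no_two_core
      (hN.map ((MonoidHom.fst _ _).comp Ψ) (Prod.fst_surjective.comp hΨ)) (hp.map _)
    have h2 := alternating_six_no_two_core
      (hN.map ((MonoidHom.snd _ _).comp Ψ) (Prod.snd_surjective.comp hΨ)) (hp.map _)
    refine Prod.ext ?_ ?_
    · exact (Subgroup.eq_bot_iff_forall _).1 h1 _ ⟨x, hx, rfl⟩
    · exact (Subgroup.eq_bot_iff_forall _).1 h2 _ ⟨x, hx, rfl⟩
  refine ⟨d.tri.elementary, d.tri.card_eight, subset_closure (Set.mem_range_self 0), R, ?_, d.special.1,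
    d.card, d.special.2, hn, ⟨(QuotientGroup.quotientMulEquivOfEq hkk.symm).trans
      (QuotientGroup.quotientKerEquivOfSurjective Ψ hΨ)⟩⟩
  rw [hcore, subgroupOf_map_subtype, inf_eq_left.2 hRL]

end TriData

end CfsgLib.Trans3.FischerType
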