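import Cfsg.Agent.Lib.Trans3.FischerType.WData
import Cfsg.Agent.Lib.Trans3.FischerType.ModelBasic
import Cfsg.Agent.Lib.Trans3.FiLarge.OrbitChecks

/-!
Kernel checks on the plane, the group of order 16 fixing it and the stabiliser of the plane.
-/

set_option autoImplicit false
set_option maxRecDepth 100000
set_option Elab.async false

namespace CfsgLib.Trans3.FischerType.PairCode

open CfsgLib.Chev.U43U6 CfsgLib.Trans3.FiLarge CfsgLib.Trans3.FischerType

/-- The matrix of a word in the generators of the stabiliser. -/
def gM (w : List ℕ) : List ℕ := wordM nMt w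

/-- A list of words and matrices describes a group of the given size. -/
def tabOK (ws ms : List (List ℕ)) : Bool :=
  (List.range ms.length).all (fun i => (ws.getD i []).all (fun k => Nat.blt k nMt.length) &&
    gM (ws.getD i []) == ms.getD i []) &&
  ms.all (fun m => Nat.beq m.length 6 && m.all fun c => Nat.blt c 4096) &&
  ms.contains idM && decide ms.Nodup && ms.all fun a => ms.all fun c => ms.contains (mulM a c)

theorem gens_ok : ((List.range nMt.length).all fun k => wordOK (nWd.getD k []) (nMt.getD k [])) = true := by
  decide +kernel

theorem w_tab : tabOK wWd wMt = true := by decide +kernel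

theorem p_tab : tabOK pWd pMt = true := by decide +kernel

theorem q_tab : tabOK qWd qMt = true := by decide +kernel

/-- The generators normalise the group of order 16. -/
def conjOK : Bool := nMt.all fun g => wMt.all fun m => wMt.any fun m' => mulM g m == mulM m' g

theorem conj_ok : conjOK = true := by decide +kernel

theorem u_shape : (uL.contains 0 && decide uL.Nodup && uL.all (fun c => Nat.blt c 4096) &&
    uL.all fun c => uL.all fun d => uL.contains (Nat.xor c d) &&
      Nat.beq (Nat.xor (herm c d) (cjE (herm c d))) 0) = true := by decide +kernel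

theorem u_inv : (nMt.all fun g => uL.all fun c => uL.contains (mulV g c)) = true := by decide +kernel

theorem w_fix : (wMt.all fun m => uL.all fun c => Nat.beq (mulV m c) c) = true := by decide +kernel

theorem s_list : (sL.length == 18 && decide sL.Nodup && sL.all (fun c => Nat.blt c 4096) &&
    sL.all (fun c => uL.contains c && Nat.beq (lab 0 c) 1) &&
    uL.all fun c => (Nat.beq (lab 0 c) 1) == sL.contains c) = true := by decide +kernel

theorem g_list : (gL.length == 45 && decide gL.Nodup && gL.all (fun c => Nat.blt c 4096) &&
    gL.all (fun c => uL.contains c && Nat.beq (lab 0 c) 2) &&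
    uL.all fun c => (Nat.beq (lab 0 c) 2) == gL.contains c) = true := by decide +kernel

/-- The listed sums give the vectors of the plane. -/
def sumOK (L : List ℕ) (T : List (List ℕ)) : Bool :=
  (List.range uL.length).all fun i => (T.getD i []).all (fun k => Nat.blt k L.length) &&
    Nat.beq (((T.getD i []).map fun k => L.getD k 0).foldr Nat.xor 0) (uL.getD i 0)

theorem s_sum : sumOK sL sSum = true := by decide +kernel

theorem g_sum : sumOK gL gSum = true := by decide +kernel

/-- One of the sixteen. -/
def wm (i : ℕ) : List ℕ := wMt.getD i []

/-- The image of `w - 1`. -/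
def ln (i : ℕ) : List ℕ := lnTab.getD i []

/-- The preimage of a member of it. -/
def wit (i j : ℕ) : ℕ := (witTab.getD i []).getD j 0

/-- The map `v ↦ w v + v` on codes. -/
def dif (i c : ℕ) : ℕ := Nat.xor (mulV (wm i) c) c

/-- The facts about the image of `w - 1`. -/
def lineOK (i : ℕ) : Bool :=
  (List.range 64).all (fun c => (ln i).contains (dif i c) && (ln i).contains (dif i (64 * c))) &&
  (ln i).all (fun c => (ln i).all fun d => (ln i).contains (Nat.xor c d)) &&
  (List.range (ln i).length).all (fun j => Nat.blt (wit i j) 4096 &&
    Nat.beq (dif i (wit i j)) ((ln i).getD j 0)) &&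
  (ln i).all (fun c => Nat.blt c 4096 && uL.contains c) && decide (ln i).Nodup

theorem line_ok : ((List.range wMt.length).all lineOK) = true := by decide +kernel

theorem line_sizes : ((List.range wMt.length).all fun i => i == 0 && ln i == [0] && wm i == idM ||
    i != 0 && Nat.beq (ln i).length 16 &&
      Nat.beq ((ln i).filter fun c => Nat.beq (lab 0 c) 1).length 6) = true := by decide +kernel

/-- Collinearity of short vectors. -/
def pointOK (i : ℕ) : Bool :=
  sL.all fun t => sL.all fun u => !((ln i).contains t) || !(Nat.beq (lab 0 (Nat.xor t u)) 1) || (ln i).contains u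

theorem point_ok : ((List.range wMt.length).all fun i => Nat.beq i 0 || pointOK i) = true := by decide +kernel

/-- The parity condition. -/
def parityOK (i : ℕ) : Bool :=
  (ln i).all fun x => (List.range (ln i).length).all fun j =>
    let y := (ln i).getD j 0
    !(Nat.beq (lab 0 x) 1) || !(Nat.beq (lab 0 y) 1) || !(Nat.beq (lab 0 (Nat.xor x y)) 1) ||
      Nat.beq (Nat.xor (herm x (wit i j)) (cjE (herm x (wit i j)))) 1

theorem parity_ok : ((List.range wMt.length).all parityOK) = true := by decide +kernel

theorem nbr_ok : (sL.all fun t =>
    Nat.beq (sL.filter fun u => Nat.beq (lab 0 (Nat.xor t u)) 1).length 2) = true := by decide +kernel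

/-- Transitivity on the short vectors and on the nontrivial elements. -/
def transOK : Bool :=
  (List.range sL.length).all (fun i => (trS.getD i []).all (fun k => Nat.blt k nMt.length) &&
    Nat.beq (mulV (gM (trS.getD i [])) (sL.getD 0 0)) (sL.getD i 0)) &&
  (List.range wMt.length).all (fun i => Nat.beq i 0 || (trW.getD i []).all (fun k => Nat.blt k nMt.length) &&
    mulM (gM (trW.getD i [])) (wm 1) == mulM (wm i) (gM (trW.getD i [])))

theorem trans_ok : transOK = true := by decide +kernel

/-- One word of the table of the stabilisers of adjacent short vectors. -/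
def stEntryOK (t u k₀ k : ℕ) (w : List ℕ) : Bool :=
  w.all (fun x => Nat.blt x nMt.length) && Nat.beq (mulV (gM w) t) t && Nat.beq (mulV (gM w) u) u &&
    mulM (gM w) (wm k₀) == mulM (wm k) (gM w)

/-- Transitivity of the stabiliser of adjacent short vectors. -/
def stOK : Bool :=
  sL.all fun t => sL.all fun u => !(Nat.beq (lab 0 (Nat.xor t u)) 1) ||
    stTab.any fun e => Nat.beq e.1 t && Nat.beq e.2.1 u &&
      (List.range wMt.length).all fun k => Nat.beq k 0 || !((ln k).contains t) ||
        e.2.2.any fun p => Nat.beq p.1 k && stEntryOK t u ((e.2.2.getD 0 (0, [])).1) k p.2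

theorem st_ok : stOK = true := by decide +kernel

theorem st_first : (stTab.all fun e => Nat.blt (e.2.2.getD 0 (0, [])).1 wMt.length) = true := by decide +kernel

end CfsgLib.Trans3.FischerType.PairCode
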