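import Mathlib

/-!
Data for a maximal totally isotropic plane of the six-dimensional unitary space, the elementary abelian group of
order 16 fixing it pointwise inside the cover number `0` of `PSU₄(3)`, and the stabiliser of the plane.
-/

set_option autoImplicit false

namespace CfsgLib.Trans3.FischerType.PairCode

/-- Words of the generators of the stabiliser in the two matrices. -/
def nWd : List (List ℕ) := [
  [1, 1, 1, 1, 1],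
  [0, 0, 1, 1, 0, 0, 0, 1, 1, 0],
  [1, 0, 0, 0, 1, 0, 0, 1, 1, 0],
  [0, 1, 1, 0, 1, 0, 0, 0, 1, 1]]

/-- Their matrices. -/
def nMt : List (List ℕ) := [
  [2, 8, 32, 128, 512, 2048],
  [665, 1681, 1177, 1561, 3052, 3399],
  [2222, 1880, 3639, 1865, 3827, 430],
  [1746, 2887, 1566, 3512, 2151, 441]]

/-- The plane. -/
def uL : List ℕ := [0, 17, 34, 51, 68, 85, 102, 119, 136, 153, 170, 187, 204, 221, 238, 255, 1536, 1553, 1570, 1587, 1604, 1621, 1638, 1655, 1672, 1689, 1706, 1723, 1740, 1757, 1774, 1791, 2816, 2833, 2850, 2867, 2884, 2901, 2918, 2935, 2952, 2969, 2986, 3003, 3020, 3037, 3054, 3071, 3328, 3345, 3362, 3379, 3396, 3413, 3430, 3447, 3464, 3481, 3498, 3515, 3532, 3549, 3566, 3583]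

/-- Its vectors in the short orbit. -/
def sL : List ℕ := [17, 34, 51, 68, 136, 204, 1536, 1638, 1689, 1791, 2816, 2901, 3003, 3054, 3328, 3447, 3498, 3549]

/-- Its vectors in the long orbit. -/
def gL : List ℕ := [85, 102, 119, 153, 170, 187, 221, 238, 255, 1553, 1570, 1587, 1604, 1621, 1655, 1672, 1706, 1723, 1740, 1757, 1774, 2833, 2850, 2867, 2884, 2918, 2935, 2952, 2969, 2986, 3020, 3037, 3071, 3345, 3362, 3379, 3396, 3413, 3430, 3464, 3481, 3515, 3532, 3566, 3583]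

/-- Each vector of the plane as a sum of short ones. -/
def sSum : List (List ℕ) := [
  [],
  [0],
  [1],
  [2],
  [3],
  [0, 3],
  [1, 3],
  [2, 3],
  [4],
  [0, 4],
  [1, 4],
  [2, 4],
  [5],
  [0, 5],
  [1, 5],
  [2, 5],
  [6],
  [0, 6],
  [1, 6],
  [2, 6],
  [1, 7],
  [2, 7],
  [7],
  [0, 7],
  [0, 8],
  [8],
  [2, 8],
  [1, 8],
  [2, 9],
  [1, 9],
  [0, 9],
  [9],
  [10],
  [0, 10],
  [1, 10],
  [2, 10],
  [0, 11],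
  [11],
  [2, 11],
  [1, 11],
  [2, 12],
  [1, 12],
  [0, 12],
  [12],
  [1, 13],
  [2, 13],
  [13],
  [0, 13],
  [14],
  [0, 14],
  [1, 14],
  [2, 14],
  [2, 15],
  [1, 15],
  [0, 15],
  [15],
  [1, 16],
  [2, 16],
  [16],
  [0, 16],
  [0, 17],
  [17],
  [2, 17],
  [1, 17]]

/-- Each vector of the plane as a sum of long ones. -/
def gSum : List (List ℕ) := [
  [],
  [1, 2],
  [0, 2],
  [0, 1],
  [3, 6],
  [0],
  [1],
  [2],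
  [0, 6],
  [3],
  [4],
  [5],
  [0, 3],
  [6],
  [7],
  [8],
  [0, 13],
  [9],
  [10],
  [11],
  [12],
  [13],
  [0, 11],
  [14],
  [15],
  [0, 18],
  [16],
  [17],
  [18],
  [19],
  [20],
  [0, 16],
  [1, 25],
  [21],
  [22],
  [23],
  [24],
  [1, 23],
  [25],
  [26],
  [27],
  [28],
  [29],
  [1, 31],
  [30],
  [31],
  [1, 27],
  [32],
  [0, 37],
  [33],
  [34],
  [35],
  [36],
  [37],
  [38],
  [0, 34],
  [39],
  [40],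
  [0, 44],
  [41],
  [42],
  [0, 39],
  [43],
  [44]]

/-- Words of the sixteen elements fixing the plane pointwise. -/
def wWd : List (List ℕ) := [
  [],
  [1, 1, 0],
  [3, 3, 3],
  [1, 3, 3, 3, 1, 0],
  [2, 1, 1, 2, 2, 0],
  [2, 2, 1, 1, 2, 0],
  [2, 2, 3, 3, 3, 2],
  [2, 3, 3, 3, 2, 2],
  [3, 3, 1, 1, 3, 0],
  [3, 3, 3, 1, 1, 0],
  [1, 2, 2, 3, 2, 1, 3, 3],
  [1, 3, 3, 1, 2, 2, 3, 2],
  [1, 2, 3, 3, 3, 2, 2, 1, 0],
  [1, 3, 3, 3, 1, 1, 1, 0, 0],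
  [2, 3, 3, 3, 2, 2, 1, 1, 0],
  [3, 3, 1, 1, 3, 1, 1, 0, 0]]

/-- Their matrices. -/
def wMt : List (List ℕ) := [
  [1, 4, 16, 64, 256, 1024],
  [3548, 1574, 3533, 1634, 3293, 614],
  [2885, 2837, 2900, 2897, 426, 1279],
  [2900, 2837, 2885, 2897, 3242, 767],
  [16, 4, 1, 64, 3072, 512],
  [3533, 1574, 3548, 1634, 477, 1126],
  [2885, 2897, 2900, 2837, 3242, 767],
  [1, 64, 16, 4, 3072, 512],
  [1673, 3443, 1688, 3383, 3191, 665],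
  [1688, 3383, 1673, 3443, 3191, 665],
  [16, 64, 1, 4, 256, 1024],
  [1688, 3443, 1673, 3383, 375, 1177],
  [3533, 1634, 3548, 1574, 3293, 614],
  [1673, 3383, 1688, 3443, 375, 1177],
  [3548, 1634, 3533, 1574, 477, 1126],
  [2900, 2897, 2885, 2837, 426, 1279]]

/-- The images of `w - 1`. -/
def lnTab : List (List ℕ) := [
  [0],
  [0, 68, 136, 204, 1570, 1638, 1706, 1774, 2867, 2935, 3003, 3071, 3345, 3413, 3481, 3549],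
  [0, 85, 170, 255, 1587, 1638, 1689, 1740, 2833, 2884, 3003, 3054, 3362, 3447, 3464, 3549],
  [0, 68, 136, 204, 1587, 1655, 1723, 1791, 2833, 2901, 2969, 3037, 3362, 3430, 3498, 3566],
  [0, 17, 34, 51, 1536, 1553, 1570, 1587, 2816, 2833, 2850, 2867, 3328, 3345, 3362, 3379],
  [0, 102, 187, 221, 1570, 1604, 1689, 1791, 2867, 2901, 2952, 3054, 3345, 3447, 3498, 3532],
  [0, 17, 34, 51, 1740, 1757, 1774, 1791, 2884, 2901, 2918, 2935, 3464, 3481, 3498, 3515],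
  [0, 68, 136, 204, 1536, 1604, 1672, 1740, 2816, 2884, 2952, 3020, 3328, 3396, 3464, 3532],
  [0, 17, 34, 51, 1672, 1689, 1706, 1723, 3020, 3037, 3054, 3071, 3396, 3413, 3430, 3447],
  [0, 68, 136, 204, 1553, 1621, 1689, 1757, 2850, 2918, 2986, 3054, 3379, 3447, 3515, 3583],
  [0, 17, 34, 51, 68, 85, 102, 119, 136, 153, 170, 187, 204, 221, 238, 255],
  [0, 119, 153, 238, 1536, 1655, 1689, 1774, 2816, 2935, 2969, 3054, 3328, 3447, 3481, 3566],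
  [0, 17, 34, 51, 1604, 1621, 1638, 1655, 2952, 2969, 2986, 3003, 3532, 3549, 3566, 3583],
  [0, 119, 153, 238, 1553, 1638, 1672, 1791, 2850, 2901, 3003, 3020, 3379, 3396, 3498, 3549],
  [0, 102, 187, 221, 1536, 1638, 1723, 1757, 2816, 2918, 3003, 3037, 3328, 3430, 3515, 3549],
  [0, 85, 170, 255, 1536, 1621, 1706, 1791, 2816, 2901, 2986, 3071, 3328, 3413, 3498, 3583]]

/-- Preimages of the members of these images. -/
def witTab : List (List ℕ) := [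
  [0],
  [0, 6, 11, 13, 4, 2, 15, 9, 8, 14, 3, 5, 12, 10, 7, 1],
  [0, 5, 10, 15, 12, 9, 6, 3, 4, 1, 14, 11, 8, 13, 2, 7],
  [0, 5, 10, 15, 12, 9, 6, 3, 4, 1, 14, 11, 8, 13, 2, 7],
  [0, 1, 2, 3, 512, 513, 514, 515, 768, 769, 770, 771, 256, 257, 258, 259],
  [0, 6, 11, 13, 4, 2, 15, 9, 8, 14, 3, 5, 12, 10, 7, 1],
  [0, 5, 10, 15, 3, 6, 9, 12, 1, 4, 11, 14, 2, 7, 8, 13],
  [0, 4, 8, 12, 512, 516, 520, 524, 768, 772, 776, 780, 256, 260, 264, 268],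
  [0, 9, 14, 7, 1, 8, 15, 6, 2, 11, 12, 5, 3, 10, 13, 4],
  [0, 7, 9, 14, 8, 15, 1, 6, 12, 11, 5, 2, 4, 3, 13, 10],
  [0, 1, 2, 3, 4, 5, 6, 7, 8, 9, 10, 11, 12, 13, 14, 15],
  [0, 256, 512, 768, 513, 769, 1, 257, 770, 514, 258, 2, 259, 3, 771, 515],
  [0, 13, 6, 11, 2, 15, 4, 9, 3, 14, 5, 8, 1, 12, 7, 10],
  [0, 7, 9, 14, 8, 15, 1, 6, 12, 11, 5, 2, 4, 3, 13, 10],
  [0, 512, 768, 256, 514, 2, 258, 770, 771, 259, 3, 515, 257, 769, 513, 1],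
  [0, 768, 256, 512, 515, 259, 771, 3, 769, 1, 513, 257, 258, 514, 2, 770]]

/-- Words moving the first short vector to each short vector. -/
def trS : List (List ℕ) := [
  [],
  [0],
  [0, 0],
  [1, 3],
  [1, 1, 3],
  [3],
  [1],
  [2, 3, 3],
  [2],
  [1, 2],
  [1, 0],
  [1, 2, 0],
  [2, 1, 2],
  [2, 0],
  [3, 1],
  [1, 1, 2],
  [3, 3],
  [1, 2, 1, 2]]

/-- Words conjugating the first nontrivial element to each of the sixteen. -/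
def trW : List (List ℕ) := [
  [],
  [],
  [1, 3],
  [2, 2, 3, 3],
  [2],
  [2, 2],
  [2, 3, 2],
  [3, 2],
  [3, 2, 2],
  [2, 3, 2, 2],
  [1, 3, 2],
  [2, 3, 3],
  [3, 3],
  [3],
  [2, 3],
  [2, 2, 3]]

/-- Words of a group of order 27. -/
def pWd : List (List ℕ) := [
  [],
  [0],
  [2],
  [3, 2, 1, 2, 2, 3, 1, 3],
  [0, 0],
  [2, 0],
  [3, 2, 1, 2, 2, 3, 1, 3, 0],
  [2, 2],
  [3, 2, 1, 2, 2, 3, 1, 3, 2],
  [2, 3, 2, 1, 2, 2, 3, 1, 3],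
  [3, 2, 2, 3, 3, 2, 3, 1, 2],
  [2, 0, 0],
  [1, 1, 3, 2, 2, 1, 3, 2, 3],
  [2, 2, 0],
  [2, 3, 2, 1, 2, 2, 3, 1, 3, 0],
  [3, 2, 2, 3, 3, 2, 3, 1, 2, 0],
  [1, 3, 2, 2, 1, 1, 3, 1, 3],
  [3, 3, 2, 3, 1, 3, 3, 1, 1],
  [3, 2, 2, 3, 3, 2, 3, 1, 2, 2],
  [1, 2, 1, 3, 1, 2, 3, 1, 3],
  [1, 1, 2, 1, 2, 3, 1, 2, 1],
  [1, 1, 2, 1, 2, 3, 1, 2, 1, 0],
  [2, 2, 0, 0],
  [2, 3, 2, 2, 3, 3, 2, 3, 1],
  [3, 2, 2, 3, 3, 2, 3, 1],
  [3, 2, 2, 3, 3, 2, 3, 1, 0],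
  [3, 1, 1, 1, 3, 3, 1, 3, 1]]

/-- Their matrices. -/
def pMt : List (List ℕ) := [
  [1, 4, 16, 64, 256, 1024],
  [2, 8, 32, 128, 512, 2048],
  [2222, 1880, 3639, 1865, 3827, 430],
  [3729, 3740, 998, 3725, 3229, 2363],
  [3, 12, 48, 192, 768, 3072],
  [3319, 2476, 1817, 2446, 1873, 759],
  [2018, 2020, 379, 1990, 1254, 3613],
  [3683, 2270, 3623, 3655, 1976, 615],
  [1594, 3023, 1714, 1720, 357, 1210],
  [2847, 3397, 3027, 3036, 698, 2271],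
  [2417, 3736, 2357, 1007, 1263, 3722],
  [1113, 3828, 2350, 3783, 2466, 857],
  [2419, 2424, 669, 2379, 2171, 1830],
  [1969, 3175, 1849, 1929, 2524, 953],
  [3365, 1674, 3425, 3428, 991, 3173],
  [3730, 2028, 3610, 373, 2165, 1999],
  [1349, 2602, 1364, 2722, 1023, 3327],
  [2698, 3903, 2728, 4083, 341, 1109],
  [3910, 3878, 3940, 3938, 870, 3174],
  [4047, 1301, 4092, 1361, 682, 2218],
  [1419, 1339, 1464, 1459, 443, 1211],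
  [2765, 2589, 2780, 2769, 733, 2269],
  [2514, 1209, 2334, 2510, 3684, 478],
  [2019, 2420, 1839, 666, 3226, 2373],
  [2854, 2950, 1617, 2980, 934, 3323],
  [3387, 3531, 2978, 3576, 507, 1117],
  [1565, 1613, 3571, 1628, 605, 2214]]

/-- Words of a group of order 5. -/
def qWd : List (List ℕ) := [
  [],
  [1, 3, 0],
  [1, 3, 1, 3, 0, 0],
  [1, 3, 1, 3, 1, 3],
  [3, 3, 3, 3, 3, 1, 1, 1, 0]]

/-- Their matrices. -/
def qMt : List (List ℕ) := [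
  [1, 4, 16, 64, 256, 1024],
  [3985, 631, 3865, 1262, 1516, 2631],
  [681, 3241, 2375, 2044, 2034, 2327],
  [2853, 1183, 1679, 671, 1683, 3448],
  [2265, 1716, 985, 1671, 3374, 3426]]

/-- For adjacent short vectors: words fixing both and conjugating the elements having the first in their image. -/
def stTab : List (ℕ × ℕ × List (ℕ × List ℕ)) := [
  (17, 34, [(4, []), (6, [2, 3, 0]), (8, [2, 1, 3]), (10, [2, 2, 3, 2]), (12, [2, 3, 1, 3, 1])]),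
  (17, 51, [(4, []), (6, [2, 3, 0]), (8, [2, 1, 3]), (10, [2, 2, 3, 2]), (12, [2, 3, 1, 3, 1])]),
  (34, 17, [(4, []), (6, [2, 3, 0]), (8, [2, 1, 3]), (10, [2, 2, 3, 2]), (12, [2, 3, 1, 3, 1])]),
  (34, 51, [(4, []), (6, [2, 3, 0]), (8, [2, 1, 3]), (10, [2, 2, 3, 2]), (12, [2, 3, 1, 3, 1])]),
  (51, 17, [(4, []), (6, [2, 3, 0]), (8, [2, 1, 3]), (10, [2, 2, 3, 2]), (12, [2, 3, 1, 3, 1])]),
  (51, 34, [(4, []), (6, [2, 3, 0]), (8, [2, 1, 3]), (10, [2, 2, 3, 2]), (12, [2, 3, 1, 3, 1])]),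
  (68, 136, [(1, []), (3, [3, 1, 3, 1, 2]), (7, [3, 2, 0]), (9, [2, 3, 2, 2]), (10, [1, 3, 2])]),
  (68, 204, [(1, []), (3, [3, 1, 3, 1, 2]), (7, [3, 2, 0]), (9, [2, 3, 2, 2]), (10, [1, 3, 2])]),
  (136, 68, [(1, []), (3, [3, 1, 3, 1, 2]), (7, [3, 2, 0]), (9, [2, 3, 2, 2]), (10, [1, 3, 2])]),
  (136, 204, [(1, []), (3, [3, 1, 3, 1, 2]), (7, [3, 2, 0]), (9, [2, 3, 2, 2]), (10, [1, 3, 2])]),
  (204, 68, [(1, []), (3, [3, 1, 3, 1, 2]), (7, [3, 2, 0]), (9, [2, 3, 2, 2]), (10, [1, 3, 2])]),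
  (204, 136, [(1, []), (3, [3, 1, 3, 1, 2]), (7, [3, 2, 0]), (9, [2, 3, 2, 2]), (10, [1, 3, 2])]),
  (1536, 2816, [(4, []), (7, [3, 0]), (11, [3, 1, 2, 3, 1]), (14, [1, 2, 3, 1, 3]), (15, [1, 1, 3, 3])]),
  (1536, 3328, [(4, []), (7, [3, 0]), (11, [3, 1, 2, 3, 1]), (14, [1, 2, 3, 1, 3]), (15, [1, 1, 3, 3])]),
  (1638, 3003, [(1, []), (2, [1, 3, 0]), (12, [3, 3, 0]), (13, [1, 1, 3]), (14, [1, 3, 3])]),
  (1638, 3549, [(1, []), (2, [1, 3, 0]), (12, [3, 3, 0]), (13, [1, 1, 3]), (14, [1, 3, 3])]),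
  (1689, 3054, [(2, []), (5, [2, 2, 3, 3, 1]), (8, [1, 3, 2, 0]), (9, [1, 3, 1, 2]), (11, [1, 1, 2, 3, 1])]),
  (1689, 3447, [(2, []), (5, [2, 2, 3, 3, 1]), (8, [1, 3, 2, 0]), (9, [1, 3, 1, 2]), (11, [1, 1, 2, 3, 1])]),
  (1791, 2901, [(3, []), (5, [1, 3, 1, 0]), (6, [2, 3, 2, 3, 2]), (13, [1, 1, 1, 2, 3]), (15, [3, 1, 2, 1])]),
  (1791, 3498, [(3, []), (5, [1, 3, 1, 0]), (6, [2, 3, 2, 3, 2]), (13, [1, 1, 1, 2, 3]), (15, [3, 1, 2, 1])]),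
  (2816, 1536, [(4, []), (7, [3, 0]), (11, [3, 1, 2, 3, 1]), (14, [1, 2, 3, 1, 3]), (15, [1, 1, 3, 3])]),
  (2816, 3328, [(4, []), (7, [3, 0]), (11, [3, 1, 2, 3, 1]), (14, [1, 2, 3, 1, 3]), (15, [1, 1, 3, 3])]),
  (2901, 1791, [(3, []), (5, [1, 3, 1, 0]), (6, [2, 3, 2, 3, 2]), (13, [1, 1, 1, 2, 3]), (15, [3, 1, 2, 1])]),
  (2901, 3498, [(3, []), (5, [1, 3, 1, 0]), (6, [2, 3, 2, 3, 2]), (13, [1, 1, 1, 2, 3]), (15, [3, 1, 2, 1])]),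
  (3003, 1638, [(1, []), (2, [1, 3, 0]), (12, [3, 3, 0]), (13, [1, 1, 3]), (14, [1, 3, 3])]),
  (3003, 3549, [(1, []), (2, [1, 3, 0]), (12, [3, 3, 0]), (13, [1, 1, 3]), (14, [1, 3, 3])]),
  (3054, 1689, [(2, []), (5, [2, 2, 3, 3, 1]), (8, [1, 3, 2, 0]), (9, [1, 3, 1, 2]), (11, [1, 1, 2, 3, 1])]),
  (3054, 3447, [(2, []), (5, [2, 2, 3, 3, 1]), (8, [1, 3, 2, 0]), (9, [1, 3, 1, 2]), (11, [1, 1, 2, 3, 1])]),
  (3328, 1536, [(4, []), (7, [3, 0]), (11, [3, 1, 2, 3, 1]), (14, [1, 2, 3, 1, 3]), (15, [1, 1, 3, 3])]),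
  (3328, 2816, [(4, []), (7, [3, 0]), (11, [3, 1, 2, 3, 1]), (14, [1, 2, 3, 1, 3]), (15, [1, 1, 3, 3])]),
  (3447, 1689, [(2, []), (5, [2, 2, 3, 3, 1]), (8, [1, 3, 2, 0]), (9, [1, 3, 1, 2]), (11, [1, 1, 2, 3, 1])]),
  (3447, 3054, [(2, []), (5, [2, 2, 3, 3, 1]), (8, [1, 3, 2, 0]), (9, [1, 3, 1, 2]), (11, [1, 1, 2, 3, 1])]),
  (3498, 1791, [(3, []), (5, [1, 3, 1, 0]), (6, [2, 3, 2, 3, 2]), (13, [1, 1, 1, 2, 3]), (15, [3, 1, 2, 1])]),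
  (3498, 2901, [(3, []), (5, [1, 3, 1, 0]), (6, [2, 3, 2, 3, 2]), (13, [1, 1, 1, 2, 3]), (15, [3, 1, 2, 1])]),
  (3549, 1638, [(1, []), (2, [1, 3, 0]), (12, [3, 3, 0]), (13, [1, 1, 3]), (14, [1, 3, 3])]),
  (3549, 3003, [(1, []), (2, [1, 3, 0]), (12, [3, 3, 0]), (13, [1, 1, 3]), (14, [1, 3, 3])])]

end CfsgLib.Trans3.FischerType.PairCode
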