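import Cfsg.Agent.Lib.Trans3.FiLarge.Orbits

/-!
The facts about a maximal totally singular subspace `U` of the six-dimensional module, the elementary abelian
group `W` of order 16 fixing it pointwise inside a cover of `PSU₄(3)`, and a group `N` normalising both, that
the analysis of the largest elementary abelian subgroup of a group of large Fischer type uses.
-/

set_option autoImplicit false

namespace CfsgLib.Trans3.FischerType.PairCode

open Matrix CfsgLib.Chev.U43U6 CfsgLib.Trans3.FiLarge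

/-- The alternating form: two elements of `Q` commute exactly when it vanishes. -/
noncomputable def bform (u v : V6) : F4 := herm6 u v + herm6 u v ^ 2

/-- The image of `w - 1`. -/
def line (w : GS F4) : Set V6 := {d | ∃ v, d = mat w *ᵥ v + v}

/-- The module facts. -/
structure WFacts (b : Fin 3) where
  /-- The subspace. -/
  U : AddSubgroup V6
  /-- The group of order 16. -/
  W : Subgroup (GS F4)
  /-- A group normalising both. -/
  N : Subgroup (GS F4)
  N_le : N ≤ K b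
  W_le : W ≤ N
  card_U : Nat.card U = 64
  card_W : Nat.card W = 16
  N_norm : ∀ g ∈ N, ∀ w ∈ W, g * w * g⁻¹ ∈ W
  N_U : ∀ g ∈ N, ∀ u ∈ U, mat g *ᵥ u ∈ U
  U_bform : ∀ u ∈ U, ∀ v ∈ U, bform u v = 0
  W_fix : ∀ w ∈ W, ∀ u ∈ U, mat w *ᵥ u = u
  line_sub : ∀ w ∈ W, line w ⊆ U
  line_card : ∀ w ∈ W, w ≠ 1 → (line w).ncard = 16
  card_small : {u : V6 | u ∈ U ∧ InSmall b u}.ncard = 18
  card_big : {u : V6 | u ∈ U ∧ InBig b u}.ncard = 45
  span_small : AddSubgroup.closure {u : V6 | u ∈ U ∧ InSmall b u} = U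
  span_big : AddSubgroup.closure {u : V6 | u ∈ U ∧ InBig b u} = U
  trans_small : ∀ t ∈ U, InSmall b t → ∀ u ∈ U, InSmall b u → ∃ g ∈ N, mat g *ᵥ t = u
  trans_W : ∀ w ∈ W, w ≠ 1 → ∀ w' ∈ W, w' ≠ 1 → ∃ g ∈ N, g * w * g⁻¹ = w'
  order_dvd : 135 ∣ Nat.card N
  nbr : ∀ t ∈ U, InSmall b t → {u : V6 | u ∈ U ∧ InSmall b u ∧ InSmall b (t + u)}.ncard = 2
  line_small : ∀ w ∈ W, w ≠ 1 → {u : V6 | u ∈ line w ∧ InSmall b u}.ncard = 6
  line_point : ∀ w ∈ W, ∀ t ∈ line w, InSmall b t → ∀ u ∈ U, InSmall b u → InSmall b (t + u) →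
    u ∈ line w
  parity : ∀ w ∈ W, ∀ v v' : V6, InSmall b (mat w *ᵥ v + v) → InSmall b (mat w *ᵥ v' + v') →
    InSmall b (mat w *ᵥ v + v + (mat w *ᵥ v' + v')) → bform (mat w *ᵥ v + v) v' = 1
  stab_trans : ∀ t ∈ U, InSmall b t → ∀ u ∈ U, InSmall b u → InSmall b (t + u) →
    ∀ w ∈ W, t ∈ line w → ∀ w' ∈ W, t ∈ line w' → ∃ g ∈ N, mat g *ᵥ t = t ∧ mat g *ᵥ u = u ∧ g * w * g⁻¹ = w'

end CfsgLib.Trans3.FischerType.PairCode
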