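import Mathlib

/-!
Data to identify the pointwise fixer of the plane: three standard vectors complementing it, the coordinates of
the standard basis, two short vectors and one orbit of the other planes.
-/

set_option autoImplicit false

namespace CfsgLib.Trans3.FischerType.PairCode

/-- Three indices of standard vectors complementing the plane. -/
def cmpI : List ℕ := [0, 1, 4]

/-- Each standard vector: three coefficients and a vector of the plane. -/
def stdDec : List (List ℕ) := [
  [1, 0, 0, 0],
  [0, 1, 0, 0],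
  [1, 0, 0, 17],
  [0, 1, 0, 68],
  [0, 0, 1, 0],
  [0, 0, 2, 1536]]

/-- Two short vectors. -/
def probes : List ℕ := [5, 6]

/-- An orbit of 162 planes, by bases. -/
def plTab : List (List ℕ) := [
  [85, 283, 1063],
  [85, 286, 1078],
  [85, 295, 1069],
  [85, 301, 1054],
  [85, 310, 1081],
  [85, 313, 1051],
  [86, 281, 1082],
  [86, 287, 1049],
  [86, 293, 1079],
  [86, 302, 1061],
  [86, 311, 1055],
  [86, 314, 1070],
  [87, 282, 1053],
  [87, 285, 1071],
  [87, 294, 1050],
  [87, 303, 1083],
  [87, 309, 1062],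
  [87, 315, 1077],
  [89, 278, 1055],
  [89, 287, 1085],
  [89, 293, 1067],
  [89, 299, 1082],
  [89, 314, 1046],
  [89, 317, 1061],
  [90, 279, 1062],
  [90, 285, 1047],
  [90, 294, 1086],
  [90, 297, 1053],
  [90, 315, 1065],
  [90, 318, 1083],
  [91, 277, 1081],
  [91, 286, 1066],
  [91, 295, 1045],
  [91, 298, 1063],
  [91, 313, 1087],
  [91, 319, 1054],
  [93, 279, 1050],
  [93, 282, 1065],
  [93, 297, 1077],
  [93, 303, 1047],
  [93, 309, 1086],
  [93, 318, 1071],
  [94, 277, 1069],
  [94, 283, 1087],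
  [94, 298, 1051],
  [94, 301, 1066],
  [94, 310, 1045],
  [94, 319, 1078],
  [95, 278, 1079],
  [95, 281, 1046],
  [95, 299, 1070],
  [95, 302, 1085],
  [95, 311, 1067],
  [95, 317, 1049],
  [101, 278, 1070],
  [101, 281, 1085],
  [101, 299, 1049],
  [101, 302, 1067],
  [101, 311, 1046],
  [101, 317, 1079],
  [102, 279, 1077],
  [102, 282, 1047],
  [102, 297, 1071],
  [102, 303, 1086],
  [102, 309, 1065],
  [102, 318, 1050],
  [103, 277, 1051],
  [103, 283, 1066],
  [103, 298, 1078],
  [103, 301, 1045],
  [103, 310, 1087],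
  [103, 319, 1069],
  [105, 282, 1083],
  [105, 285, 1050],
  [105, 294, 1077],
  [105, 303, 1062],
  [105, 309, 1053],
  [105, 315, 1071],
  [106, 283, 1054],
  [106, 286, 1069],
  [106, 295, 1051],
  [106, 301, 1081],
  [106, 310, 1063],
  [106, 313, 1078],
  [107, 281, 1061],
  [107, 287, 1079],
  [107, 293, 1070],
  [107, 302, 1055],
  [107, 311, 1082],
  [107, 314, 1049],
  [109, 277, 1063],
  [109, 286, 1045],
  [109, 295, 1087],
  [109, 298, 1054],
  [109, 313, 1066],
  [109, 319, 1081],
  [110, 278, 1082],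
  [110, 287, 1067],
  [110, 293, 1046],
  [110, 299, 1061],
  [110, 314, 1085],
  [110, 317, 1055],
  [111, 279, 1053],
  [111, 285, 1086],
  [111, 294, 1065],
  [111, 297, 1083],
  [111, 315, 1047],
  [111, 318, 1062],
  [117, 279, 1083],
  [117, 285, 1065],
  [117, 294, 1047],
  [117, 297, 1062],
  [117, 315, 1086],
  [117, 318, 1053],
  [118, 277, 1054],
  [118, 286, 1087],
  [118, 295, 1066],
  [118, 298, 1081],
  [118, 313, 1045],
  [118, 319, 1063],
  [119, 278, 1061],
  [119, 287, 1046],
  [119, 293, 1085],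
  [119, 299, 1055],
  [119, 314, 1067],
  [119, 317, 1082],
  [121, 277, 1078],
  [121, 283, 1045],
  [121, 298, 1069],
  [121, 301, 1087],
  [121, 310, 1066],
  [121, 319, 1051],
  [122, 278, 1049],
  [122, 281, 1067],
  [122, 299, 1079],
  [122, 302, 1046],
  [122, 311, 1085],
  [122, 317, 1070],
  [123, 279, 1071],
  [123, 282, 1086],
  [123, 297, 1050],
  [123, 303, 1065],
  [123, 309, 1047],
  [123, 318, 1077],
  [125, 281, 1055],
  [125, 287, 1070],
  [125, 293, 1049],
  [125, 302, 1082],
  [125, 311, 1061],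
  [125, 314, 1079],
  [126, 282, 1062],
  [126, 285, 1077],
  [126, 294, 1071],
  [126, 303, 1053],
  [126, 309, 1083],
  [126, 315, 1050],
  [127, 283, 1081],
  [127, 286, 1051],
  [127, 295, 1078],
  [127, 301, 1063],
  [127, 310, 1054],
  [127, 313, 1069]]

end CfsgLib.Trans3.FischerType.PairCode
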