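import Cfsg.Agent.Lib.Trans3.FischerType.WModel
import Cfsg.Agent.Lib.Trans3.FischerType.WFixData
import Cfsg.Agent.Lib.Trans3.FischerType.SylowChecks

/-!
Further facts on the plane: it is an `F₄`-subspace and its own perp, and the group of order 16 is its whole
pointwise fixer in the cover number `0`; it is the plane of the Sylow data.
-/

set_option autoImplicit false
set_option maxRecDepth 100000

namespace CfsgLib.Trans3.FischerType.PairCode

open Matrix CfsgLib.Chev.U43U6 CfsgLib.Trans3.FiLarge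
open CfsgLib.Trans3.FischerType (app app_mul Real mat_injective bIdx wTab pE)

local notation "hω₀" => CfsgLib.Trans3.FiLarge.isOmega_om

theorem smul_mem : ∀ u ∈ Ugrp, ∀ a : F4, a • u ∈ Ugrp := by
  have h : (uL.all fun c => (List.range 4).all fun a => uL.contains (sclV a c)) = true := by decide +kernel
  rintro _ ⟨c, hc, rfl⟩ a
  obtain ⟨k, hk, rfl⟩ := dec_surj hω₀ card_F4 a
  simp only [List.all_eq_true, List.mem_range, List.contains_iff_mem] at h
  exact ⟨sclV k c, h c hc k hk, (vdec_scl hω₀ k c).symm⟩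

theorem perp_mem : ∀ v : V6, (∀ u ∈ Ugrp, bform v u = 0) → v ∈ Ugrp := by
  have h : ((List.range 4096).all fun c => uL.contains c ||
      uL.any fun d => Nat.beq (Nat.xor (herm c d) (cjE (herm c d))) 1) = true := by decide +kernel
  intro v hv
  rw [← vdec_codeV v] at hv ⊢
  have hc := of_range h (codeV_lt v)
  simp only [Bool.or_eq_true, List.contains_iff_mem, List.any_eq_true] at hc
  rcases hc with hc | ⟨d, hd, e⟩
  · exact ⟨_, hc, rfl⟩
  · have h0 := hv _ ⟨d, hd, rfl⟩
    rw [bform_vdec, Nat.eq_of_beq_eq_true e, dec_one] at h0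
    exact absurd h0 one_ne_zero

/-- A member of the span of a plane of the orbit. -/
def InPl (p : List ℕ) (v : V6) : Prop :=
  ∃ a b c : F4, v = a • vdec om (p.getD 0 0) + b • vdec om (p.getD 1 0) + c • vdec om (p.getD 2 0)

/-- The image of the basis of a plane lies in the span of another one. -/
def Moves (g : GS F4) (p q : List ℕ) : Prop := ∀ i < 3, InPl q (mat g *ᵥ vdec om (p.getD i 0))

theorem InPl.map {g : GS F4} {p q : List ℕ} (h : Moves g p q) {v : V6} (hv : InPl p v) :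
    InPl q (mat g *ᵥ v) := by
  obtain ⟨a, b, c, rfl⟩ := hv
  obtain ⟨a0, b0, c0, e0⟩ := h 0 (by norm_num)
  obtain ⟨a1, b1, c1, e1⟩ := h 1 (by norm_num)
  obtain ⟨a2, b2, c2, e2⟩ := h 2 (by norm_num)
  refine ⟨a * a0 + b * a1 + c * a2, a * b0 + b * b1 + c * b2, a * c0 + b * c1 + c * c2, ?_⟩
  rw [Matrix.mulVec_add, Matrix.mulVec_add, Matrix.mulVec_smul, Matrix.mulVec_smul, Matrix.mulVec_smul,
    e0, e1, e2]
  module

/-- The code of a member of the span. -/
def plVec (q : List ℕ) (k : ℕ) : ℕ :=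
  Nat.xor (Nat.xor (sclV (k % 4) (q.getD 0 0)) (sclV (k / 4 % 4) (q.getD 1 0))) (sclV (k / 16) (q.getD 2 0))

theorem inPl_plVec (q : List ℕ) (k : ℕ) : InPl q (vdec om (plVec q k)) :=
  ⟨_, _, _, by rw [plVec, vdec_xor hω₀, vdec_xor hω₀, vdec_scl hω₀, vdec_scl hω₀, vdec_scl hω₀]⟩

/-- Some plane of the orbit contains the images of the basis. -/
def movesTo (m p : List ℕ) : Bool :=
  plTab.any fun q => (List.range 3).all fun i =>
    (List.range 64).any fun k => Nat.beq (plVec q k) (mulV m (p.getD i 0))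

theorem moves_of_code {g : GS F4} {m p : List ℕ} (hg : Real om g m) (h : movesTo m p = true) :
    ∃ q ∈ plTab, Moves g p q := by
  simp only [movesTo, List.any_eq_true, List.all_eq_true, List.mem_range] at h
  obtain ⟨q, hq, hall⟩ := h
  refine ⟨q, hq, fun i hi => ?_⟩
  obtain ⟨k, -, e⟩ := hall i hi
  show InPl q (app g _)
  rw [hg.app_dec hω₀, ← Nat.eq_of_beq_eq_true e]
  exact inPl_plVec q k

theorem movesTo_of {g : GS F4} {m p q : List ℕ} (hg : Real om g m) (hq : q ∈ plTab) (h : Moves g p q) :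
    movesTo m p = true := by
  simp only [movesTo, List.any_eq_true, List.all_eq_true, List.mem_range]
  refine ⟨q, hq, fun i hi => ?_⟩
  obtain ⟨a, b, c, e⟩ := h i hi
  obtain ⟨a', ha, rfl⟩ := dec_surj hω₀ card_F4 a
  obtain ⟨b', hb, rfl⟩ := dec_surj hω₀ card_F4 b
  obtain ⟨c', hc, rfl⟩ := dec_surj hω₀ card_F4 c
  refine ⟨a' + 4 * b' + 16 * c', by omega, ?_⟩
  have hk : plVec q (a' + 4 * b' + 16 * c') = mulV m (p.getD i 0) := by
    refine vdec_inj hω₀ (Nat.xor_lt_two_pow (n := 12) (Nat.xor_lt_two_pow (n := 12) (sclV_lt _ _) (sclV_lt _ _))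
      (sclV_lt _ _)) (mulV_lt' _ _) ?_
    rw [← hg.app_dec hω₀, app, e, plVec, vdec_xor hω₀, vdec_xor hω₀, vdec_scl hω₀, vdec_scl hω₀,
      vdec_scl hω₀, show (a' + 4 * b' + 16 * c') % 4 = a' by omega,
      show (a' + 4 * b' + 16 * c') / 4 % 4 = b' by omega, show (a' + 4 * b' + 16 * c') / 16 = c' by omega]
  rw [hk, Nat.beq_refl]

/-- The orbit is closed under the three generators. -/
def closOK : Bool := (List.range 3).all fun t => plTab.all fun p => movesTo (genM 0 t) p

theorem clos_ok : closOK = true := by decide +kernel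

theorem basis_inPl (p : List ℕ) : ∀ i < 3, InPl p (vdec om (p.getD i 0)) := by
  intro i hi
  interval_cases i
  · exact ⟨1, 0, 0, by module⟩
  · exact ⟨0, 1, 0, by module⟩
  · exact ⟨0, 0, 1, by module⟩

theorem moves_K {g : GS F4} (hg : g ∈ K 0) : ∀ p ∈ plTab, ∃ q ∈ plTab, Moves g p q := by
  rw [K_eq_closure] at hg
  have e : g ∈ Submonoid.closure (Set.range (genEl 0)) := by
    rw [← Subgroup.closure_toSubmonoid_of_finite]; exact hg
  clear hg
  induction e using Submonoid.closure_induction with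
  | mem x hx =>
    obtain ⟨t, rfl⟩ := hx
    intro p hp
    have h := clos_ok
    simp only [closOK, List.all_eq_true, List.mem_range] at h
    exact moves_of_code (genEl_mat 0 t) (h t t.2 p hp)
  | one =>
    intro p hp
    exact ⟨p, hp, fun i hi => by rw [show mat (1 : GS F4) = 1 from rfl, one_mulVec]; exact basis_inPl p i hi⟩
  | mul x y _ _ hx hy =>
    intro p hp
    obtain ⟨q, hq, h1⟩ := hy p hp
    obtain ⟨r, hr, h2⟩ := hx q hq
    refine ⟨r, hr, fun i hi => ?_⟩
    show InPl r (app (x * y) _)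
    rw [app_mul]
    exact InPl.map h2 (h1 i hi)

/-- A complementing standard vector. -/
def cmpV (i : ℕ) : ℕ := 4 ^ cmpI.getD i 0

/-- The matrix with the given images of the complementing vectors, fixing the plane. -/
def fixMat (a b c : ℕ) : List ℕ :=
  stdDec.map fun r => Nat.xor (r.getD 3 0)
    (Nat.xor (Nat.xor (sclV (r.getD 0 0) a) (sclV (r.getD 1 0) b)) (sclV (r.getD 2 0) c))

theorem std_ok : ((List.range 6).all fun r => let t := stdDec.getD r []
    uL.contains (t.getD 3 0) && (fixMat (cmpV 0) (cmpV 1) (cmpV 2)).getD r 0 == 4 ^ r) = true := by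
  decide +kernel

/-- Whether a matrix in question is excluded or listed. -/
def leafOK (m : List ℕ) : Bool :=
  !(probes.all fun v => Nat.beq (lab 0 (mulV m v)) (lab 0 v)) ||
    !movesTo m (plTab.getD 0 []) || wMt.contains m

/-- Every isometry fixing the plane pointwise is excluded or listed. -/
def fixOK : Bool :=
  uL.all fun u0 => let a := Nat.xor (cmpV 0) u0
    !Nat.beq (herm a a) 1 || uL.all fun u1 => let b := Nat.xor (cmpV 1) u1
      !Nat.beq (herm b b) 1 || !Nat.beq (herm a b) 0 || uL.all fun u2 => let c := Nat.xor (cmpV 2) u2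
        !Nat.beq (herm c c) 1 || !Nat.beq (herm a c) 0 || !Nat.beq (herm b c) 0 || leafOK (fixMat a b c)

theorem fix_ok : fixOK = true := by decide +kernel

theorem cmp_ok : (((List.range 3).all fun i => Nat.blt (cmpV i) 4096) &&
    Nat.beq (herm (cmpV 0) (cmpV 0)) 1 && Nat.beq (herm (cmpV 1) (cmpV 1)) 1 &&
    Nat.beq (herm (cmpV 2) (cmpV 2)) 1 && Nat.beq (herm (cmpV 0) (cmpV 1)) 0 &&
    Nat.beq (herm (cmpV 0) (cmpV 2)) 0 && Nat.beq (herm (cmpV 1) (cmpV 2)) 0) = true := by decide +kernel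

theorem single_code : ∀ r : Fin 6, (Pi.single r 1 : V6) = vdec om (4 ^ (r : ℕ)) := by
  have h : ∀ r i : Fin 6, crd (4 ^ (r : ℕ)) i = if i = r then 1 else 0 := by decide +kernel
  intro r
  funext i
  show _ = dec om (crd _ i)
  rw [h, Pi.single_apply]
  split
  · rw [dec_one]
  · rw [dec_zero]

theorem fixer_mem : ∀ g ∈ K 0, (∀ u ∈ Ugrp, mat g *ᵥ u = u) → g ∈ Wgrp := by
  intro g hg hfix
  have himg : ∀ x : ℕ, ∃ u ∈ uL, mat g *ᵥ vdec om x = vdec om (Nat.xor x u) := by
    intro x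
    obtain ⟨u, hu, e⟩ := perp_mem (mat g *ᵥ vdec om x + vdec om x) fun u hu => by
      have e : herm6 (mat g *ᵥ vdec om x + vdec om x) u = 0 := by
        rw [herm6_add_left]
        conv_lhs => arg 1; rw [← hfix u hu]
        rw [show herm6 (mat g *ᵥ vdec om x) (mat g *ᵥ u) = herm6 (vdec om x) u from herm_mat g _ _,
          add_self_F4]
      rw [bform, e]
      simp
    refine ⟨u, hu, ?_⟩
    rw [vdec_xor hω₀, ← e, add_comm (vdec om x), add_assoc, add_self_V6, add_zero]
  obtain ⟨u0, hu0, e0⟩ := himg (cmpV 0)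
  obtain ⟨u1, hu1, e1⟩ := himg (cmpV 1)
  obtain ⟨u2, hu2, e2⟩ := himg (cmpV 2)
  have hh : ∀ i j a c k, k < 4 → mat g *ᵥ vdec om (cmpV i) = vdec om a →
      mat g *ᵥ vdec om (cmpV j) = vdec om c → Nat.beq (herm (cmpV i) (cmpV j)) k = true →
      Nat.beq (herm a c) k = true := by
    intro i j a c k hk ea ec h
    have e : herm a c = herm (cmpV i) (cmpV j) := by
      refine dec_inj hω₀ (herm_lt _ _) (herm_lt _ _) ?_
      rw [← herm6_vdec, ← herm6_vdec, ← ea, ← ec]
      exact herm_mat g _ _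
    rw [e]; exact h
  have hcmp := cmp_ok
  simp only [Bool.and_eq_true] at hcmp
  obtain ⟨⟨⟨⟨⟨⟨-, h00⟩, h11⟩, h22⟩, h01⟩, h02⟩, h12⟩ := hcmp
  have hm : Real om g (fixMat (Nat.xor (cmpV 0) u0) (Nat.xor (cmpV 1) u1) (Nat.xor (cmpV 2) u2)) := by
    refine Matrix.ext_of_mulVec_single fun r => ?_
    have hr := of_range std_ok r.2
    simp only [Bool.and_eq_true, List.contains_iff_mem, beq_iff_eq] at hr
    have hget : ∀ a b c, (fixMat a b c).getD r 0 = Nat.xor ((stdDec.getD r []).getD 3 0)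
        (Nat.xor (Nat.xor (sclV ((stdDec.getD r []).getD 0 0) a) (sclV ((stdDec.getD r []).getD 1 0) b))
          (sclV ((stdDec.getD r []).getD 2 0) c)) := by
      intro a b c
      have hl : (r : ℕ) < stdDec.length := r.2
      simp [fixMat, List.getD_eq_getElem?_getD, List.getElem?_map, List.getElem?_eq_getElem hl]
    have hrhs : mdec om (fixMat (Nat.xor (cmpV 0) u0) (Nat.xor (cmpV 1) u1) (Nat.xor (cmpV 2) u2)) *ᵥ
        Pi.single r 1 = vdec om ((fixMat (Nat.xor (cmpV 0) u0) (Nat.xor (cmpV 1) u1)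
          (Nat.xor (cmpV 2) u2)).getD r 0) := by
      funext i
      simp [mdec, vdec, colM, Matrix.mulVec_single]
    rw [hrhs, single_code, ← hr.2, hget, hget]
    simp only [vdec_xor hω₀, vdec_scl hω₀, Matrix.mulVec_add, Matrix.mulVec_smul]
    rw [e0, e1, e2, hfix _ ⟨_, hr.1, rfl⟩]
    simp only [vdec_xor hω₀]
  have hf := fix_ok
  simp only [fixOK, List.all_eq_true] at hf
  have h1 := hf u0 hu0
  simp only [hh 0 0 _ _ 1 (by norm_num) e0 e0 h00, Bool.not_true, Bool.false_or, List.all_eq_true] at h1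
  have h2 := h1 u1 hu1
  simp only [hh 1 1 _ _ 1 (by norm_num) e1 e1 h11, hh 0 1 _ _ 0 (by norm_num) e0 e1 h01, Bool.not_true,
    Bool.false_or, List.all_eq_true] at h2
  have h3 := h2 u2 hu2
  simp only [hh 2 2 _ _ 1 (by norm_num) e2 e2 h22, hh 0 2 _ _ 0 (by norm_num) e0 e2 h02,
    hh 1 2 _ _ 0 (by norm_num) e1 e2 h12, Bool.not_true, Bool.false_or] at h3
  generalize fixMat (Nat.xor (cmpV 0) u0) (Nat.xor (cmpV 1) u1) (Nat.xor (cmpV 2) u2) = m at hm h3
  simp only [leafOK, Bool.or_eq_true, List.contains_iff_mem, List.any_eq_true, Bool.and_eq_true,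
    Bool.not_eq_eq_eq_not, Bool.not_true] at h3
  rcases h3 with (h | hp') | h
  · exfalso
    have hprobe : (probes.all fun v => Nat.blt v 4096) = true := by decide +kernel
    simp only [List.all_eq_false] at h
    obtain ⟨v, hv, hne⟩ := h
    have hv' : v < 4096 := Nat.blt_eq.symm ▸ (List.all_eq_true.1 hprobe v hv) |> fun h => by simpa using h
    have e := lab_mulVec hg (vdec om v)
    rw [show mat g *ᵥ vdec om v = vdec om (mulV m v) from hm.app_dec hω₀ v, codeV_vdec (mulV_lt' _ _),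
      codeV_vdec hv'] at e
    rw [show lab (0 : Fin 3) _ = lab 0 _ from rfl, show lab (0 : Fin 3) v = lab 0 v from rfl] at e
    exact hne (by rw [e, Nat.beq_refl])
  · exfalso
    obtain ⟨q, hq, hmv⟩ := moves_K hg (plTab.getD 0 []) (by decide)
    exact Bool.false_ne_true (hp'.symm.trans (movesTo_of hm hq hmv))
  · exact ⟨m, h, hm⟩

theorem w0_perp : ∀ v : V6, (∀ u ∈ w0.U, bform v u = 0) → v ∈ w0.U := perp_mem

theorem w0_fixer : ∀ g ∈ K 0, (∀ u ∈ w0.U, mat g *ᵥ u = u) → g ∈ w0.W := fixer_mem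

theorem w0_smul : ∀ u ∈ w0.U, ∀ a : F4, a • u ∈ w0.U := smul_mem

theorem exists_wfacts : ∃ f : WFacts 0, (∀ v : V6, (∀ u ∈ f.U, bform v u = 0) → v ∈ f.U) ∧
    (∀ g ∈ K 0, (∀ u ∈ f.U, mat g *ᵥ u = u) → g ∈ f.W) ∧ ∀ u ∈ f.U, ∀ a : F4, a • u ∈ f.U :=
  ⟨w0, w0_perp, w0_fixer, w0_smul⟩

/-- The plane is the fixed plane of the Sylow data. -/
theorem mem_w0_U_iff {u : V6} : u ∈ w0.U ↔ ∃ c ∈ wTab, u = vdec om c := by
  have h : (uL.all (fun c => wTab.contains c) && wTab.all fun c => uL.contains c) = true := by decide +kernel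
  simp only [Bool.and_eq_true, List.all_eq_true, List.contains_iff_mem] at h
  exact ⟨fun ⟨c, hc, e⟩ => ⟨c, h.1 c hc, e⟩, fun ⟨c, hc, e⟩ => ⟨c, h.2 c hc, e⟩⟩

/-- The group of order 16 is the first subgroup of the Sylow data. -/
theorem mem_w0_W_iff {g : GS F4} : g ∈ w0.W ↔ ∃ e ∈ bIdx, Real om g (pE e) := by
  have h : (wMt.all (fun m => bIdx.any fun e => pE e == m) && bIdx.all fun e => wMt.contains (pE e)) = true := by
    decide +kernel
  simp only [Bool.and_eq_true, List.all_eq_true, List.any_eq_true, List.contains_iff_mem, beq_iff_eq] at h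
  constructor
  · rintro ⟨m, hm, e⟩
    obtain ⟨k, hk, rfl⟩ := h.1 m hm
    exact ⟨k, hk, e⟩
  · rintro ⟨k, hk, e⟩
    exact ⟨_, h.2 k hk, e⟩

end CfsgLib.Trans3.FischerType.PairCode
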