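import Cfsg.Agent.Lib.Trans3.FischerType.WDef
import Cfsg.Agent.Lib.Trans3.FischerType.WChecks
import Mathlib.GroupTheory.OrderOfElement

/-!
The plane, the group of order 16 fixing it pointwise and the stabiliser, for the cover number `0`.
-/

set_option autoImplicit false
set_option maxRecDepth 100000

namespace CfsgLib.Trans3.FischerType.PairCode

open Matrix CfsgLib.Chev.U43U6 CfsgLib.Trans3.FiLarge
open CfsgLib.Trans3.FischerType (mulM idM wordM wordM_length app app_mul app_one app_inv app_injective Real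
  mdec_mulM mdec_idM kWord kWord_mem kWord_real_of_ok mat_injective)

local notation "hω₀" => CfsgLib.Trans3.FiLarge.isOmega_om

theorem add_self_F4 (x : F4) : x + x = 0 := by
  rw [← two_mul, (hω₀).2, zero_mul]

theorem add_self_V6 (v : V6) : v + v = 0 := funext fun i => add_self_F4 (v i)

theorem neg_V6 (v : V6) : -v = v := neg_eq_of_add_eq_zero_left (add_self_V6 v)

/-- A generator of the stabiliser. -/
noncomputable def nEl (k : Fin 4) : GS F4 := kWord hω₀ card_F4 (nWd.getD k [])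

theorem nMt_length : nMt.length = 4 := rfl

theorem nEl_mem (k : Fin 4) : nEl k ∈ K 0 := kWord_mem hω₀ card_F4 _

theorem nEl_real (k : Fin 4) : Real om (nEl k) (nMt.getD k []) :=
  kWord_real_of_ok hω₀ card_F4 (of_range gens_ok (by rw [nMt_length]; exact k.2))

/-- The stabiliser. -/
noncomputable def Ngrp : Subgroup (GS F4) := Subgroup.closure (Set.range nEl)

/-- The element of a word in the generators. -/
noncomputable def gEl : List ℕ → GS F4
  | [] => 1
  | k :: w => nEl ⟨k % 4, Nat.mod_lt _ (by norm_num)⟩ * gEl w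

theorem gEl_mem : ∀ w, gEl w ∈ Ngrp
  | [] => one_mem _
  | _ :: w => mul_mem (Subgroup.subset_closure ⟨_, rfl⟩) (gEl_mem w)

theorem gEl_real : ∀ {w : List ℕ}, w.all (fun k => Nat.blt k nMt.length) = true → Real om (gEl w) (gM w)
  | [], _ => (mdec_idM hω₀).symm
  | k :: w, h => by
    rw [List.all_cons, Bool.and_eq_true, Nat.blt_eq, nMt_length] at h
    have e := nEl_real ⟨k % 4, Nat.mod_lt _ (by norm_num)⟩
    simp only [Nat.mod_eq_of_lt h.1] at e
    show mat (nEl _) * mat (gEl w) = mdec om (mulM (nMt.getD k []) (wordM nMt w))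
    rw [mdec_mulM hω₀ _ (wordM_length _ w), (gEl_real (w := w) (by rw [nMt_length]; exact h.2) : mat (gEl w) = mdec om (wordM nMt w))]
    simp only [Nat.mod_eq_of_lt h.1]
    rw [e]; rfl

theorem mdec_inj {a c : List ℕ} (la : a.length = 6) (lc : c.length = 6) (ha : ∀ x ∈ a, x < 4096)
    (hc : ∀ x ∈ c, x < 4096) (h : mdec om a = mdec om c) : a = c := by
  refine List.ext_getElem (la.trans lc.symm) fun i h1 h2 => vdec_inj hω₀ (ha _ (List.getElem_mem h1))
    (hc _ (List.getElem_mem h2)) (funext fun r => ?_)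
  have hr : mdec om a r ⟨i, la ▸ h1⟩ = mdec om c r ⟨i, la ▸ h1⟩ := by rw [h]
  simp only [mdec, colM, List.getD_eq_getElem?_getD, List.getElem?_eq_getElem h1,
    List.getElem?_eq_getElem h2, Option.getD_some] at hr
  exact hr

section Tab

variable {ws ms : List (List ℕ)}

theorem tab_facts (h : tabOK ws ms = true) :
    (∀ m ∈ ms, ∃ g ∈ Ngrp, Real om g m) ∧ (∀ m ∈ ms, m.length = 6 ∧ ∀ c ∈ m, c < 4096) ∧
      idM ∈ ms ∧ ms.Nodup ∧ ∀ a ∈ ms, ∀ c ∈ ms, mulM a c ∈ ms := by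
  simp only [tabOK, Bool.and_eq_true, List.all_eq_true, List.mem_range, beq_iff_eq, decide_eq_true_iff,
    List.contains_iff_mem, Nat.blt_eq] at h
  obtain ⟨⟨⟨⟨h1, h2⟩, h3⟩, h4⟩, h5⟩ := h
  refine ⟨fun m hm => ?_, fun m hm => ⟨Nat.eq_of_beq_eq_true (h2 m hm).1,
    fun c hc => (h2 m hm).2 c hc⟩, h3, h4, h5⟩
  obtain ⟨i, hi, rfl⟩ := List.getElem_of_mem hm
  refine ⟨gEl (ws.getD i []), gEl_mem _, ?_⟩
  have h6 : ms.getD i [] = ms[i] := by
    rw [List.getD_eq_getElem?_getD, List.getElem?_eq_getElem hi, Option.getD_some]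
  have := gEl_real (w := ws.getD i []) (List.all_eq_true.2 fun x hx => by simpa [Nat.blt_eq] using (h1 i hi).1 x hx)
  rwa [(h1 i hi).2, h6] at this

/-- The group of a table. -/
noncomputable def tabGrp (h : tabOK ws ms = true) : Subgroup (GS F4) :=
  { carrier := {g | ∃ m ∈ ms, Real om g m}
    one_mem' := ⟨idM, (tab_facts h).2.2.1, (mdec_idM hω₀).symm⟩
    mul_mem' := by
      rintro a c ⟨m, hm, ea⟩ ⟨m', hm', ec⟩
      refine ⟨mulM m m', (tab_facts h).2.2.2.2 m hm m' hm', ?_⟩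
      show mat a * mat c = _
      rw [mdec_mulM hω₀ _ ((tab_facts h).2.1 m' hm').1, ea, ec]
    inv_mem' := by
      intro a ha
      let S : Submonoid (GS F4) :=
        { carrier := {g | ∃ m ∈ ms, Real om g m}
          one_mem' := ⟨idM, (tab_facts h).2.2.1, (mdec_idM hω₀).symm⟩
          mul_mem' := by
            rintro a c ⟨m, hm, ea⟩ ⟨m', hm', ec⟩
            refine ⟨mulM m m', (tab_facts h).2.2.2.2 m hm m' hm', ?_⟩
            show mat a * mat c = _
            rw [mdec_mulM hω₀ _ ((tab_facts h).2.1 m' hm').1, ea, ec] }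
      have hinv : a⁻¹ = a ^ (orderOf a - 1) := by
        rw [inv_eq_of_mul_eq_one_right]
        rw [← pow_succ', Nat.sub_add_cancel (orderOf_pos a), pow_orderOf_eq_one]
      show a⁻¹ ∈ S
      rw [hinv]
      exact pow_mem (show a ∈ S from ha) _ }

theorem mem_tabGrp (h : tabOK ws ms = true) {g : GS F4} :
    g ∈ tabGrp h ↔ ∃ m ∈ ms, Real om g m := Iff.rfl

theorem tabGrp_le (h : tabOK ws ms = true) : tabGrp h ≤ Ngrp := by
  rintro g ⟨m, hm, hg⟩
  obtain ⟨g', hg', e⟩ := (tab_facts h).1 m hm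
  exact mat_injective (hg.trans e.symm) ▸ hg'

theorem card_tabGrp (h : tabOK ws ms = true) : Nat.card (tabGrp h) = ms.length := by
  classical
  obtain ⟨hex, hshape, -, hnd, -⟩ := tab_facts h
  let f : ↥(tabGrp h) → {m // m ∈ ms.toFinset} := fun g =>
    ⟨g.2.choose, List.mem_toFinset.2 g.2.choose_spec.1⟩
  have hf : Function.Bijective f := by
    refine ⟨fun g g' e => Subtype.ext (mat_injective ?_), fun m => ?_⟩
    · have e' : g.2.choose = g'.2.choose := congrArg Subtype.val e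
      exact g.2.choose_spec.2.trans ((congrArg (mdec om) e').trans g'.2.choose_spec.2.symm)
    · obtain ⟨g, -, hg⟩ := hex m (List.mem_toFinset.1 m.2)
      refine ⟨⟨g, m, List.mem_toFinset.1 m.2, hg⟩, Subtype.ext ?_⟩
      have hm' := (show (⟨g, m, List.mem_toFinset.1 m.2, hg⟩ : ↥(tabGrp h)).1 ∈ tabGrp h from
        ⟨m, List.mem_toFinset.1 m.2, hg⟩).choose_spec
      exact mdec_inj (hshape _ hm'.1).1 (hshape _ (List.mem_toFinset.1 m.2)).1 (hshape _ hm'.1).2
        (hshape _ (List.mem_toFinset.1 m.2)).2 (hm'.2.symm.trans hg)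
  rw [Nat.card_eq_of_bijective f hf, Nat.card_eq_fintype_card, Fintype.card_coe,
    List.toFinset_card_of_nodup hnd]

end Tab

/-- The group of order 16. -/
noncomputable def Wgrp : Subgroup (GS F4) := tabGrp w_tab

theorem card_Wgrp : Nat.card Wgrp = 16 := card_tabGrp w_tab

theorem mem_Wgrp {w : GS F4} : w ∈ Wgrp ↔ ∃ i < wMt.length, Real om w (wm i) := by
  constructor
  · rintro ⟨m, hm, e⟩
    obtain ⟨i, hi, rfl⟩ := List.getElem_of_mem hm
    exact ⟨i, hi, by rwa [wm, List.getD_eq_getElem?_getD, List.getElem?_eq_getElem hi, Option.getD_some]⟩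
  · rintro ⟨i, hi, e⟩
    rw [wm, List.getD_eq_getElem?_getD, List.getElem?_eq_getElem hi, Option.getD_some] at e
    exact ⟨_, List.getElem_mem hi, e⟩

theorem exists_wEl {i : ℕ} (hi : i < wMt.length) : ∃ w ∈ Wgrp, Real om w (wm i) := by
  have hm : wm i ∈ wMt := by
    rw [wm, List.getD_eq_getElem?_getD, List.getElem?_eq_getElem hi, Option.getD_some]
    exact List.getElem_mem hi
  obtain ⟨g, -, hg⟩ := (tab_facts w_tab).1 _ hm
  exact ⟨g, ⟨_, hm, hg⟩, hg⟩

theorem wm_length {i : ℕ} (hi : i < wMt.length) : (wm i).length = 6 := by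
  refine ((tab_facts w_tab).2.1 _ ?_).1
  rw [wm, List.getD_eq_getElem?_getD, List.getElem?_eq_getElem hi, Option.getD_some]
  exact List.getElem_mem hi

/-- Conjugation read on codes. -/
theorem conj_real {g w w' : GS F4} {a m m' : List ℕ} (hg : Real om g a) (la : a.length = 6)
    (lm : m.length = 6) (hw : Real om w m) (hw' : Real om w' m') (e : mulM a m = mulM m' a) :
    g * w * g⁻¹ = w' := by
  rw [mul_inv_eq_iff_eq_mul]
  refine mat_injective ?_
  show mat g * mat w = mat w' * mat g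
  rw [hg, hw, hw', ← mdec_mulM hω₀ _ lm, ← mdec_mulM hω₀ _ la, e]

/-- A property closed under products holding for the generators holds on the whole group. -/
theorem ngrp_induction {P : GS F4 → Prop} (h1 : P 1) (hgen : ∀ k, P (nEl k))
    (hmul : ∀ x y, P x → P y → P (x * y)) {g : GS F4} (hg : g ∈ Ngrp) : P g := by
  have e : g ∈ Submonoid.closure (Set.range nEl) := by
    rw [← Subgroup.closure_toSubmonoid_of_finite]; exact hg
  clear hg
  induction e using Submonoid.closure_induction with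
  | mem x hx => obtain ⟨k, rfl⟩ := hx; exact hgen k
  | one => exact h1
  | mul x y _ _ hx hy => exact hmul x y hx hy

theorem nMt_mem (k : Fin 4) : nMt.getD k [] ∈ nMt := by
  fin_cases k <;> decide

theorem nMt_shape : ∀ m ∈ nMt, m.length = 6 := by decide

theorem N_norm {g : GS F4} (hg : g ∈ Ngrp) : ∀ w ∈ Wgrp, g * w * g⁻¹ ∈ Wgrp := by
  refine ngrp_induction (P := fun g : GS F4 => ∀ w ∈ Wgrp, g * w * g⁻¹ ∈ Wgrp) ?_ ?_ ?_ hg
  · intro w hw; simpa using hw
  · rintro k w ⟨m, hm, e⟩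
    have h := conj_ok
    simp only [conjOK, List.all_eq_true, List.any_eq_true, beq_iff_eq] at h
    obtain ⟨m', hm', he⟩ := h _ (nMt_mem k) m hm
    obtain ⟨w', -, hw'⟩ := (tab_facts w_tab).1 m' hm'
    rw [conj_real (nEl_real k) (nMt_shape _ (nMt_mem k)) ((tab_facts w_tab).2.1 m hm).1 e hw' he]
    exact ⟨m', hm', hw'⟩
  · intro x y hx hy w hw
    simpa [mul_assoc] using hx _ (hy w hw)

theorem u_facts : (0 ∈ uL) ∧ uL.Nodup ∧ (∀ c ∈ uL, c < 4096) ∧
    ∀ c ∈ uL, ∀ d ∈ uL, Nat.xor c d ∈ uL ∧ Nat.xor (herm c d) (cjE (herm c d)) = 0 := by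
  have h := u_shape
  simp only [Bool.and_eq_true, List.all_eq_true, decide_eq_true_iff, List.contains_iff_mem, Nat.blt_eq] at h
  exact ⟨h.1.1.1, h.1.1.2, h.1.2, fun c hc d hd => ⟨(h.2 c hc d hd).1, Nat.eq_of_beq_eq_true (h.2 c hc d hd).2⟩⟩

/-- The plane. -/
noncomputable def Ugrp : AddSubgroup V6 where
  carrier := {u | ∃ c ∈ uL, u = vdec om c}
  zero_mem' := ⟨0, u_facts.1, vdec_zero.symm⟩
  add_mem' := by
    rintro _ _ ⟨c, hc, rfl⟩ ⟨d, hd, rfl⟩
    exact ⟨_, (u_facts.2.2.2 c hc d hd).1, (vdec_xor hω₀ c d).symm⟩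
  neg_mem' := by
    rintro u hu
    rwa [neg_V6]

theorem mem_Ugrp {u : V6} : u ∈ Ugrp ↔ ∃ c ∈ uL, u = vdec om c := Iff.rfl

theorem ncard_codes {L : List ℕ} (hn : L.Nodup) (hL : ∀ c ∈ L, c < 4096) :
    {u : V6 | ∃ c ∈ L, u = vdec om c}.ncard = L.length := by
  classical
  have e : {u : V6 | ∃ c ∈ L, u = vdec om c} = (vdec om) '' (L.toFinset : Set ℕ) := by
    ext u
    simp only [Set.mem_setOf_eq, Set.mem_image, Finset.mem_coe, List.mem_toFinset]
    exact ⟨fun ⟨c, hc, e⟩ => ⟨c, hc, e.symm⟩, fun ⟨c, hc, e⟩ => ⟨c, hc, e.symm⟩⟩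
  rw [e, Set.InjOn.ncard_image, Set.ncard_coe_finset, List.toFinset_card_of_nodup hn]
  intro a ha c hc e
  exact vdec_inj hω₀ (hL a (List.mem_toFinset.1 ha)) (hL c (List.mem_toFinset.1 hc)) e

theorem card_Ugrp : Nat.card Ugrp = 64 :=
  (Nat.card_coe_set_eq _).trans (ncard_codes u_facts.2.1 u_facts.2.2.1)

theorem bform_vdec (c d : ℕ) :
    bform (vdec om c) (vdec om d) = dec om (Nat.xor (herm c d) (cjE (herm c d))) := by
  rw [bform, herm6_vdec, dec_xor hω₀, dec_cj hω₀]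

theorem U_bform : ∀ u ∈ Ugrp, ∀ v ∈ Ugrp, bform u v = 0 := by
  rintro _ ⟨c, hc, rfl⟩ _ ⟨d, hd, rfl⟩
  rw [bform_vdec, (u_facts.2.2.2 c hc d hd).2, dec_zero]

theorem N_U {g : GS F4} (hg : g ∈ Ngrp) : ∀ u ∈ Ugrp, mat g *ᵥ u ∈ Ugrp := by
  refine ngrp_induction (P := fun g : GS F4 => ∀ u ∈ Ugrp, mat g *ᵥ u ∈ Ugrp) ?_ ?_ ?_ hg
  · intro u hu; simpa [app, app_one] using hu
  · rintro k _ ⟨c, hc, rfl⟩
    have h := u_inv
    simp only [List.all_eq_true, List.contains_iff_mem] at h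
    exact ⟨_, h _ (nMt_mem k) c hc, (nEl_real k).app_dec hω₀ c⟩
  · intro x y hx hy u hu
    have := hx _ (hy u hu)
    show app (x * y) u ∈ Ugrp
    rwa [app_mul]

theorem W_fix : ∀ w ∈ Wgrp, ∀ u ∈ Ugrp, mat w *ᵥ u = u := by
  rintro w ⟨m, hm, e⟩ _ ⟨c, hc, rfl⟩
  have h := w_fix
  simp only [List.all_eq_true] at h
  show app w _ = _
  rw [e.app_dec hω₀, Nat.eq_of_beq_eq_true (h m hm c hc)]

theorem inSmall_vdec {c : ℕ} (hc : c < 4096) : InSmall 0 (vdec om c) ↔ lab 0 c = 1 := by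
  rw [inSmall_iff, codeV_vdec hc]; rfl

theorem inBig_vdec {c : ℕ} (hc : c < 4096) : InBig 0 (vdec om c) ↔ lab 0 c = 2 := by
  rw [inBig_iff, codeV_vdec hc]; rfl

theorem s_facts : sL.length = 18 ∧ sL.Nodup ∧ (∀ c ∈ sL, c < 4096) ∧ (∀ c ∈ sL, c ∈ uL) ∧
    (∀ c ∈ sL, lab 0 c = 1) ∧ ∀ c ∈ uL, lab 0 c = 1 → c ∈ sL := by
  have h := s_list
  simp only [Bool.and_eq_true, List.all_eq_true, decide_eq_true_iff, List.contains_iff_mem, beq_iff_eq,
    Nat.blt_eq] at h
  refine ⟨h.1.1.1.1, h.1.1.1.2, h.1.1.2, fun c hc => (h.1.2 c hc).1,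
    fun c hc => Nat.eq_of_beq_eq_true (h.1.2 c hc).2, fun c hc e => ?_⟩
  have h2 := h.2 c hc
  rw [e, Nat.beq_refl] at h2
  exact List.contains_iff_mem.1 h2.symm

theorem g_facts : gL.length = 45 ∧ gL.Nodup ∧ (∀ c ∈ gL, c < 4096) ∧ (∀ c ∈ gL, c ∈ uL) ∧
    (∀ c ∈ gL, lab 0 c = 2) ∧ ∀ c ∈ uL, lab 0 c = 2 → c ∈ gL := by
  have h := g_list
  simp only [Bool.and_eq_true, List.all_eq_true, decide_eq_true_iff, List.contains_iff_mem, beq_iff_eq,
    Nat.blt_eq] at h
  refine ⟨h.1.1.1.1, h.1.1.1.2, h.1.1.2, fun c hc => (h.1.2 c hc).1,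
    fun c hc => Nat.eq_of_beq_eq_true (h.1.2 c hc).2, fun c hc e => ?_⟩
  have h2 := h.2 c hc
  rw [e, Nat.beq_refl] at h2
  exact List.contains_iff_mem.1 h2.symm

theorem small_set : {u : V6 | u ∈ Ugrp ∧ InSmall 0 u} = {u | ∃ c ∈ sL, u = vdec om c} := by
  ext u
  constructor
  · rintro ⟨⟨c, hc, rfl⟩, h⟩
    exact ⟨c, s_facts.2.2.2.2.2 c hc ((inSmall_vdec (u_facts.2.2.1 c hc)).1 h), rfl⟩
  · rintro ⟨c, hc, rfl⟩
    exact ⟨⟨c, s_facts.2.2.2.1 c hc, rfl⟩, (inSmall_vdec (s_facts.2.2.1 c hc)).2 (s_facts.2.2.2.2.1 c hc)⟩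

theorem big_set : {u : V6 | u ∈ Ugrp ∧ InBig 0 u} = {u | ∃ c ∈ gL, u = vdec om c} := by
  ext u
  constructor
  · rintro ⟨⟨c, hc, rfl⟩, h⟩
    exact ⟨c, g_facts.2.2.2.2.2 c hc ((inBig_vdec (u_facts.2.2.1 c hc)).1 h), rfl⟩
  · rintro ⟨c, hc, rfl⟩
    exact ⟨⟨c, g_facts.2.2.2.1 c hc, rfl⟩, (inBig_vdec (g_facts.2.2.1 c hc)).2 (g_facts.2.2.2.2.1 c hc)⟩

theorem span_eq {S : Set V6} {L : List ℕ} {T : List (List ℕ)} (hs : sumOK L T = true)
    (hS : S = {u | ∃ c ∈ L, u = vdec om c}) (hsub : ∀ c ∈ L, c ∈ uL) : AddSubgroup.closure S = Ugrp := by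
  subst hS
  refine le_antisymm ((AddSubgroup.closure_le _).2 ?_) ?_
  · rintro _ ⟨c, hc, rfl⟩; exact ⟨c, hsub c hc, rfl⟩
  rintro _ ⟨c, hc, rfl⟩
  obtain ⟨i, hi, rfl⟩ := List.getElem_of_mem hc
  simp only [sumOK, List.all_eq_true, List.mem_range, Bool.and_eq_true, Nat.blt_eq] at hs
  obtain ⟨h1, h2⟩ := hs i hi
  have e : uL.getD i 0 = uL[i] := by
    rw [List.getD_eq_getElem?_getD, List.getElem?_eq_getElem hi, Option.getD_some]
  rw [← e, ← Nat.eq_of_beq_eq_true h2]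
  generalize T.getD i [] = l at h1
  induction l with
  | nil => rw [List.map_nil, List.foldr_nil, vdec_zero]; exact zero_mem _
  | cons k l ih =>
    rw [List.map_cons, List.foldr_cons, vdec_xor hω₀]
    refine add_mem (AddSubgroup.subset_closure ⟨_, ?_, rfl⟩) (ih fun x hx => h1 x (List.mem_cons_of_mem _ hx))
    have hk := h1 k (List.mem_cons_self ..)
    rw [List.getD_eq_getElem?_getD, List.getElem?_eq_getElem hk, Option.getD_some]
    exact List.getElem_mem hk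

end CfsgLib.Trans3.FischerType.PairCode
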